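/-
The tensor square of a four space without halves: which standard elements lie in the derived group.
-/
import Cfsg.Agent.Lib.Classical.OTPow.Even

set_option autoImplicit false
set_option linter.unusedSectionVars false

namespace Cfsg.Agent.Classical.OTPow.Four

open Matrix QuadraticMap
open Cfsg.Agent.Classical
open Cfsg.Agent.Classical.OCount (PND)
open Cfsg.Agent.Classical.ORefl (Iso toMat refl refl_apply)
open Cfsg.Agent.Classical.OOmega (rf)

section Orth

variable {F : Type*} [Field F] {V : Type*} [AddCommGroup V] [Module F V] {Q : QuadraticForm F V}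

/-- A product of reflections in pairwise orthogonal vectors. -/
theorem prod_rf_orth : ∀ (L : List V), L.Pairwise (fun v w => polar Q v w = 0) → ∀ x : V,
    ((L.map (rf Q)).prod).1 x = x - (L.map fun v => ((Q v)⁻¹ * polar Q v x) • v).sum
  | [], _, x => by simp
  | v :: L, h, x => by
    obtain ⟨hv, hL⟩ := List.pairwise_cons.1 h
    have hs : polar Q v ((L.map fun w => ((Q w)⁻¹ * polar Q w x) • w).sum) = 0 := by
      clear hL h
      induction L with
      | nil => simp [polar_zero_right]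
      | cons w L ih =>
        rw [List.map_cons, List.sum_cons, polar_add_right, ih fun a ha => hv a (List.mem_cons_of_mem _ ha),
          polar_smul_right, hv w List.mem_cons_self, smul_zero, add_zero]
    rw [List.map_cons, List.prod_cons, List.map_cons, List.sum_cons]
    show refl Q v (((L.map (rf Q)).prod).1 x) = _
    rw [prod_rf_orth L hL x, refl_apply, polar_sub_right, hs, sub_zero]
    abel

end Orth

variable {F : Type*} [Field F] [Fintype F] {d : Fin 4 → F}

/-- The derived group of the isometries of the tensor square. -/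
abbrev Og (d : Fin 4 → F) : Subgroup (GL (Fin 2 → Fin 4) F) :=
  ⁅IsoD (wt (σ := Fin 2) d), IsoD (wt (σ := Fin 2) d)⁆

theorem two_le : 2 ≤ Fintype.card (Fin 2 → Fin 4) := by simp

theorem four_values (hd : Shape d) : d 0 = 1 ∧ d 1 = 1 ∧ d 2 = 1 ∧ ¬ IsSquare (d 3) := by
  refine ⟨hd.one _ (Or.inl ?_), hd.one _ (Or.inl ?_), hd.one _ (Or.inl ?_),
    hd.four rfl 3 fun h => ?_⟩ <;> simp [Main] at *
  exact absurd h (by decide)

theorem qc_mul_sq (hd : Shape d) {a : F} (ha : a ≠ 0) : ¬ IsSquare (d 3 * (a * a)) := fun ⟨r, hr⟩ =>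
  (four_values hd).2.2.2 ⟨r / a, by field_simp; linear_combination hr⟩

open scoped _root_.Classical in
theorem neg_one_of {x : F} (hx : ¬ IsSquare x) {u : ℤˣ} (h : ((u : ℤˣ) : ℤ) = quadraticChar F x) : u = -1 :=
  Units.ext (h.trans (quadraticChar_neg_one_iff_not_isSquare.2 hx))

/-- A slot reflection has trivial determinant and non-trivial spinor norm. -/
theorem refl_both (hd : Shape d) (l : Fin 2) {v : Fin 4 → F} (hv : Qd d v ≠ 0) :
    ∃ G : ↥(Iso (QW (wt (σ := Fin 2) d))), ((toMat _ G).1 : GL (Fin 2 → Fin 4) F) = facG l (refG d v) ∧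
      OOmega.both (QW (wt (σ := Fin 2) d)) hd.two (pnd_QW hd.two fun a => wt_ne_zero hd.ne a) G = (1, -1) := by
  obtain ⟨L, hL, hr⟩ := facG_refl_both hd two_le l
  obtain ⟨e1, e2⟩ := hr v hv
  refine ⟨L (rf (Qd d) v), hL _, Prod.ext ?_ ?_⟩
  · show OOmega.dsign _ _ _ = 1
    rw [e1]
    simp [Fintype.card_subtype_compl]
    decide
  · show OOmega.spinor _ _ = -1
    refine neg_one_of ?_ e2
    obtain ⟨j₀, hj₀⟩ : ∃ j : Fin 2, j ≠ l := ⟨l + 1, by fin_cases l <;> decide⟩
    haveI : Unique {j : Fin 2 // j ≠ l} :=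
      ⟨⟨⟨j₀, hj₀⟩⟩, fun ⟨j, hj⟩ => Subtype.ext (show j = j₀ by omega)⟩
    rw [← (Equiv.funUnique {j : Fin 2 // j ≠ l} (Fin 4)).symm.prod_comp]
    simp only [restW, Fintype.prod_unique]
    rw [Fin.prod_univ_four]
    obtain ⟨h0, h1, h2', -⟩ := four_values hd
    simp only [Equiv.funUnique_symm_apply, uniqueElim_const, h0, h1, h2']
    intro hs
    exact qc_mul_sq hd (mul_ne_zero hv hv) (by
      rwa [show d 3 * (Qd d v * Qd d v * (Qd d v * Qd d v)) =
        1 * Qd d v * (1 * Qd d v) * (1 * Qd d v) * (d 3 * Qd d v) by ring])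

/-- The test: the derived group is the kernel of determinant and spinor norm. -/
theorem mem_og_iff (hd : Shape d) {g : GL (Fin 2 → Fin 4) F} {G : ↥(Iso (QW (wt (σ := Fin 2) d)))}
    (hG : ((toMat _ G).1 : GL (Fin 2 → Fin 4) F) = g) :
    g ∈ Og d ↔ OOmega.both (QW (wt (σ := Fin 2) d)) hd.two (pnd_QW hd.two fun a => wt_ne_zero hd.ne a) G = 1 := by
  have h := TThreeFour.mem_omega_iff hd.two (pnd_QW hd.two fun a => wt_ne_zero hd.ne a) two_le G
  rwa [hG, omegaGL_QW hd.two] at h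

/-- A slot reflection lies outside. -/
theorem refl_notMem (hd : Shape d) (l : Fin 2) {v : Fin 4 → F} (hv : Qd d v ≠ 0) :
    facG l (refG d v) ∉ Og d := fun h => by
  obtain ⟨G, hG, hb⟩ := refl_both hd l hv
  rw [mem_og_iff hd hG, hb] at h
  exact absurd (congrArg Prod.snd h) (by decide)

/-- Two slot reflections multiply into the derived group. -/
theorem refl_refl_mem (hd : Shape d) (l m : Fin 2) {v w : Fin 4 → F} (hv : Qd d v ≠ 0) (hw : Qd d w ≠ 0) :
    facG l (refG d v) * facG m (refG d w) ∈ Og d := by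
  obtain ⟨G, hG, hb⟩ := refl_both hd l hv
  obtain ⟨G', hG', hb'⟩ := refl_both hd m hw
  refine (mem_og_iff hd (G := G * G') (by rw [map_mul, Subgroup.coe_mul, hG, hG'])).2 ?_
  rw [map_mul, hb, hb']
  decide

/-- A slot isometry, or its product with a slot reflection, lies in the derived group. -/
theorem facG_mem_or (hd : Shape d) (l : Fin 2) {g : GL (Fin 4) F} (hg : g ∈ IsoD d) {m : Fin 2} {v : Fin 4 → F}
    (hv : Qd d v ≠ 0) : facG l g ∈ Og d ∨ facG l g * facG m (refG d v) ∈ Og d := by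
  obtain ⟨L, hL, hr⟩ := facG_refl_both hd two_le l
  obtain ⟨x, rfl⟩ : ∃ x, slotHom d x = g := by rw [← MonoidHom.mem_range, slotHom_range hd.two]; exact hg
  obtain ⟨G, hG, hb⟩ := refl_both hd m hv
  have h1 : ((MonoidHom.fst ℤˣ ℤˣ).comp (OOmega.both (QW (wt (σ := Fin 2) d)) hd.two
      (pnd_QW hd.two fun a => wt_ne_zero hd.ne a))).comp L = 1 := by
    refine OOmega.hom_ext (pnd_Qd hd.two hd.ne) (OOmega.two_ne hd.two) fun w hw => ?_
    show OOmega.dsign hd.two (pnd_QW hd.two fun a => wt_ne_zero hd.ne a) (L (rf (Qd d) w)) = 1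
    rw [(hr w hw).1]
    simp [Fintype.card_subtype_compl]
    decide
  have e : (OOmega.both (QW (wt (σ := Fin 2) d)) hd.two (pnd_QW hd.two fun a => wt_ne_zero hd.ne a) (L x)).1 = 1 :=
    DFunLike.congr_fun h1 x
  rcases Int.units_eq_one_or (OOmega.both (QW (wt (σ := Fin 2) d)) hd.two
    (pnd_QW hd.two fun a => wt_ne_zero hd.ne a) (L x)).2 with h | h
  · exact Or.inl ((mem_og_iff hd (hL x)).2 (Prod.ext e h))
  · refine Or.inr ((mem_og_iff hd (G := L x * G) (by rw [map_mul, Subgroup.coe_mul, hL, hG])).2 ?_)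
    rw [map_mul, hb]
    exact Prod.ext (by rw [Prod.fst_mul, e]; rfl) (by rw [Prod.snd_mul, h]; rfl)

/-- The index pairs below the diagonal. -/
def upper : List (Fin 4 × Fin 4) := [(0, 1), (0, 2), (0, 3), (1, 2), (1, 3), (2, 3)]

/-- The vectors that the exchange of the two slots negates. -/
def antiV (p : Fin 4 × Fin 4) : (Fin 2 → Fin 4) → F :=
  Pi.single ![p.1, p.2] 1 - Pi.single ![p.2, p.1] 1

theorem QW_single (a : Fin 2 → Fin 4) (x : (Fin 2 → Fin 4) → F) :
    polar (QW (wt (σ := Fin 2) d)) x (Pi.single a 1) = 2 * (d (a 0) * d (a 1) * x a) := by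
  rw [polar_QW, Finset.sum_eq_single a (fun b _ hb => by simp [Pi.single_eq_of_ne hb]) (by simp), Pi.single_eq_same,
    mul_one, wt, Fin.prod_univ_two]

theorem polar_antiV (p : Fin 4 × Fin 4) (x : (Fin 2 → Fin 4) → F) :
    polar (QW (wt (σ := Fin 2) d)) x (antiV p) = 2 * (d p.1 * d p.2) * (x ![p.1, p.2] - x ![p.2, p.1]) := by
  rw [antiV, polar_sub_right, QW_single, QW_single]
  simp only [Matrix.cons_val_zero, Matrix.cons_val_one]
  ring

theorem QW_antiV (hd : Shape d) {p : Fin 4 × Fin 4} (hp : p.1 ≠ p.2) :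
    QW (wt (σ := Fin 2) d) (antiV p) = 2 * (d p.1 * d p.2) := by
  have h := polar_antiV (d := d) p (antiV p)
  rw [QuadraticMap.polar_self, nsmul_eq_mul, Nat.cast_ofNat] at h
  have e : (antiV p : (Fin 2 → Fin 4) → F) ![p.1, p.2] - (antiV p : (Fin 2 → Fin 4) → F) ![p.2, p.1] = 2 := by
    have h1 : (![p.1, p.2] : Fin 2 → Fin 4) ≠ ![p.2, p.1] := fun h => hp (congrFun h 0)
    simp [antiV, h1, h1.symm]
    norm_num
  rw [e] at h
  exact mul_left_cancel₀ hd.two (by linear_combination h)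

/-- A conjugate of the exchange of the slots by a similitude has trivial determinant and non-trivial spinor norm. -/
theorem swap_both (hd : Shape d) (φ : GL (Fin 2 → Fin 4) F) {ν : F} (hν : ν ≠ 0)
    (hφ : ∀ x, QW (wt (σ := Fin 2) d) ((φ : Matrix (Fin 2 → Fin 4) (Fin 2 → Fin 4) F) *ᵥ x) =
      ν * QW (wt (σ := Fin 2) d) x) :
    ∃ G : ↥(Iso (QW (wt (σ := Fin 2) d))), ((toMat _ G).1 : GL (Fin 2 → Fin 4) F) =
        φ * permG 4 F (Equiv.swap (0 : Fin 2) 1) * φ⁻¹ ∧
      OOmega.both (QW (wt (σ := Fin 2) d)) hd.two (pnd_QW hd.two fun a => wt_ne_zero hd.ne a) G = (1, -1) := by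
  classical
  obtain ⟨Q, hQdef⟩ : ∃ Q, Q = QW (wt (σ := Fin 2) d) := ⟨_, rfl⟩
  have hQ : PND Q := hQdef ▸ pnd_QW hd.two fun a => wt_ne_zero hd.ne a
  have hn : 2 ≤ Module.finrank F ((Fin 2 → Fin 4) → F) := by rw [Module.finrank_fintype_fun_eq_card]; simp
  have hp : ∀ x y, polar Q ((φ : Matrix (Fin 2 → Fin 4) (Fin 2 → Fin 4) F) *ᵥ x) ((φ : Matrix (Fin 2 → Fin 4) (Fin 2 → Fin 4) F) *ᵥ y) = ν * polar Q x y := fun x y => by
    simp only [polar, ← Matrix.mulVec_add, hQdef, hφ]
    ring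
  obtain ⟨L, hL⟩ : ∃ L : List ((Fin 2 → Fin 4) → F),
      L = upper.map fun p => (φ : Matrix (Fin 2 → Fin 4) (Fin 2 → Fin 4) F) *ᵥ antiV p := ⟨_, rfl⟩
  have hne : ∀ p ∈ upper, p.1 ≠ p.2 := by decide
  have hval : ∀ p ∈ upper, Q ((φ : Matrix (Fin 2 → Fin 4) (Fin 2 → Fin 4) F) *ᵥ antiV p) = ν * (2 * (d p.1 * d p.2)) := fun p hp' => by
    rw [hQdef, hφ, QW_antiV hd (hne p hp')]
  have hne0 : ∀ v ∈ L, Q v ≠ 0 := fun v hv => by
    obtain ⟨p, hp', rfl⟩ := List.mem_map.1 (hL ▸ hv)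
    rw [hval p hp']
    exact mul_ne_zero hν (mul_ne_zero hd.two (mul_ne_zero (hd.ne _) (hd.ne _)))
  have hpw : L.Pairwise fun v w => polar Q v w = 0 := by
    rw [hL, List.pairwise_map]
    have h0 : upper.Pairwise fun p p' => p ≠ p' ∧ p ≠ (p'.2, p'.1) ∧ p.1 ≠ p.2 ∧ p'.1 ≠ p'.2 := by decide
    refine h0.imp fun {p p'} ⟨h1, h3, _, _⟩ => ?_
    rw [hp, polar_comm, hQdef, polar_antiV]
    have e1 : (![p.1, p.2] : Fin 2 → Fin 4) ≠ ![p'.1, p'.2] := fun h =>
      h1 (Prod.ext (congrFun h 0) (congrFun h 1))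
    have e2 : (![p.1, p.2] : Fin 2 → Fin 4) ≠ ![p'.2, p'.1] := fun h =>
      h3 (Prod.ext (congrFun h 0) (congrFun h 1))
    have e3 : (![p.2, p.1] : Fin 2 → Fin 4) ≠ ![p'.1, p'.2] := fun h =>
      h3 (Prod.ext (congrFun h 1) (congrFun h 0))
    have e4 : (![p.2, p.1] : Fin 2 → Fin 4) ≠ ![p'.2, p'.1] := fun h =>
      h1 (Prod.ext (congrFun h 1) (congrFun h 0))
    simp [antiV, e1, e2, e3, e4]
  have hG : ((toMat Q ((L.map (rf Q)).prod)).1 : GL (Fin 2 → Fin 4) F) =
      φ * permG 4 F (Equiv.swap (0 : Fin 2) 1) * φ⁻¹ := by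
    refine gl_ext_mulVec fun x => ?_
    obtain ⟨y, rfl⟩ : ∃ y, (φ : Matrix (Fin 2 → Fin 4) (Fin 2 → Fin 4) F) *ᵥ y = x := ⟨_, gl_mulVec_inv_cancel φ x⟩
    rw [ORefl.toMat_apply, prod_rf_orth L hpw, gl_mul_mulVec, gl_mul_mulVec, gl_inv_mulVec_cancel]
    have key : ∀ p ∈ upper, ((Q ((φ : Matrix (Fin 2 → Fin 4) (Fin 2 → Fin 4) F) *ᵥ antiV p))⁻¹ * polar Q ((φ : Matrix (Fin 2 → Fin 4) (Fin 2 → Fin 4) F) *ᵥ antiV p)
        ((φ : Matrix (Fin 2 → Fin 4) (Fin 2 → Fin 4) F) *ᵥ y)) • ((φ : Matrix (Fin 2 → Fin 4) (Fin 2 → Fin 4) F) *ᵥ antiV p) =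
        (φ : Matrix (Fin 2 → Fin 4) (Fin 2 → Fin 4) F) *ᵥ ((y ![p.1, p.2] - y ![p.2, p.1]) • antiV p) := fun p hp' => by
      rw [hval p hp', hp, hQdef, polar_comm, polar_antiV, Matrix.mulVec_smul]
      congr 1
      have := hd.ne p.1
      have := hd.ne p.2
      have := hd.two
      field_simp
    rw [hL, List.map_map]
    simp only [upper, List.map_cons, List.map_nil, List.sum_cons, List.sum_nil, add_zero, Function.comp_apply]
    rw [key _ (by simp [upper]), key _ (by simp [upper]), key _ (by simp [upper]), key _ (by simp [upper]),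
      key _ (by simp [upper]), key _ (by simp [upper])]
    rw [← Matrix.mulVec_add, ← Matrix.mulVec_add, ← Matrix.mulVec_add, ← Matrix.mulVec_add, ← Matrix.mulVec_add,
      ← Matrix.mulVec_sub]
    congr 1
    funext a
    obtain ⟨i, j, rfl⟩ : ∃ i j, a = ![i, j] := ⟨a 0, a 1, by ext u; fin_cases u <;> rfl⟩
    have hperm : (((permG 4 F (Equiv.swap (0 : Fin 2) 1) : GL (Fin 2 → Fin 4) F) :
        Matrix (Fin 2 → Fin 4) (Fin 2 → Fin 4) F) *ᵥ y) ![i, j] = y ![j, i] := by
      rw [permG_val, Matrix.mulVec, dotProduct, Finset.sum_eq_single ![j, i]]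
      · rw [show permS 4 F (Equiv.swap (0 : Fin 2) 1) ![i, j] ![j, i] = 1 by
          simp [permS_apply', funext_iff, Fin.forall_fin_two]]
        ring
      · intro b _ hb
        rw [show permS 4 F (Equiv.swap (0 : Fin 2) 1) ![i, j] b = 0 by
          rw [permS_apply', if_neg]
          intro h
          exact hb (funext fun u => by
            fin_cases u
            · simpa using (congrFun h 1).symm
            · simpa using (congrFun h 0).symm)]
        ring
      · simp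
    rw [hperm]
    fin_cases i <;> fin_cases j <;> simp [antiV, Pi.single_apply, funext_iff, Fin.forall_fin_two]
  subst hQdef
  refine ⟨(L.map (rf (QW (wt (σ := Fin 2) d)))).prod, hG, Prod.ext ?_ ?_⟩
  · show OOmega.dsign hd.two (pnd_QW hd.two fun a => wt_ne_zero hd.ne a) _ = 1
    rw [map_list_prod, List.map_map]
    simp only [hL, upper, List.map_cons, List.map_nil, List.prod_cons, List.prod_nil, Function.comp_apply]
    rw [OOmega.dsign_rf _ _ (hne0 _ (by simp [hL, upper])), OOmega.dsign_rf _ _ (hne0 _ (by simp [hL, upper])),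
      OOmega.dsign_rf _ _ (hne0 _ (by simp [hL, upper])), OOmega.dsign_rf _ _ (hne0 _ (by simp [hL, upper])),
      OOmega.dsign_rf _ _ (hne0 _ (by simp [hL, upper])), OOmega.dsign_rf _ _ (hne0 _ (by simp [hL, upper]))]
    decide
  show OOmega.spinor (QW (wt (σ := Fin 2) d)) (L.map (rf (QW (wt d)))).prod = -1
  refine (Int.units_eq_one_or _).resolve_left fun h' => ?_
  rw [map_list_prod, List.map_map] at h'
  have hsp : ∀ v ∈ L, ((OOmega.spinor (QW (wt (σ := Fin 2) d)) (rf (QW (wt d)) v) : ℤˣ) : ℤ) =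
      quadraticChar F (QW (wt d) v) := fun v hv => by
    rcases Int.units_eq_one_or (OOmega.spinor (QW (wt (σ := Fin 2) d)) (rf (QW (wt d)) v)) with e | e
    · rw [e, Units.val_one, (quadraticChar_one_iff_isSquare (hne0 v hv)).mpr
        ((OOmega.spinor_rf hd.two hQ hn (hne0 v hv)).mp e)]
    · rw [e, quadraticChar_neg_one_iff_not_isSquare.mpr fun hs => by
        rw [(OOmega.spinor_rf hd.two hQ hn (hne0 v hv)).mpr hs] at e
        exact absurd e (by decide)]
      rfl
  have hz := congrArg (fun u : ℤˣ => (u : ℤ)) h'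
  simp only [hL, upper, List.map_cons, List.map_nil, List.prod_cons, List.prod_nil, Function.comp_apply,
    Units.val_mul, Units.val_one, mul_one] at hz
  rw [hsp _ (by simp [hL, upper]), hsp _ (by simp [hL, upper]), hsp _ (by simp [hL, upper]),
    hsp _ (by simp [hL, upper]), hsp _ (by simp [hL, upper]), hsp _ (by simp [hL, upper]),
    hval _ (by simp [upper]), hval _ (by simp [upper]), hval _ (by simp [upper]), hval _ (by simp [upper]),
    hval _ (by simp [upper]), hval _ (by simp [upper]), ← map_mul, ← map_mul, ← map_mul, ← map_mul, ← map_mul] at hz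
  obtain ⟨h0, h1, h2', h3⟩ := four_values hd
  simp only [h0, h1, h2', one_mul] at hz
  refine absurd hz ?_
  rw [quadraticChar_neg_one_iff_not_isSquare.mpr fun hs => qc_mul_sq hd
    (a := d 3 * (ν * 2) ^ 3) (mul_ne_zero (hd.ne _) (pow_ne_zero _ (mul_ne_zero hν hd.two))) (by
      convert hs using 1
      ring)]
  decide

/-- A conjugate of the exchange of the slots by a similitude lies outside. -/
theorem swap_notMem (hd : Shape d) (φ : GL (Fin 2 → Fin 4) F) {ν : F} (hν : ν ≠ 0)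
    (hφ : ∀ x, QW (wt (σ := Fin 2) d) ((φ : Matrix (Fin 2 → Fin 4) (Fin 2 → Fin 4) F) *ᵥ x) =
      ν * QW (wt (σ := Fin 2) d) x) :
    φ * permG 4 F (Equiv.swap (0 : Fin 2) 1) * φ⁻¹ ∉ Og d := fun h => by
  obtain ⟨G, hG, hb⟩ := swap_both hd φ hν hφ
  rw [mem_og_iff hd hG, hb] at h
  exact absurd (congrArg Prod.snd h) (by decide)

/-- The exchange of the slots times a slot reflection lies in the derived group. -/
theorem swap_refl_mem (hd : Shape d) (l : Fin 2) {v : Fin 4 → F} (hv : Qd d v ≠ 0) :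
    permG 4 F (Equiv.swap (0 : Fin 2) 1) * facG l (refG d v) ∈ Og d := by
  obtain ⟨G, hG, hb⟩ := swap_both hd 1 one_ne_zero fun x => by rw [Units.val_one, Matrix.one_mulVec, one_mul]
  obtain ⟨G', hG', hb'⟩ := refl_both hd l hv
  rw [one_mul, inv_one, mul_one] at hG
  refine (mem_og_iff hd (G := G * G') (by rw [map_mul, Subgroup.coe_mul, hG, hG'])).2 ?_
  rw [map_mul, hb, hb']
  decide

end Cfsg.Agent.Classical.OTPow.Four
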