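/-
Frames of a four space without halves, and pure vectors of its tensor square.
-/
import Cfsg.Agent.Lib.Classical.OTPow.Four.Spinor

set_option autoImplicit false
set_option linter.unusedSectionVars false

namespace Cfsg.Agent.Classical.OTPow.Four

open Matrix QuadraticMap Module
open Cfsg.Agent.Classical

variable {F : Type*} [Field F]

section Bil

variable [Fintype F] {k : ℕ} {d : Fin k → F}

theorem badd (a b c : Fin k → F) : bform d a (b + c) = bform d a b + bform d a c := by
  simp only [bform, Pi.add_apply, ← Finset.sum_add_distrib]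
  exact Finset.sum_congr rfl fun i _ => by ring

theorem badd_left (a b c : Fin k → F) : bform d (a + b) c = bform d a c + bform d b c := by
  simp only [bform, Pi.add_apply, ← Finset.sum_add_distrib]
  exact Finset.sum_congr rfl fun i _ => by ring

theorem bsmul (a b : Fin k → F) (t : F) : bform d a (t • b) = t * bform d a b := by
  simp only [bform, Pi.smul_apply, smul_eq_mul, Finset.mul_sum]
  exact Finset.sum_congr rfl fun i _ => by ring

theorem bsmul_left (a b : Fin k → F) (t : F) : bform d (t • a) b = t * bform d a b := by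
  simp only [bform, Pi.smul_apply, smul_eq_mul, Finset.mul_sum]
  exact Finset.sum_congr rfl fun i _ => by ring

theorem bneg (a b : Fin k → F) : bform d a (-b) = -bform d a b := by
  rw [← neg_one_smul F b, bsmul]; ring

theorem bneg_left (a b : Fin k → F) : bform d (-a) b = -bform d a b := by
  rw [← neg_one_smul F a, bsmul_left]; ring

theorem bsub (a b c : Fin k → F) : bform d a (b - c) = bform d a b - bform d a c := by
  rw [sub_eq_add_neg, badd, bneg]; ring

theorem bsub_left (a b c : Fin k → F) : bform d (a - b) c = bform d a c - bform d b c := by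
  rw [sub_eq_add_neg, badd_left, bneg_left]; ring

theorem bzero (a : Fin k → F) : bform d a 0 = 0 := by simp [bform]

theorem bzero_left (a : Fin k → F) : bform d 0 a = 0 := by simp [bform]

theorem bsum {ι : Type*} (s : Finset ι) (a : Fin k → F) (b : ι → Fin k → F) :
    bform d a (∑ i ∈ s, b i) = ∑ i ∈ s, bform d a (b i) := by
  classical
  induction s using Finset.induction with
  | empty => simp [bzero]
  | insert i s hi ih => rw [Finset.sum_insert hi, Finset.sum_insert hi, badd, ih]

theorem bsingle (a : Fin k → F) (i : Fin k) : bform d a (Pi.single i 1) = d i * a i := bform_single d a i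

theorem ne_zero_of_Q {v : Fin k → F} (hv : Qd d v ≠ 0) : v ≠ 0 := fun e => hv (by rw [e, map_zero])

theorem eq_zero_of_orth (hd : ∀ i, d i ≠ 0) {v : Fin k → F} (h : ∀ y, bform d v y = 0) : v = 0 := funext fun i => by
  have e := h (Pi.single i 1)
  rw [bsingle] at e
  exact (mul_eq_zero.1 e).resolve_left (hd i)

end Bil

variable [Fintype F] {d : Fin 4 → F}

/-- An orthogonal basis of the four space. -/
structure OB (d : Fin 4 → F) (b : Fin 4 → Fin 4 → F) : Prop where
  ne : ∀ i, Qd d (b i) ≠ 0
  orth : ∀ i j, i ≠ j → bform d (b i) (b j) = 0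

theorem OB.li {b : Fin 4 → Fin 4 → F} (hb : OB d b) : LinearIndependent F b := by
  rw [Fintype.linearIndependent_iff]
  intro c hc i
  have h := congrArg (bform d (b i)) hc
  rw [bsum, bzero, Finset.sum_eq_single i (fun j _ hj => by rw [bsmul, hb.orth i j hj.symm, mul_zero]) (by simp),
    bsmul, bform_self] at h
  exact (mul_eq_zero.1 h).resolve_right (hb.ne i)

theorem OB.expand {b : Fin 4 → Fin 4 → F} (hb : OB d b) (x : Fin 4 → F) :
    x = ∑ i, (bform d (b i) x / Qd d (b i)) • b i := by
  have htop : Submodule.span F (Set.range b) = ⊤ := hb.li.span_eq_top_of_card_eq_finrank (by simp)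
  obtain ⟨c, hc⟩ := (Submodule.mem_span_range_iff_exists_fun F).1 (htop ▸ Submodule.mem_top : x ∈ Submodule.span F (Set.range b))
  conv_lhs => rw [← hc]
  refine Finset.sum_congr rfl fun i _ => ?_
  congr 1
  have h := congrArg (bform d (b i)) hc
  rw [bsum, Finset.sum_eq_single i (fun j _ hj => by rw [bsmul, hb.orth i j hj.symm, mul_zero]) (by simp),
    bsmul, bform_self] at h
  rw [← h, mul_div_assoc, div_self (hb.ne i), mul_one]

theorem OB.ext {b : Fin 4 → Fin 4 → F} (hb : OB d b) {x y : Fin 4 → F}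
    (h : ∀ i, bform d (b i) x = bform d (b i) y) : x = y := by
  rw [hb.expand x, hb.expand y]
  simp only [h]

/-- The values of an orthogonal basis have non-square product. -/
theorem OB.disc (hd : Shape d) {b : Fin 4 → Fin 4 → F} (hb : OB d b) : ¬ IsSquare (∏ i, Qd d (b i)) := by
  obtain ⟨M, hM⟩ : ∃ M : Matrix (Fin 4) (Fin 4) F, M = fun r i => b i r := ⟨_, rfl⟩
  have e : Mᵀ * Matrix.diagonal d * M = Matrix.diagonal fun i => Qd d (b i) := by
    ext i j
    rw [Matrix.mul_assoc, Matrix.mul_apply, Matrix.diagonal_apply]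
    have hsum : ∑ r, Mᵀ i r * (Matrix.diagonal d * M) r j = bform d (b i) (b j) := by
      rw [bform]
      refine Finset.sum_congr rfl fun r _ => ?_
      rw [Matrix.transpose_apply, Matrix.diagonal_mul, hM]
      ring
    rw [hsum]
    split_ifs with h
    · rw [h, bform_self]
    · exact hb.orth i j h
  have h := congrArg Matrix.det e
  rw [Matrix.det_mul, Matrix.det_mul, Matrix.det_transpose, Matrix.det_diagonal, Matrix.det_diagonal] at h
  rintro ⟨s, hs⟩
  rw [← h, Fin.prod_univ_four] at hs
  obtain ⟨h0, h1, h2, h3⟩ := four_values hd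
  rw [h0, h1, h2] at hs
  have hM0 : M.det ≠ 0 := fun h0 => by
    rw [h0] at h
    simp only [zero_mul, mul_zero] at h
    exact Finset.prod_ne_zero_iff.2 (fun i _ => hb.ne i) h.symm
  exact h3 ⟨s / M.det, by field_simp; linear_combination hs⟩

/-- Two orthogonal singular vectors are dependent. -/
theorem no_ts (hd : Shape d) {v w : Fin 4 → F} (hv : Qd d v = 0) (hw : Qd d w = 0) (hvw : bform d v w = 0)
    (hv0 : v ≠ 0) : ∃ c : F, w = c • v := by
  classical
  by_contra hcon
  push Not at hcon
  have hli : LinearIndependent F ![v, w] := by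
    rw [LinearIndependent.pair_iff]
    intro s t hst
    by_cases ht : t = 0
    · subst ht
      rw [zero_smul, add_zero] at hst
      exact ⟨(smul_eq_zero.1 hst).resolve_right hv0, rfl⟩
    · refine absurd ?_ (hcon (-(s / t)))
      have : w = t⁻¹ • (t • w) := by rw [inv_smul_smul₀ ht]
      rw [this, eq_neg_of_add_eq_zero_right hst, smul_neg, smul_smul, neg_smul, inv_mul_eq_div]
  obtain ⟨B, hB⟩ : ∃ B : LinearMap.BilinForm F (Fin 4 → F), ∀ x y, B x y = bform d x y :=
    ⟨LinearMap.mk₂ F (bform d) (fun a b c => badd_left a b c) (fun c a b => bsmul_left a b c)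
      (fun a b c => badd a b c) (fun c a b => bsmul a b c), fun _ _ => rfl⟩
  have hs : B.IsSymm := ⟨fun x y => by rw [hB, hB]; exact bform_comm d x y⟩
  have hval : ∀ i, B (Pi.basisFun F (Fin 4) i) (Pi.basisFun F (Fin 4) i) = d i := fun i => by
    rw [hB, Pi.basisFun_apply, bsingle, Pi.single_eq_same, mul_one]
  have h := DiscType.isSquare_of_half (B := B) hs (N := 2) (by simp) (Pi.basisFun F (Fin 4))
    (fun i j hij => by rw [hB, Pi.basisFun_apply, Pi.basisFun_apply, bsingle, Pi.single_eq_of_ne hij.symm, mul_zero])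
    (fun i => by rw [hval]; exact hd.ne i) (X := Submodule.span F (Set.range ![v, w]))
    (by rw [finrank_span_eq_card hli, Fintype.card_fin]) (fun x hx y hy => by
      obtain ⟨c, rfl⟩ := (Submodule.mem_span_range_iff_exists_fun F).1 hx
      obtain ⟨c', rfl⟩ := (Submodule.mem_span_range_iff_exists_fun F).1 hy
      rw [hB]
      simp [Fin.sum_univ_two, badd, badd_left, bsmul, bsmul_left, bform_self, hv, hw, hvw, bform_comm d w v])
  simp only [hval, Fin.prod_univ_four] at h
  obtain ⟨h0, h1, h2, h3⟩ := four_values hd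
  rw [h0, h1, h2, neg_one_sq, one_mul, one_mul, one_mul] at h
  exact h3 (by simpa using h)

/-- A fourth orthogonal vector. -/
theorem exists_fourth (hd : Shape d) {a b c : Fin 4 → F} (ha : Qd d a ≠ 0) (hb : Qd d b ≠ 0) (hc : Qd d c ≠ 0)
    (hab : bform d a b = 0) (hac : bform d a c = 0) (hbc : bform d b c = 0) :
    ∃ e, Qd d e ≠ 0 ∧ bform d a e = 0 ∧ bform d b e = 0 ∧ bform d c e = 0 := by
  let φ : (Fin 4 → F) →ₗ[F] (Fin 3 → F) :=
    { toFun := fun x => ![bform d a x, bform d b x, bform d c x]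
      map_add' := fun x y => by ext i; fin_cases i <;> simp [badd]
      map_smul' := fun t x => by ext i; fin_cases i <;> simp [bsmul] }
  obtain ⟨e, he, he0⟩ := Submodule.exists_mem_ne_zero_of_ne_bot (p := LinearMap.ker φ) fun h => by
    have h1 := LinearMap.finrank_range_add_finrank_ker φ
    have h2 : finrank F (LinearMap.range φ) ≤ 3 := (Submodule.finrank_le _).trans_eq (by simp)
    rw [h, finrank_bot, Module.finrank_fin_fun] at h1
    omega
  have e1 := congrFun (LinearMap.mem_ker.1 he) 0
  have e2 := congrFun (LinearMap.mem_ker.1 he) 1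
  have e3 := congrFun (LinearMap.mem_ker.1 he) 2
  simp [φ] at e1 e2 e3
  refine ⟨e, fun hQ => ?_, e1, e2, e3⟩
  have hli : LinearIndependent F ![a, b, c, e] := by
    rw [Fintype.linearIndependent_iff]
    intro g hg
    simp only [Fin.sum_univ_four, Matrix.cons_val_zero, Matrix.cons_val_one, Matrix.cons_val] at hg
    have ga := congrArg (bform d a) hg
    have gb := congrArg (bform d b) hg
    have gc := congrArg (bform d c) hg
    simp [badd, bsmul, bzero, bform_self, hab, hac, hbc, e1, e2, e3, bform_comm d b a, bform_comm d c a,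
      bform_comm d c b, ha, hb, hc] at ga gb gc
    intro i
    fin_cases i
    · exact ga
    · exact gb
    · exact gc
    · simpa [ga, gb, gc, he0] using hg
  refine he0 (eq_zero_of_orth hd.ne fun y => ?_)
  have htop : Submodule.span F (Set.range ![a, b, c, e]) = ⊤ := hli.span_eq_top_of_card_eq_finrank (by simp)
  obtain ⟨g, hg⟩ := (Submodule.mem_span_range_iff_exists_fun F).1
    (htop ▸ Submodule.mem_top : y ∈ Submodule.span F (Set.range ![a, b, c, e]))
  rw [← hg]
  simp [Fin.sum_univ_four, badd, bsmul, bform_self, hQ, bform_comm d e a, bform_comm d e b, bform_comm d e c, e1, e2, e3]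

/-- A frame: a plane with singular vectors and the plane orthogonal to it. -/
structure Fr (d : Fin 4 → F) (ε : F) (u v e f : Fin 4 → F) : Prop where
  ns : ¬ IsSquare ε
  u0 : Qd d u ≠ 0
  vv : Qd d v = -Qd d u
  e0 : Qd d e ≠ 0
  ff : Qd d f = -(ε * Qd d e)
  uv : bform d u v = 0
  ue : bform d u e = 0
  uf : bform d u f = 0
  ve : bform d v e = 0
  vf : bform d v f = 0
  ef : bform d e f = 0

theorem Fr.eps0 {ε : F} {u v e f : Fin 4 → F} (h : Fr d ε u v e f) : ε ≠ 0 :=
  fun e0 => h.ns (e0 ▸ IsSquare.zero)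

theorem Fr.v0 {ε : F} {u v e f : Fin 4 → F} (h : Fr d ε u v e f) : Qd d v ≠ 0 := by
  rw [h.vv]; exact neg_ne_zero.2 h.u0

theorem Fr.f0 {ε : F} {u v e f : Fin 4 → F} (h : Fr d ε u v e f) : Qd d f ≠ 0 := by
  rw [h.ff]; exact neg_ne_zero.2 (mul_ne_zero h.eps0 h.e0)

theorem Fr.ob {ε : F} {u v e f : Fin 4 → F} (h : Fr d ε u v e f) : OB d ![u, v, e, f] := by
  refine ⟨fun i => ?_, fun i j hij => ?_⟩
  · fin_cases i
    exacts [h.u0, h.v0, h.e0, h.f0]
  · fin_cases i <;> fin_cases j <;> first | exact absurd rfl hij |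
      simp [h.uv, h.ue, h.uf, h.ve, h.vf, h.ef, bform_comm d v u, bform_comm d e u, bform_comm d e v,
        bform_comm d f u, bform_comm d f v, bform_comm d f e]

/-- A frame through a plane with singular vectors. -/
theorem exists_fr (hd : Shape d) {u a : Fin 4 → F} (hu : Qd d u ≠ 0) (ha : Qd d a ≠ 0) (hua : bform d u a = 0)
    (hsq : IsSquare (-(Qd d u * Qd d a))) : ∃ (ε t : F) (e f : Fin 4 → F), t ≠ 0 ∧ Fr d ε u (t • a) e f := by
  obtain ⟨s, hs⟩ := hsq
  obtain ⟨e, hue, hae, he⟩ := hd.exists_orth_ne hu ha hua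
  obtain ⟨f, hf, hfu, hfa, hfe⟩ := exists_fourth hd hu ha he hua hue hae
  have hs0 : s ≠ 0 := fun h0 => by
    rw [h0, mul_zero, neg_eq_zero] at hs
    exact mul_ne_zero hu ha hs
  refine ⟨-(Qd d f / Qd d e), s / Qd d a, e, f, div_ne_zero hs0 ha, ⟨?_, hu, ?_, he, by field_simp,
    by rw [bsmul, hua, mul_zero], hue, hfu, by rw [bsmul_left, hae, mul_zero], by rw [bsmul_left, hfa, mul_zero], hfe⟩⟩
  · rintro ⟨r, hr⟩
    have hb : OB d ![u, a, e, f] := by
      refine ⟨fun i => ?_, fun i j hij => ?_⟩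
      · fin_cases i
        exacts [hu, ha, he, hf]
      · fin_cases i <;> fin_cases j <;> first | exact absurd rfl hij |
          simp [hua, hue, hfu, hae, hfa, hfe, bform_comm d a u, bform_comm d e u, bform_comm d e a,
            bform_comm d f u, bform_comm d f a, bform_comm d f e]
    refine hb.disc hd ⟨s * (r * Qd d e), ?_⟩
    simp only [Fin.prod_univ_four, Matrix.cons_val_zero, Matrix.cons_val_one, Matrix.cons_val]
    have hr' : -Qd d f = r * r * Qd d e := by field_simp at hr; linear_combination hr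
    linear_combination (Qd d e * -Qd d f) * hs + (Qd d e * (s * s)) * hr'
  · rw [QuadraticMap.map_smul, smul_eq_mul]
    field_simp
    linear_combination (-1 : F) * hs

/-- Frames are symmetric. -/
theorem Fr.plane_aniso {ε : F} {u v e f : Fin 4 → F} (h : Fr d ε u v e f) {x y : F}
    (hQ : Qd d (x • e + y • f) = 0) : x = 0 ∧ y = 0 := by
  have e' : Qd d (x • e + y • f) = (x * x - ε * (y * y)) * Qd d e := by
    rw [← bform_self]
    simp only [badd, badd_left, bsmul, bsmul_left, h.ef, bform_comm d f e]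
    simp only [bform_self, h.ff]
    ring
  rw [e', mul_eq_zero] at hQ
  have h0 := hQ.resolve_right h.e0
  by_cases hy : y = 0
  · subst hy
    simp at h0
    exact ⟨h0, rfl⟩
  · exact absurd ⟨x / y, by field_simp; linear_combination -h0⟩ h.ns

/-- A pure vector. -/
def tv (x y : Fin 4 → F) : (Fin 2 → Fin 4) → F := fun a => x (a 0) * y (a 1)

theorem tv_add (x x' y : Fin 4 → F) : tv (x + x') y = tv x y + tv x' y := funext fun a => by simp [tv, add_mul]

theorem tv_add' (x y y' : Fin 4 → F) : tv x (y + y') = tv x y + tv x y' := funext fun a => by simp [tv, mul_add]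

theorem tv_smul (c : F) (x y : Fin 4 → F) : tv (c • x) y = c • tv x y := funext fun a => by simp [tv, mul_assoc]

theorem tv_smul' (c : F) (x y : Fin 4 → F) : tv x (c • y) = c • tv x y := funext fun a => by
  simp [tv, mul_left_comm]

theorem tv_zero (y : Fin 4 → F) : tv 0 y = 0 := funext fun a => by simp [tv]

theorem tv_zero' (x : Fin 4 → F) : tv x 0 = 0 := funext fun a => by simp [tv]

theorem tv_neg (x y : Fin 4 → F) : tv (-x) y = -tv x y := funext fun a => by simp [tv]

theorem tv_neg' (x y : Fin 4 → F) : tv x (-y) = -tv x y := funext fun a => by simp [tv]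

theorem tv_sub' (x y y' : Fin 4 → F) : tv x (y - y') = tv x y - tv x y' := funext fun a => by simp [tv, mul_sub]

theorem tv_sum' {ι : Type*} (s : Finset ι) (x : Fin 4 → F) (y : ι → Fin 4 → F) :
    tv x (∑ i ∈ s, y i) = ∑ i ∈ s, tv x (y i) := funext fun a => by simp [tv, Finset.sum_apply, Finset.mul_sum]

theorem tv_sum {ι : Type*} (s : Finset ι) (x : ι → Fin 4 → F) (y : Fin 4 → F) :
    tv (∑ i ∈ s, x i) y = ∑ i ∈ s, tv (x i) y := funext fun a => by simp [tv, Finset.sum_apply, Finset.sum_mul]

theorem sum_idx {M : Type*} [AddCommMonoid M] (g : (Fin 2 → Fin 4) → M) :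
    ∑ a, g a = ∑ i, ∑ j, g ![i, j] := by
  rw [← (finTwoArrowEquiv (Fin 4)).symm.sum_comp, Fintype.sum_prod_type]
  rfl

theorem pureG_tv (A : Fin 2 → GL (Fin 4) F) (x y : Fin 4 → F) :
    ((pureG A : GL (Fin 2 → Fin 4) F) : Matrix (Fin 2 → Fin 4) (Fin 2 → Fin 4) F) *ᵥ tv x y =
      tv ((A 0 : Matrix (Fin 4) (Fin 4) F) *ᵥ x) ((A 1 : Matrix (Fin 4) (Fin 4) F) *ᵥ y) := by
  funext a
  rw [pureG_val]
  simp only [Matrix.mulVec, dotProduct, sum_idx, pureS_apply, Fin.prod_univ_two, tv, Finset.sum_mul, Finset.mul_sum]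
  try rw [Finset.sum_comm]
  refine Finset.sum_congr rfl fun i _ => Finset.sum_congr rfl fun j _ => ?_
  simp only [Matrix.cons_val_zero, Matrix.cons_val_one]
  ring

theorem fac0_tv (g : GL (Fin 4) F) (x y : Fin 4 → F) :
    ((facG (0 : Fin 2) g : GL (Fin 2 → Fin 4) F) : Matrix (Fin 2 → Fin 4) (Fin 2 → Fin 4) F) *ᵥ tv x y =
      tv ((g : Matrix (Fin 4) (Fin 4) F) *ᵥ x) y := by
  refine (pureG_tv _ x y).trans ?_
  simp

theorem fac1_tv (g : GL (Fin 4) F) (x y : Fin 4 → F) :
    ((facG (1 : Fin 2) g : GL (Fin 2 → Fin 4) F) : Matrix (Fin 2 → Fin 4) (Fin 2 → Fin 4) F) *ᵥ tv x y =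
      tv x ((g : Matrix (Fin 4) (Fin 4) F) *ᵥ y) := by
  refine (pureG_tv _ x y).trans ?_
  simp

theorem swap_tv (x y : Fin 4 → F) :
    ((permG 4 F (Equiv.swap (0 : Fin 2) 1) : GL (Fin 2 → Fin 4) F) : Matrix (Fin 2 → Fin 4) (Fin 2 → Fin 4) F) *ᵥ
      tv x y = tv y x := by
  funext a
  rw [permG_val, Matrix.mulVec, dotProduct, Finset.sum_eq_single ![a 1, a 0]]
  · rw [permS_apply', if_pos (funext fun u => by fin_cases u <;> simp)]
    simp [tv, mul_comm]
  · intro b _ hb
    rw [permS_apply', if_neg, zero_mul]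
    intro h
    exact hb (funext fun u => by
      fin_cases u
      · simpa using (congrFun h 1).symm
      · simpa using (congrFun h 0).symm)
  · simp

theorem polar_tv (x y x' y' : Fin 4 → F) :
    polar (QW (wt (σ := Fin 2) d)) (tv x y) (tv x' y') = 2 * (bform d x x' * bform d y y') := by
  rw [polar_QW, sum_idx, bform, bform, Finset.sum_mul_sum]
  congr 1
  refine Finset.sum_congr rfl fun i _ => Finset.sum_congr rfl fun j _ => ?_
  simp only [tv, wt, Fin.prod_univ_two, Matrix.cons_val_zero, Matrix.cons_val_one]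
  ring

/-- The contraction with a vector of the left slot. -/
def ctl (d x : Fin 4 → F) (z : (Fin 2 → Fin 4) → F) : Fin 4 → F := fun j => ∑ i, d i * x i * z ![i, j]

theorem ctl_tv (x a b : Fin 4 → F) : ctl d x (tv a b) = bform d x a • b := by
  funext j
  simp only [ctl, tv, bform, Pi.smul_apply, smul_eq_mul, Finset.sum_mul, Matrix.cons_val_zero, Matrix.cons_val_one]
  exact Finset.sum_congr rfl fun i _ => by ring

theorem ctl_add (x : Fin 4 → F) (z z' : (Fin 2 → Fin 4) → F) : ctl d x (z + z') = ctl d x z + ctl d x z' :=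
  funext fun j => by simp [ctl, mul_add, Finset.sum_add_distrib]

theorem ctl_smul (x : Fin 4 → F) (c : F) (z : (Fin 2 → Fin 4) → F) : ctl d x (c • z) = c • ctl d x z :=
  funext fun j => by simp [ctl, Finset.mul_sum, mul_left_comm]

theorem polar_tv_right (z : (Fin 2 → Fin 4) → F) (x y : Fin 4 → F) :
    polar (QW (wt (σ := Fin 2) d)) z (tv x y) = 2 * bform d (ctl d x z) y := by
  rw [polar_QW, sum_idx, bform, Finset.sum_comm]
  congr 1
  refine Finset.sum_congr rfl fun j _ => ?_
  simp only [tv, ctl, wt, Fin.prod_univ_two, Matrix.cons_val_zero, Matrix.cons_val_one, Finset.mul_sum, Finset.sum_mul]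
  exact Finset.sum_congr rfl fun i _ => by ring

/-- Every vector is a sum over a basis of the left slot. -/
theorem OB.expand_tv {b : Fin 4 → Fin 4 → F} (hb : OB d b) (hd : ∀ i, d i ≠ 0) (z : (Fin 2 → Fin 4) → F) :
    z = ∑ i, tv (b i) ((Qd d (b i))⁻¹ • ctl d (b i) z) := by
  funext a
  obtain ⟨p, j, rfl⟩ : ∃ p j, a = ![p, j] := ⟨a 0, a 1, by ext u; fin_cases u <;> rfl⟩
  have e : ∀ r, (Pi.single p 1 : Fin 4 → F) r = ∑ i, d p * b i p / Qd d (b i) * b i r := fun r => by
    have e := congrFun (hb.expand (Pi.single p 1)) r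
    simpa only [Finset.sum_apply, bsingle, Pi.smul_apply, smul_eq_mul] using e
  refine mul_left_cancel₀ (hd p) ?_
  simp only [Finset.sum_apply, tv, Matrix.cons_val_zero, Matrix.cons_val_one, Pi.smul_apply, smul_eq_mul, ctl,
    Finset.mul_sum]
  rw [Finset.sum_comm]
  calc d p * z ![p, j] = ∑ r, d r * (Pi.single p 1 : Fin 4 → F) r * z ![r, j] := by
        rw [Finset.sum_eq_single p (fun r _ hr => by simp [Pi.single_eq_of_ne hr]) (by simp), Pi.single_eq_same,
          mul_one]
    _ = _ := Finset.sum_congr rfl fun r _ => by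
        rw [e, Finset.mul_sum, Finset.sum_mul]
        exact Finset.sum_congr rfl fun i _ => by ring

/-- Elements agreeing on the pure vectors over a basis of the left slot are equal. -/
theorem OB.gl_ext {b : Fin 4 → Fin 4 → F} (hb : OB d b) (hd : ∀ i, d i ≠ 0) {g h : GL (Fin 2 → Fin 4) F}
    (e : ∀ i y, (g : Matrix (Fin 2 → Fin 4) (Fin 2 → Fin 4) F) *ᵥ tv (b i) y =
      (h : Matrix (Fin 2 → Fin 4) (Fin 2 → Fin 4) F) *ᵥ tv (b i) y) : g = h :=
  gl_ext_mulVec fun z => by rw [hb.expand_tv hd z, Matrix.mulVec_sum, Matrix.mulVec_sum]; simp only [e]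

end Cfsg.Agent.Classical.OTPow.Four
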