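/-
Groups between the stabiliser of a tensor square and the derived group, in dimension sixteen.
-/
import Cfsg.Agent.Lib.Classical.OTPow.Four.Frame

set_option autoImplicit false
set_option linter.unusedSectionVars false

namespace Cfsg.Agent.Classical.OTPow.Four

open Matrix QuadraticMap
open Cfsg.Agent.Classical

variable {F : Type*} [Field F] [Fintype F] {d : Fin 4 → F} {X : Subgroup (GL (Fin 2 → Fin 4) F)}

local notation "G16" => GL (Fin 2 → Fin 4) F
local notation "M16" => Matrix (Fin 2 → Fin 4) (Fin 2 → Fin 4) F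
local notation:max g:max " ⬝₆ " x:max => ((g : G16) : M16) *ᵥ x
local notation "Q16" => QW (wt (σ := Fin 2) d)

/-- The slot reflection. -/
noncomputable abbrev zref (d : Fin 4 → F) (l : Fin 2) (v : Fin 4 → F) : GL (Fin 2 → Fin 4) F := facG l (refG d v)

/-- The product of a reflection of each slot. -/
noncomputable abbrev cref (d : Fin 4 → F) (u w : Fin 4 → F) : GL (Fin 2 → Fin 4) F :=
  facG 0 (refG d u) * facG 1 (refG d w)

theorem og_le : Og d ≤ IsoD (wt (σ := Fin 2) d) := Subgroup.commutator_le_self _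

theorem og_conj {a g : G16} (ha : a ∈ IsoD (wt (σ := Fin 2) d)) (hg : g ∈ Og d) : a * g * a⁻¹ ∈ Og d := by
  have : (Og d).map (MulAut.conj a).toMonoidHom = Og d := by
    rw [Og, Subgroup.map_commutator]
    have h : (IsoD (wt (σ := Fin 2) d)).map (MulAut.conj a).toMonoidHom = IsoD (wt d) := by
      ext x
      constructor
      · rintro ⟨y, hy, rfl⟩
        exact mul_mem (mul_mem ha hy) (inv_mem ha)
      · intro hx
        exact ⟨a⁻¹ * x * a, mul_mem (mul_mem (inv_mem ha) hx) ha,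
          show a * (a⁻¹ * x * a) * a⁻¹ = x by group⟩
    rw [h]
  rw [← this]
  exact ⟨g, hg, rfl⟩

/-- A proper overgroup of the standard part inside the derived group. -/
structure Hyp (d : Fin 4 → F) (X : Subgroup (GL (Fin 2 → Fin 4) F)) : Prop where
  shape : Shape d
  le : X ≤ Og d
  std : ∀ g ∈ Std F 4 (Fin 2), g ∈ Og d → g ∈ X
  prop : ¬ Og d ≤ X

theorem zref_iso (h2 : (2 : F) ≠ 0) (l : Fin 2) (v : Fin 4 → F) : zref d l v ∈ IsoD (wt (σ := Fin 2) d) :=
  facG_iso l (refG_iso h2 d v)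

theorem zref_sq (l : Fin 2) (v : Fin 4 → F) : zref d l v * zref d l v = 1 := by
  rw [zref, ← map_mul, refG_mul_self, map_one]

theorem zref_inv (l : Fin 2) (v : Fin 4 → F) : (zref d l v)⁻¹ = zref d l v :=
  inv_eq_of_mul_eq_one_left (zref_sq l v)

section

variable (H : Hyp d X)
include H

theorem Hyp.iso {g : G16} (hg : g ∈ X) : g ∈ IsoD (wt (σ := Fin 2) d) := og_le (H.le hg)

theorem Hyp.qiso {g : G16} (hg : g ∈ X) (x : (Fin 2 → Fin 4) → F) : Q16 (g ⬝₆ x) = Q16 x :=
  isoD_preserves H.shape.two (H.iso hg) x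

theorem Hyp.piso {g : G16} (hg : g ∈ X) (x y : (Fin 2 → Fin 4) → F) :
    polar Q16 (g ⬝₆ x) (g ⬝₆ y) = polar Q16 x y := by
  simp only [polar, ← Matrix.mulVec_add, H.qiso hg]

theorem Hyp.om_mem (l : Fin 2) {g : GL (Fin 4) F} (hg : g ∈ Om d) : facG l g ∈ X :=
  H.std _ (facG_mem l g) (facG_omega hg)

theorem Hyp.rot_mem (l : Fin 2) {u a : Fin 4 → F} (hu : Qd d u ≠ 0) (ha : Qd d a ≠ 0) :
    facG l (refG d u * refG d a) ∈ X :=
  H.std _ (facG_mem l _) (by rw [map_mul]; exact refl_refl_mem H.shape l l hu ha)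

theorem Hyp.cref_mem {u w : Fin 4 → F} (hu : Qd d u ≠ 0) (hw : Qd d w ≠ 0) : cref d u w ∈ X :=
  H.std _ (mul_mem (facG_mem _ _) (facG_mem _ _)) (refl_refl_mem H.shape 0 1 hu hw)

/-- The meet with a conjugate by a slot reflection is standard. -/
theorem Hyp.meet_std {l : Fin 2} {v : Fin 4 → F} (hv : Qd d v ≠ 0) {g : G16} (hg : g ∈ X)
    (hg' : zref d l v * g * zref d l v ∈ X) : g ∈ Std F 4 (Fin 2) := by
  obtain ⟨z, hz⟩ : ∃ z, z = zref d l v := ⟨_, rfl⟩
  have hzz : z * z = 1 := hz ▸ zref_sq l v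
  have hzi : z ∈ IsoD (wt (σ := Fin 2) d) := hz ▸ zref_iso H.shape.two l v
  have hzO : z ∉ Og d := hz ▸ refl_notMem H.shape l hv
  have hzS : z ∈ Std F 4 (Fin 2) := hz ▸ facG_mem l _
  have hzinv : z⁻¹ = z := inv_eq_of_mul_eq_one_left hzz
  obtain ⟨Y, hY⟩ : ∃ Y : Subgroup G16, ∀ x, x ∈ Y ↔ x ∈ X ∧ z * x * z ∈ X :=
    ⟨X ⊓ X.comap (MulAut.conj z).toMonoidHom, fun x => by
      rw [Subgroup.mem_inf, Subgroup.mem_comap]
      show _ ∧ z * x * z⁻¹ ∈ X ↔ _
      rw [hzinv]⟩
  have hYz : ∀ x ∈ Y, z * x * z ∈ Y := fun x hx => by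
    obtain ⟨h1, h2⟩ := (hY x).1 hx
    refine (hY _).2 ⟨h2, ?_⟩
    rwa [show z * (z * x * z) * z = (z * z) * x * (z * z) by group, hzz, one_mul, mul_one]
  obtain ⟨X1, hX1⟩ : ∃ X1 : Subgroup G16, ∀ x, x ∈ X1 ↔ x ∈ Y ∨ x * z ∈ Y := by
    refine ⟨{ carrier := {x | x ∈ Y ∨ x * z ∈ Y}
              one_mem' := Or.inl (one_mem Y)
              mul_mem' := ?_
              inv_mem' := ?_ }, fun x => Iff.rfl⟩
    · rintro a b (ha | ha) (hb | hb)
      · exact Or.inl (mul_mem ha hb)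
      · exact Or.inr (by rw [mul_assoc]; exact mul_mem ha hb)
      · refine Or.inr ?_
        rw [show a * b * z = a * z * (z⁻¹ * b * z) by group, hzinv]
        exact mul_mem ha (hYz b hb)
      · refine Or.inl ?_
        rw [show a * b = a * z * (z⁻¹ * (b * z) * z⁻¹) by group, hzinv]
        exact mul_mem ha (hYz _ hb)
    · rintro a (ha | ha)
      · exact Or.inl (inv_mem ha)
      · refine Or.inr ?_
        show a⁻¹ * z ∈ Y
        rw [show a⁻¹ * z = z * (a * z)⁻¹ * z by group]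
        exact hYz _ (inv_mem ha)
  have hstdY : ∀ x ∈ Std F 4 (Fin 2), x ∈ Og d → x ∈ Y := fun x hx hxO => (hY x).2 ⟨H.std x hx hxO,
    H.std _ (mul_mem (mul_mem hzS hx) hzS) (by have := og_conj hzi hxO; rwa [hzinv] at this)⟩
  have C : Ctx d X1 := by
    refine ⟨H.shape, fun x hx => ?_, fun m a ha => ?_, fun _ m a ha => ?_⟩
    · rcases (hX1 x).1 hx with h | h
      · exact H.iso ((hY x).1 h).1
      · rw [show x = x * z * z⁻¹ by group]
        exact mul_mem (H.iso ((hY _).1 h).1) (inv_mem hzi)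
    · exact (hX1 _).2 (Or.inl (hstdY _ (facG_mem m a) (facG_omega ha)))
    · refine (hX1 _).2 ((facG_mem_or H.shape m ha (m := l) hv).imp (fun h => hstdY _ (facG_mem m a) h) fun h => ?_)
      rw [hz]
      exact hstdY _ (mul_mem (facG_mem m a) (facG_mem l _)) h
  rcases C.std_or_omega' (fun x y w hxy hyw hxw => absurd hxw (by omega)) with h | h
  · exact h ((hX1 g).2 (Or.inl ((hY g).2 ⟨hg, hz ▸ hg'⟩)))
  · refine absurd (fun x hx => ?_) H.prop
    rw [Og, ← omegaGL_QW H.shape.two] at hx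
    rcases (hX1 x).1 (h hx) with h' | h'
    · exact ((hY x).1 h').1
    · refine absurd ?_ hzO
      rw [omegaGL_QW H.shape.two] at hx
      rw [show z = x⁻¹ * (x * z) by group]
      exact mul_mem (inv_mem hx) (H.le ((hY _).1 h').1)

/-- Centralisers of slot reflections are standard. -/
theorem Hyp.cent {l : Fin 2} {v : Fin 4 → F} (hv : Qd d v ≠ 0) {g : G16} (hg : g ∈ X)
    (h : Commute g (zref d l v)) : g ∈ Std F 4 (Fin 2) :=
  H.meet_std hv hg (by rwa [mul_assoc, h.eq, ← mul_assoc, zref_sq, one_mul])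

/-- Exchanging the slots keeps the hypotheses. -/
theorem Hyp.swapped : Hyp d (X.comap (MulAut.conj (permG 4 F (Equiv.swap (0 : Fin 2) 1))).toMonoidHom) := by
  obtain ⟨s, hs⟩ : ∃ s, s = permG 4 F (Equiv.swap (0 : Fin 2) 1) := ⟨_, rfl⟩
  have hsi : s ∈ IsoD (wt (σ := Fin 2) d) := hs ▸ permG_iso _
  have hsS : s ∈ Std F 4 (Fin 2) := hs ▸ permG_mem _
  rw [← hs]
  refine ⟨H.shape, fun g hg => ?_, fun g hg hgO => H.std _ (mul_mem (mul_mem hsS hg) (inv_mem hsS)) (og_conj hsi hgO),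
    fun h => H.prop fun x hx => ?_⟩
  · have := og_conj (inv_mem hsi) (H.le hg)
    rwa [show s⁻¹ * (MulAut.conj s).toMonoidHom g * s⁻¹⁻¹ = g by simp [MulAut.conj_apply, mul_assoc]] at this
  · have := h (og_conj (inv_mem hsi) hx)
    rw [Subgroup.mem_comap] at this
    rwa [show (MulAut.conj s).toMonoidHom (s⁻¹ * x * s⁻¹⁻¹) = x by simp [MulAut.conj_apply, mul_assoc]] at this

end

theorem QW_tv (h2 : (2 : F) ≠ 0) (x y : Fin 4 → F) : Q16 (tv x y) = Qd d x * Qd d y := by
  have h := polar_tv (d := d) x y x y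
  rw [QuadraticMap.polar_self, nsmul_eq_mul, Nat.cast_ofNat, bform_self, bform_self] at h
  exact mul_left_cancel₀ h2 h

/-- Equal pure vectors have proportional factors. -/
theorem tv_eq {x y x' y' : Fin 4 → F} (hx : x ≠ 0) (hy : y ≠ 0) (h : tv x y = tv x' y') :
    ∃ c : F, c ≠ 0 ∧ x' = c • x ∧ y' = c⁻¹ • y := by
  obtain ⟨i, hi⟩ := Function.ne_iff.1 hx
  obtain ⟨j, hj⟩ := Function.ne_iff.1 hy
  have e : ∀ a b, x a * y b = x' a * y' b := fun a b => congrFun h ![a, b]
  have hy' : y' j ≠ 0 := fun h0 => mul_ne_zero hi hj (by rw [e i j, h0, mul_zero])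
  have hc : y j / y' j ≠ 0 := div_ne_zero hj hy'
  refine ⟨y j / y' j, hc, funext fun a => ?_, funext fun b => ?_⟩
  · rw [Pi.smul_apply, smul_eq_mul, div_mul_eq_mul_div, eq_div_iff hy']
    linear_combination -(e a j)
  · rw [Pi.smul_apply, smul_eq_mul, inv_div, div_mul_eq_mul_div, eq_div_iff hj]
    refine mul_left_cancel₀ hi ?_
    linear_combination (y' b) * (e i j) - (y' j) * (e i b)

theorem ob_apply {b : Fin 4 → Fin 4 → F} (hd : Shape d) (hb : OB d b) {m i : Fin 4} :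
    (refG d (b m) : Matrix (Fin 4) (Fin 4) F) *ᵥ b i = if i = m then -b i else b i := by
  rw [refG, slotHom_apply]
  show ORefl.refl (Qd d) (b m) (b i) = _
  rw [ORefl.refl_apply, show polar (Qd d) (b m) (b i) = 2 * bform d (b m) (b i) from polar_Qd d _ _]
  split_ifs with h
  · rw [h, bform_self, show (Qd d (b m))⁻¹ * (2 * Qd d (b m)) = (2 : F) by
      rw [mul_comm (2 : F), ← mul_assoc, inv_mul_cancel₀ (hb.ne m), one_mul]]
    module
  · rw [hb.orth m i (Ne.symm h)]
    simp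

theorem refG_apply (u x : Fin 4 → F) :
    (refG d u : Matrix (Fin 4) (Fin 4) F) *ᵥ x = x - ((Qd d u)⁻¹ * (2 * bform d u x)) • u := by
  rw [refG, slotHom_apply]
  show ORefl.refl (Qd d) u x = _
  rw [ORefl.refl_apply, show polar (Qd d) u x = 2 * bform d u x from polar_Qd d _ _]

theorem refG_self {u : Fin 4 → F} (hu : Qd d u ≠ 0) : (refG d u : Matrix (Fin 4) (Fin 4) F) *ᵥ u = -u := by
  rw [refG_apply, bform_self, show (Qd d u)⁻¹ * (2 * Qd d u) = (2 : F) by
      rw [mul_comm (2 : F), ← mul_assoc, inv_mul_cancel₀ hu, one_mul]]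
  module

theorem refG_orth {u x : Fin 4 → F} (h : bform d u x = 0) : (refG d u : Matrix (Fin 4) (Fin 4) F) *ᵥ x = x := by
  rw [refG_apply, h]
  simp

variable (H : Hyp d X)
include H

/-- The elements fixing all pure vectors over two basis vectors are the rotations of the plane orthogonal to them. -/
theorem Hyp.fix_rot {p r s t : Fin 4 → F} (hb : OB d ![p, r, s, t]) {ρ : F} (hr : Qd d r = -(ρ * Qd d p)) {g : G16}
    (hg : g ∈ X) (hs : ∀ y, g ⬝₆ (tv s y) = tv s y) (ht : ∀ y, g ⬝₆ (tv t y) = tv t y) :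
    ∃ α β : F, α * α - ρ * (β * β) = 1 ∧ ∀ y, g ⬝₆ (tv p y) = tv (α • p + β • r) y ∧
      g ⬝₆ (tv r y) = tv ((ρ * β) • p + α • r) y := by
  have hd := H.shape
  have h2 := hd.two
  have hp0 : Qd d p ≠ 0 := hb.ne 0
  have hr0 : Qd d r ≠ 0 := hb.ne 1
  have hs0 : Qd d s ≠ 0 := hb.ne 2
  have ht0 : Qd d t ≠ 0 := hb.ne 3
  have hpr : bform d p r = 0 := hb.orth 0 1 (by decide)
  have hps : bform d p s = 0 := hb.orth 0 2 (by decide)
  have hpt : bform d p t = 0 := hb.orth 0 3 (by decide)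
  have hrs : bform d r s = 0 := hb.orth 1 2 (by decide)
  have hrt : bform d r t = 0 := hb.orth 1 3 (by decide)
  have hst : bform d s t = 0 := hb.orth 2 3 (by decide)
  have hzfix : ∀ z : (Fin 2 → Fin 4) → F, ctl d s z = 0 → (zref d 0 s) ⬝₆ z = z := fun z hz => by
    conv_lhs => rw [hb.expand_tv hd.ne z]
    conv_rhs => rw [hb.expand_tv hd.ne z]
    simp only [Matrix.mulVec_sum, fac0_tv]
    refine Finset.sum_congr rfl fun i _ => ?_
    have hi := ob_apply hd hb (m := 2) (i := i)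
    simp only [Matrix.cons_val] at hi
    rw [hi]
    split_ifs with h
    · subst h
      simp [hz, tv_zero']
    · rfl
  have hsc : ∀ z : (Fin 2 → Fin 4) → F, (∀ y, polar Q16 z (tv s y) = 0) → ctl d s z = 0 := fun z hz =>
    eq_zero_of_orth hd.ne fun y => by
      have := hz y
      rw [polar_tv_right] at this
      exact (mul_eq_zero.1 this).resolve_left h2
  have hperp : ∀ x y, bform d s x = 0 → ctl d s (g ⬝₆ (tv x y)) = 0 := fun x y hx => hsc _ fun y' => by
    rw [← hs y', H.piso hg, polar_tv, bform_comm d x s, hx, zero_mul, mul_zero]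
  have hcom : Commute g (zref d 0 s) := by
    refine hb.gl_ext hd.ne fun i y => ?_
    have hi := ob_apply hd hb (m := 2) (i := i)
    simp only [Matrix.cons_val] at hi
    rw [gl_mul_mulVec, gl_mul_mulVec, fac0_tv, hi]
    fin_cases i
    · simp [hzfix _ (hperp p y (by rw [bform_comm, hps]))]
    · simp [hzfix _ (hperp r y (by rw [bform_comm, hrs]))]
    · simp [tv_neg, Matrix.mulVec_neg, hs, fac0_tv, refG_self hs0]
    · simp [hzfix _ (hperp t y hst)]
  obtain ⟨A, π, hA⟩ := H.cent hs0 hg hcom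
  rcases ((show ∀ π : Equiv.Perm (Fin 2), π = 1 ∨ π = Equiv.swap 0 1 by decide) π) with rfl | rfl
  swap
  · exfalso
    have key : ∀ y, y ≠ 0 → ∃ c : F, (A 1 : Matrix (Fin 4) (Fin 4) F) *ᵥ s = c • y := fun y hy => by
      have e := hs y
      rw [hA, gl_mul_mulVec, swap_tv, pureG_tv] at e
      obtain ⟨c, -, -, h2'⟩ := tv_eq (ne_zero_of_Q hs0) hy e.symm
      exact ⟨_, h2'⟩
    obtain ⟨c, hc⟩ := key p (ne_zero_of_Q hp0)
    obtain ⟨c', hc'⟩ := key r (ne_zero_of_Q hr0)
    have e := congrArg (bform d p) (hc.symm.trans hc')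
    rw [bsmul, bsmul, bform_self, hpr, mul_zero] at e
    have hc0 : c = 0 := (mul_eq_zero.1 e).resolve_right hp0
    rw [hc0, zero_smul] at hc
    exact ne_zero_of_Q hs0 (by
      rw [← gl_inv_mulVec_cancel (A 1) s, hc, Matrix.mulVec_zero])
  rw [map_one, mul_one] at hA
  have key : ∀ y, y ≠ 0 → ∃ c : F, c ≠ 0 ∧ (A 0 : Matrix (Fin 4) (Fin 4) F) *ᵥ s = c • s ∧
      (A 1 : Matrix (Fin 4) (Fin 4) F) *ᵥ y = c⁻¹ • y := fun y hy => by
    have e := hs y
    rw [hA, pureG_tv] at e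
    exact tv_eq (ne_zero_of_Q hs0) hy e.symm
  obtain ⟨μ, hμ, hμs, -⟩ := key p (ne_zero_of_Q hp0)
  have hA1 : ∀ y, (A 1 : Matrix (Fin 4) (Fin 4) F) *ᵥ y = μ⁻¹ • y := fun y => by
    by_cases hy : y = 0
    · simp [hy]
    obtain ⟨c, hc, hcs, hcy⟩ := key y hy
    rwa [show c = μ from smul_left_injective F (ne_zero_of_Q hs0) (hcs.symm.trans hμs)] at hcy
  obtain ⟨B, hB⟩ : ∃ B : (Fin 4 → F) → Fin 4 → F, B = fun x => μ⁻¹ • ((A 0 : Matrix (Fin 4) (Fin 4) F) *ᵥ x) :=
    ⟨_, rfl⟩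
  have hgB : ∀ x y, g ⬝₆ (tv x y) = tv (B x) y := fun x y => by
    rw [hA, pureG_tv, hA1, tv_smul', hB, tv_smul]
  have hQB : ∀ x, Qd d (B x) = Qd d x := fun x => by
    have e := H.qiso hg (tv x p)
    rw [hgB, QW_tv h2, QW_tv h2] at e
    exact mul_right_cancel₀ hp0 e
  have hBadd : ∀ x x', B (x + x') = B x + B x' := fun x x' => by rw [hB]; simp [Matrix.mulVec_add]
  have hbB : ∀ x x', bform d (B x) (B x') = bform d x x' := fun x x' => by
    have e := hQB (x + x')
    rw [hBadd, ← bform_self, ← bform_self, badd, badd_left, badd_left, badd, badd_left, badd_left, bform_self,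
      bform_self, bform_self, bform_self, hQB, hQB, bform_comm d (B x') (B x), bform_comm d x' x] at e
    exact mul_left_cancel₀ h2 (by linear_combination e)
  have hBs : B s = s := by
    have e := hs p
    rw [hgB] at e
    obtain ⟨c, -, hc1, hc2⟩ := tv_eq (ne_zero_of_Q hs0) (ne_zero_of_Q hp0) e.symm
    have : (1 : F) = c⁻¹ := smul_left_injective F (ne_zero_of_Q hp0) (by simpa using hc2)
    rw [hc1, ← inv_inv c, ← this, inv_one, one_smul]
  have hBt : B t = t := by
    have e := ht p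
    rw [hgB] at e
    obtain ⟨c, -, hc1, hc2⟩ := tv_eq (ne_zero_of_Q ht0) (ne_zero_of_Q hp0) e.symm
    have : (1 : F) = c⁻¹ := smul_left_injective F (ne_zero_of_Q hp0) (by simpa using hc2)
    rw [hc1, ← inv_inv c, ← this, inv_one, one_smul]
  have hplane : ∀ x, bform d s x = 0 → bform d t x = 0 → ∃ a b : F, B x = a • p + b • r := fun x h1 h2' => by
    refine ⟨bform d p (B x) / Qd d p, bform d r (B x) / Qd d r, ?_⟩
    conv_lhs => rw [hb.expand (B x)]
    have e1 : bform d s (B x) = 0 := by conv_lhs => rw [← hBs, hbB, h1]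
    have e2 : bform d t (B x) = 0 := by conv_lhs => rw [← hBt, hbB, h2']
    simp [Fin.sum_univ_four, e1, e2]
  obtain ⟨α, β, hBp⟩ := hplane p (by rw [bform_comm, hps]) (by rw [bform_comm, hpt])
  obtain ⟨γ, δ, hBr⟩ := hplane r (by rw [bform_comm, hrs]) (by rw [bform_comm, hrt])
  have n1 := hbB p p
  have n2 := hbB r r
  have n3 := hbB p r
  rw [hBp] at n1 n3
  rw [hBr] at n2 n3
  simp only [badd, badd_left, bsmul, bsmul_left, hpr, bform_comm d r p] at n1 n2 n3
  simp only [bform_self, hr] at n1 n2 n3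
  have hn1 : α * α - ρ * (β * β) = 1 := mul_right_cancel₀ hp0 (by linear_combination n1)
  have hρ : ρ ≠ 0 := fun e => hr0 (by rw [hr, e, zero_mul, neg_zero])
  have hn3 : α * γ = ρ * (β * δ) := mul_right_cancel₀ hp0 (by linear_combination n3)
  have hn2 : ρ * (δ * δ) - γ * γ = ρ := mul_right_cancel₀ hp0 (by linear_combination -n2)
  obtain ⟨σ, hσ⟩ : ∃ σ, σ = α * δ - β * γ := ⟨_, rfl⟩
  have hδ : δ = σ * α := by rw [hσ]; linear_combination (-δ) * hn1 + β * hn3
  have hγ : γ = σ * (ρ * β) := by rw [hσ]; linear_combination (-γ) * hn1 + α * hn3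
  have hσ2 : σ * σ = 1 := mul_left_cancel₀ hρ (by
    rw [hδ, hγ] at hn2
    linear_combination hn2 - ρ * σ * σ * hn1)
  refine ⟨α, β, hn1, fun y => ⟨by rw [hgB, hBp], ?_⟩⟩
  rcases mul_self_eq_one_iff.1 hσ2 with h | h
  · rw [hgB, hBr, hγ, hδ, h, one_mul, one_mul]
  -- otherwise the element is a slot reflection
  exfalso
  obtain ⟨o, ho, hro⟩ : ∃ o, Qd d o ≠ 0 ∧ g = zref d 0 o := by
    by_cases hα : α = 1
    · have hβ : β = 0 := by
        have : ρ * (β * β) = 0 := by rw [hα] at hn1; linear_combination -hn1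
        simpa [hρ] using this
      refine ⟨r, hr0, hb.gl_ext hd.ne fun i y => ?_⟩
      have hi := ob_apply hd hb (m := 1) (i := i)
      simp only [Matrix.cons_val_one, Matrix.cons_val_zero] at hi
      rw [hgB, fac0_tv, hi]
      fin_cases i <;> simp [hBp, hBr, hBs, hBt, hα, hβ, hγ, hδ, h, tv_neg]
    obtain ⟨o, ho⟩ : ∃ o, o = (α - 1) • p + β • r := ⟨_, rfl⟩
    have hQo : Qd d o = 2 * (1 - α) * Qd d p := by
      rw [ho, ← bform_self]
      simp only [badd, badd_left, bsmul, bsmul_left, hpr, bform_comm d r p]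
      simp only [bform_self, hr]
      linear_combination Qd d p * hn1
    have h1α : (1 : F) - α ≠ 0 := sub_ne_zero.2 (Ne.symm hα)
    refine ⟨o, by rw [hQo]; exact mul_ne_zero (mul_ne_zero h2 h1α) hp0, hb.gl_ext hd.ne fun i y => ?_⟩
    rw [hgB, fac0_tv, refG_apply, hQo]
    fin_cases i
    · simp only [Fin.zero_eta, Matrix.cons_val_zero]
      rw [hBp, show bform d o p = (α - 1) * Qd d p by
        rw [ho, badd_left, bsmul_left, bsmul_left, bform_self, bform_comm d r p, hpr]; ring, ho]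
      congr 1
      match_scalars <;> field_simp <;> ring
    · simp only [Fin.mk_one, Matrix.cons_val_one, Matrix.cons_val_zero]
      rw [hBr, hγ, hδ, h, show bform d o r = -(β * (ρ * Qd d p)) by
        rw [ho, badd_left, bsmul_left, bsmul_left, bform_self, hpr, hr]; ring, ho]
      congr 1
      match_scalars <;> field_simp
      · linear_combination (0 : F) * hn1
      · linear_combination hn1
    · simp [hBs, show bform d o s = 0 by rw [ho, badd_left, bsmul_left, bsmul_left, hps, hrs]; ring]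
    · simp [hBt, show bform d o t = 0 by rw [ho, badd_left, bsmul_left, bsmul_left, hpt, hrt]; ring]
  have := H.le hg
  rw [hro] at this
  exact refl_notMem hd 0 ho this

end Cfsg.Agent.Classical.OTPow.Four
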