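/-
The half turn of a plane with singular vectors in the left slot: the elements commuting with it.
-/
import Cfsg.Agent.Lib.Classical.OTPow.Four.Setup

set_option autoImplicit false
set_option linter.unusedSectionVars false

namespace Cfsg.Agent.Classical.OTPow.Four

open Matrix QuadraticMap
open Cfsg.Agent.Classical

variable {F : Type*} [Field F] [Fintype F] {d : Fin 4 → F} {X : Subgroup (GL (Fin 2 → Fin 4) F)}
  {ε : F} {u v e f : Fin 4 → F}

local notation "G16" => GL (Fin 2 → Fin 4) F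
local notation "M16" => Matrix (Fin 2 → Fin 4) (Fin 2 → Fin 4) F
local notation:max g:max " ⬝₆ " x:max => ((g : G16) : M16) *ᵥ x
local notation "Q16" => QW (wt (σ := Fin 2) d)
local notation:max g:max " ⬝₄ " x:max => ((g : GL (Fin 4) F) : Matrix (Fin 4) (Fin 4) F) *ᵥ x

/-- Two pure vectors over a pair of vectors of the left slot. -/
def pk (e f y1 y2 : Fin 4 → F) : (Fin 2 → Fin 4) → F := tv e y1 + tv f y2

theorem pk_add (a b a' b' : Fin 4 → F) : pk e f (a + a') (b + b') = pk e f a b + pk e f a' b' := by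
  simp only [pk, tv_add']; abel

theorem pk_smul (c : F) (a b : Fin 4 → F) : pk e f (c • a) (c • b) = c • pk e f a b := by
  simp only [pk, tv_smul', smul_add]

theorem pk_sub (a b a' b' : Fin 4 → F) : pk e f (a - a') (b - b') = pk e f a b - pk e f a' b' := by
  simp only [pk, tv_sub']; abel

theorem pk_zero : pk e f (0 : Fin 4 → F) 0 = 0 := by simp [pk, tv_zero']

theorem pk_left (e f y : Fin 4 → F) : pk e f y 0 = tv e y := by simp [pk, tv_zero']

theorem pk_right (e f y : Fin 4 → F) : pk e f 0 y = tv f y := by simp [pk, tv_zero']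

/-- The half turn of the first plane. -/
noncomputable abbrev pU (d u v : Fin 4 → F) : GL (Fin 2 → Fin 4) F := facG 0 (refG d u * refG d v)

/-- Members fixing the pure vectors over two vectors of the left slot. -/
def Fix (X : Subgroup (GL (Fin 2 → Fin 4) F)) (s t : Fin 4 → F) (k : GL (Fin 2 → Fin 4) F) : Prop :=
  k ∈ X ∧ (∀ y, k ⬝₆ (tv s y) = tv s y) ∧ ∀ y, k ⬝₆ (tv t y) = tv t y

theorem Fix.mem {s t : Fin 4 → F} {k : G16} (h : Fix X s t k) : k ∈ X := h.1

theorem Fix.act {s t : Fin 4 → F} {k : G16} (h : Fix X s t k) (a b : Fin 4 → F) :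
    k ⬝₆ (pk s t a b) = Four.pk s t a b := by rw [Four.pk, Matrix.mulVec_add, h.2.1, h.2.2]

theorem Fix.of_pk {s t : Fin 4 → F} {k : G16} (hk : k ∈ X) (h : ∀ a b, k ⬝₆ (pk s t a b) = Four.pk s t a b) :
    Fix X s t k :=
  ⟨hk, fun y => by simpa [pk_left] using h y 0, fun y => by simpa [pk_right] using h 0 y⟩

theorem Fix.mul {s t : Fin 4 → F} {k l : G16} (hk : Fix X s t k) (hl : Fix X s t l) : Fix X s t (k * l) :=
  .of_pk (mul_mem hk.1 hl.1) fun a b => by rw [gl_mul_mulVec, hl.act, hk.act]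

theorem Fix.inv {s t : Fin 4 → F} {k : G16} (hk : Fix X s t k) : Fix X s t k⁻¹ :=
  .of_pk (inv_mem hk.1) fun a b => by
    conv_lhs => rw [← hk.act a b]
    rw [gl_inv_mulVec_cancel]

theorem Fix.one {s t : Fin 4 → F} : Fix X s t (1 : G16) := .of_pk (one_mem X) fun a b => by simp

theorem Fix.pow {s t : Fin 4 → F} {k : G16} (hk : Fix X s t k) : ∀ n : ℕ, Fix X s t (k ^ n)
  | 0 => by rw [pow_zero]; exact .one
  | n + 1 => by rw [pow_succ]; exact (Fix.pow hk n).mul hk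

theorem Fr.ob' (h : Fr d ε u v e f) : OB d ![e, f, u, v] := by
  refine ⟨fun i => ?_, fun i j hij => ?_⟩
  · fin_cases i
    exacts [h.e0, h.f0, h.u0, h.v0]
  · fin_cases i <;> fin_cases j <;> first | exact absurd rfl hij |
      simp [h.uv, h.ue, h.uf, h.ve, h.vf, h.ef, bform_comm d v u, bform_comm d e u, bform_comm d e v,
        bform_comm d f u, bform_comm d f v, bform_comm d f e]

theorem Fr.pU_neg (h : Fr d ε u v e f) (a b : Fin 4 → F) : (pU d u v) ⬝₆ (pk u v a b) = -pk u v a b := by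
  have hu : (refG d u * refG d v) ⬝₄ u = -u := by
    rw [gl_mul_mulVec, refG_orth ((bform_comm d v u).trans h.uv), refG_self h.u0]
  have hv : (refG d u * refG d v) ⬝₄ v = -v := by
    rw [gl_mul_mulVec, refG_self h.v0, Matrix.mulVec_neg, refG_orth h.uv]
  rw [pk, Matrix.mulVec_add, fac0_tv, fac0_tv, hu, hv, tv_neg, tv_neg, neg_add]

theorem Fr.pU_pos (h : Fr d ε u v e f) (a b : Fin 4 → F) : (pU d u v) ⬝₆ (pk e f a b) = pk e f a b := by
  have he : (refG d u * refG d v) ⬝₄ e = e := by rw [gl_mul_mulVec, refG_orth h.ve, refG_orth h.ue]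
  have hf : (refG d u * refG d v) ⬝₄ f = f := by rw [gl_mul_mulVec, refG_orth h.vf, refG_orth h.uf]
  rw [pk, Matrix.mulVec_add, fac0_tv, fac0_tv, he, hf]

theorem Fr.decomp (h : Fr d ε u v e f) (hd : Shape d) (z : (Fin 2 → Fin 4) → F) :
    ∃ a b a' b', z = pk u v a b + pk e f a' b' := by
  refine ⟨(Qd d u)⁻¹ • ctl d u z, (Qd d v)⁻¹ • ctl d v z, (Qd d e)⁻¹ • ctl d e z, (Qd d f)⁻¹ • ctl d f z, ?_⟩
  conv_lhs => rw [h.ob.expand_tv hd.ne z]
  simp only [pk, Fin.sum_univ_four, Matrix.cons_val_zero, Matrix.cons_val_one, Matrix.cons_val]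
  abel

/-- Elements agreeing over both planes are equal. -/
theorem Fr.ext_pm (h : Fr d ε u v e f) (hd : Shape d) {g g' : G16}
    (hU : ∀ a b, g ⬝₆ (pk u v a b) = g' ⬝₆ (pk u v a b)) (hU' : ∀ a b, g ⬝₆ (pk e f a b) = g' ⬝₆ (pk e f a b)) :
    g = g' := gl_ext_mulVec fun z => by
  obtain ⟨a, b, a', b', rfl⟩ := h.decomp hd z
  rw [Matrix.mulVec_add, Matrix.mulVec_add, hU, hU']

theorem Fr.fixed (h : Fr d ε u v e f) (hd : Shape d) {z : (Fin 2 → Fin 4) → F} (hz : (pU d u v) ⬝₆ z = z) :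
    ∃ a b, z = pk e f a b := by
  obtain ⟨a, b, a', b', rfl⟩ := h.decomp hd z
  rw [Matrix.mulVec_add, h.pU_neg, h.pU_pos, add_left_inj, neg_eq_iff_add_eq_zero] at hz
  refine ⟨a', b', ?_⟩
  rw [← two_smul F, smul_eq_zero] at hz
  rw [hz.resolve_left hd.two, zero_add]

theorem Fr.negated (h : Fr d ε u v e f) (hd : Shape d) {z : (Fin 2 → Fin 4) → F} (hz : (pU d u v) ⬝₆ z = -z) :
    ∃ a b, z = pk u v a b := by
  obtain ⟨a, b, a', b', rfl⟩ := h.decomp hd z
  rw [Matrix.mulVec_add, h.pU_neg, h.pU_pos, neg_add, add_right_inj, ← add_eq_zero_iff_eq_neg, ← two_smul F,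
    smul_eq_zero] at hz
  exact ⟨a, b, by rw [hz.resolve_left hd.two, add_zero]⟩

/-- Commuting elements preserve both planes. -/
theorem Fr.keep_pos (h : Fr d ε u v e f) (hd : Shape d) {g : G16} (hc : Commute g (pU d u v)) (a b : Fin 4 → F) :
    ∃ a' b', g ⬝₆ (pk e f a b) = pk e f a' b' :=
  h.fixed hd (by rw [← gl_mul_mulVec, ← hc.eq, gl_mul_mulVec, h.pU_pos])

theorem Fr.keep_neg (h : Fr d ε u v e f) (hd : Shape d) {g : G16} (hc : Commute g (pU d u v)) (a b : Fin 4 → F) :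
    ∃ a' b', g ⬝₆ (pk u v a b) = pk u v a' b' :=
  h.negated hd (by rw [← gl_mul_mulVec, ← hc.eq, gl_mul_mulVec, h.pU_neg, Matrix.mulVec_neg])

theorem polar_pk (h : Fr d ε u v e f) (a b a' b' : Fin 4 → F) :
    polar Q16 (pk e f a b) (pk e f a' b') = 2 * Qd d e * (bform d a a' - ε * bform d b b') := by
  simp only [pk, polar_add_left, polar_add_right, polar_tv, bform_self, h.ef, bform_comm d f e, h.ff]
  ring

theorem polar_mk (h : Fr d ε u v e f) (a b a' b' : Fin 4 → F) :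
    polar Q16 (pk u v a b) (pk u v a' b') = 2 * Qd d u * (bform d a a' - bform d b b') := by
  simp only [pk, polar_add_left, polar_add_right, polar_tv, bform_self, h.uv, bform_comm d v u, h.vv]
  ring

theorem pk_inj (h : Fr d ε u v e f) {a b a' b' : Fin 4 → F} (he : pk e f a b = pk e f a' b') : a = a' ∧ b = b' := by
  have e1 := congrArg (ctl d e) he
  have e2 := congrArg (ctl d f) he
  simp only [pk, ctl_add, ctl_tv, bform_self, h.ef, bform_comm d f e, zero_smul, add_zero, zero_add] at e1 e2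
  exact ⟨smul_right_injective _ h.e0 e1, smul_right_injective _ h.f0 e2⟩

theorem mk_inj (h : Fr d ε u v e f) {a b a' b' : Fin 4 → F} (he : pk u v a b = pk u v a' b') : a = a' ∧ b = b' := by
  have e1 := congrArg (ctl d u) he
  have e2 := congrArg (ctl d v) he
  simp only [pk, ctl_add, ctl_tv, bform_self, h.uv, bform_comm d v u, zero_smul, add_zero, zero_add] at e1 e2
  exact ⟨smul_right_injective _ h.u0 e1, smul_right_injective _ h.v0 e2⟩

theorem cref_pk (h : Fr d ε u v e f) (a y1 y2 : Fin 4 → F) :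
    (cref d u a) ⬝₆ (pk e f y1 y2) = pk e f ((refG d a) ⬝₄ y1) ((refG d a) ⬝₄ y2) := by
  rw [gl_mul_mulVec, pk, Matrix.mulVec_add, fac1_tv, fac1_tv, Matrix.mulVec_add, fac0_tv, fac0_tv,
    refG_orth h.ue, refG_orth h.uf, pk]

theorem cref_mk (h : Fr d ε u v e f) (a y1 y2 : Fin 4 → F) :
    (cref d u a) ⬝₆ (pk u v y1 y2) = pk u v (-((refG d a) ⬝₄ y1)) ((refG d a) ⬝₄ y2) := by
  rw [gl_mul_mulVec, pk, Matrix.mulVec_add, fac1_tv, fac1_tv, Matrix.mulVec_add, fac0_tv, fac0_tv,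
    refG_self h.u0, refG_orth h.uv, pk, tv_neg, tv_neg']

theorem cref_commute (h : Fr d ε u v e f) (hd : Shape d) (a : Fin 4 → F) :
    Commute (cref d u a) (pU d u v) := h.ext_pm hd
  (fun y1 y2 => by rw [gl_mul_mulVec (cref d u a) (pU d u v), gl_mul_mulVec (pU d u v) (cref d u a), h.pU_neg,
    Matrix.mulVec_neg, cref_mk h, h.pU_neg])
  (fun y1 y2 => by rw [gl_mul_mulVec (cref d u a) (pU d u v), gl_mul_mulVec (pU d u v) (cref d u a), h.pU_pos,
    cref_pk h, h.pU_pos])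

variable (H : Hyp d X)
include H

theorem Hyp.fix_conj (h : Fr d ε u v e f) {g k : G16} (hg : g ∈ X) (hc : Commute g (pU d u v)) (hk : Fix X e f k) :
    Fix X e f (g * k * g⁻¹) :=
  .of_pk (mul_mem (mul_mem hg hk.1) (inv_mem hg)) fun a b => by
    obtain ⟨a', b', e'⟩ := h.keep_pos H.shape hc.inv_left a b
    rw [gl_mul_mulVec, gl_mul_mulVec, e', hk.act, ← e', gl_mulVec_inv_cancel]

theorem Hyp.fix_conj' (h : Fr d ε u v e f) {g k : G16} (hg : g ∈ X) (hc : Commute g (pU d u v)) (hk : Fix X u v k) :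
    Fix X u v (g * k * g⁻¹) :=
  .of_pk (mul_mem (mul_mem hg hk.1) (inv_mem hg)) fun a b => by
    obtain ⟨a', b', e'⟩ := h.keep_neg H.shape hc.inv_left a b
    rw [gl_mul_mulVec, gl_mul_mulVec, e', hk.act, ← e', gl_mulVec_inv_cancel]

/-- The rotations of the second plane. -/
theorem Hyp.turn' (h : Fr d ε u v e f) {k : G16} (hk : Fix X u v k) :
    ∃ α β : F, α * α - ε * (β * β) = 1 ∧
      ∀ x1 x2, k ⬝₆ (pk e f x1 x2) = pk e f (α • x1 + (ε * β) • x2) (β • x1 + α • x2) := by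
  obtain ⟨α, β, hn, hkk⟩ := H.fix_rot h.ob' h.ff hk.1 hk.2.1 hk.2.2
  refine ⟨α, β, hn, fun x1 x2 => ?_⟩
  rw [pk, Matrix.mulVec_add, (hkk x1).1, (hkk x2).2, pk]
  simp only [tv_add, tv_add', tv_smul, tv_smul']
  abel

/-- A rotation of the second plane moving both vectors. -/
theorem Hyp.exists_turn' (h : Fr d ε u v e f) : ∃ (k : G16) (α β : F), Fix X u v k ∧ β ≠ 0 ∧
    ∀ y, k ⬝₆ (tv e y) = pk e f (α • y) (β • y) := by
  have h2 := H.shape.two
  have h1 : (1 : F) - ε ≠ 0 := sub_ne_zero.2 fun e1 => h.ns (e1 ▸ IsSquare.one)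
  have hQo : Qd d (e + f) = (1 - ε) * Qd d e := by
    rw [← bform_self, badd, badd_left, badd_left, bform_self, bform_self, bform_comm d f e, h.ef, h.ff]
    ring
  have hfix : ∀ s, bform d e s = 0 → bform d f s = 0 → (refG d e * refG d (e + f)) ⬝₄ s = s := fun s h1' h2' => by
    rw [gl_mul_mulVec, refG_orth (show bform d (e + f) s = 0 by rw [badd_left, h1', h2', add_zero]), refG_orth h1']
  refine ⟨facG 0 (refG d e * refG d (e + f)), 2 / (1 - ε) - 1, -(2 / (1 - ε)),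
    ⟨H.rot_mem 0 h.e0 (by rw [hQo]; exact mul_ne_zero h1 h.e0), fun y => ?_, fun y => ?_⟩,
    neg_ne_zero.2 (div_ne_zero h2 h1), fun y => ?_⟩
  · rw [fac0_tv, hfix u (by rw [bform_comm, h.ue]) (by rw [bform_comm, h.uf])]
  · rw [fac0_tv, hfix v (by rw [bform_comm, h.ve]) (by rw [bform_comm, h.vf])]
  · have he : (refG d e * refG d (e + f)) ⬝₄ e = (2 / (1 - ε) - 1) • e + (-(2 / (1 - ε))) • f := by
      rw [gl_mul_mulVec, refG_apply (e + f), hQo, badd_left, bform_self, bform_comm d f e, h.ef, add_zero,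
        show ((1 - ε) * Qd d e)⁻¹ * (2 * Qd d e) = 2 / (1 - ε) by have := h.e0; field_simp,
        Matrix.mulVec_sub, Matrix.mulVec_smul, Matrix.mulVec_add, refG_self h.e0, refG_orth h.ef]
      module
    rw [fac0_tv, he, pk, tv_add, tv_smul, tv_smul, tv_smul', tv_smul']

/-- Rotations of the second plane commute. -/
theorem Hyp.turn_comm' (h : Fr d ε u v e f) {k l : G16} (hk : Fix X u v k) (hl : Fix X u v l) : Commute k l := by
  obtain ⟨α, β, -, ek⟩ := H.turn' h hk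
  obtain ⟨γ, δ, -, el⟩ := H.turn' h hl
  refine h.ext_pm H.shape (fun a b => by rw [(hk.mul hl).act, (hl.mul hk).act]) fun a b => ?_
  rw [gl_mul_mulVec, gl_mul_mulVec, el, ek, ek, el]
  congr 1 <;> module

/-- The scalar of a rotation of the first plane on a singular line. -/
theorem Hyp.turn (h : Fr d ε u v e f) {k : G16} (hk : Fix X e f k) :
    ∃ l : F, l ≠ 0 ∧ ∀ y, k ⬝₆ (tv (u + v) y) = l • tv (u + v) y ∧ k ⬝₆ (tv (u - v) y) = l⁻¹ • tv (u - v) y := by
  obtain ⟨α, β, hn, hkk⟩ := H.fix_rot h.ob (ρ := 1) (by rw [one_mul, h.vv]) hk.1 hk.2.1 hk.2.2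
  have hl : (α + β) * (α - β) = 1 := by linear_combination hn
  refine ⟨α + β, left_ne_zero_of_mul_eq_one hl, fun y => ⟨?_, ?_⟩⟩
  · rw [tv_add, Matrix.mulVec_add, (hkk y).1, (hkk y).2]
    simp only [tv_add, tv_smul, one_mul]
    module
  · rw [show u - v = u + (-1 : F) • v by module, tv_add, tv_smul, Matrix.mulVec_add, Matrix.mulVec_smul, (hkk y).1,
      (hkk y).2, show (α + β)⁻¹ = α - β from inv_eq_of_mul_eq_one_right hl]
    simp only [tv_add, tv_smul, one_mul]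
    module

/-- Rotations of the first plane with equal scalars are equal. -/
theorem Hyp.turn_ext (h : Fr d ε u v e f) {k k' : G16} (hk : Fix X e f k) (hk' : Fix X e f k')
    (hp : ∀ y, k ⬝₆ (tv (u + v) y) = k' ⬝₆ (tv (u + v) y))
    (hm : ∀ y, k ⬝₆ (tv (u - v) y) = k' ⬝₆ (tv (u - v) y)) : k = k' := by
  refine h.ext_pm H.shape (fun a b => ?_) fun a b => by rw [hk.act, hk'.act]
  have h2 := H.shape.two
  have hu : ∀ y, tv u y = (2 : F)⁻¹ • tv (u + v) y + (2 : F)⁻¹ • tv (u - v) y := fun y => by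
    rw [← tv_smul, ← tv_smul, ← tv_add]
    congr 1
    match_scalars <;> field_simp <;> ring
  have hv : ∀ y, tv v y = (2 : F)⁻¹ • tv (u + v) y + (-(2 : F)⁻¹) • tv (u - v) y := fun y => by
    rw [← tv_smul, ← tv_smul, ← tv_add]
    congr 1
    match_scalars <;> field_simp <;> ring
  rw [pk, hu a, hv b]
  simp only [Matrix.mulVec_add, Matrix.mulVec_smul, hp, hm]

theorem Hyp.turn_comm (h : Fr d ε u v e f) {k l : G16} (hk : Fix X e f k) (hl : Fix X e f l) : Commute k l := by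
  obtain ⟨a, -, ea⟩ := H.turn h hk
  obtain ⟨b, -, eb⟩ := H.turn h hl
  refine H.turn_ext h (hk.mul hl) (hl.mul hk) (fun y => ?_) fun y => ?_
  · rw [gl_mul_mulVec, gl_mul_mulVec, (eb y).1, (ea y).1, Matrix.mulVec_smul, Matrix.mulVec_smul, (eb y).1, (ea y).1,
      smul_smul, smul_smul, mul_comm]
  · rw [gl_mul_mulVec, gl_mul_mulVec, (eb y).2, (ea y).2, Matrix.mulVec_smul, Matrix.mulVec_smul, (eb y).2, (ea y).2,
      smul_smul, smul_smul, mul_comm]

omit H in
theorem eig_pow {k : G16} {z : (Fin 2 → Fin 4) → F} {l : F} (h : k ⬝₆ z = l • z) : ∀ n : ℕ,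
    (k ^ n) ⬝₆ z = l ^ n • z
  | 0 => by simp
  | n + 1 => by rw [pow_succ, gl_mul_mulVec, h, Matrix.mulVec_smul, eig_pow h n, smul_smul, pow_succ']

theorem Hyp.turn_pow (h : Fr d ε u v e f) {k : G16} (hk : Fix X e f k) : k ^ (Fintype.card F - 1) = 1 := by
  obtain ⟨a, ha, ea⟩ := H.turn h hk
  refine H.turn_ext h (hk.pow _) .one (fun y => ?_) fun y => ?_
  · rw [eig_pow (ea y).1, FiniteField.pow_card_sub_one_eq_one a ha, one_smul]
    simp
  · rw [eig_pow (ea y).2, FiniteField.pow_card_sub_one_eq_one a⁻¹ (inv_ne_zero ha), one_smul]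
    simp

/-- The product of the two reflections inverts the rotations of the first plane. -/
theorem Hyp.cref_turn (h : Fr d ε u v e f) {a : Fin 4 → F} (ha : Qd d a ≠ 0) {k : G16} (hk : Fix X e f k) :
    cref d u a * k * (cref d u a)⁻¹ = k⁻¹ := by
  obtain ⟨l, hl, el⟩ := H.turn h hk
  obtain ⟨c, hc⟩ : ∃ c, c = cref d u a := ⟨_, rfl⟩
  have hcX : c ∈ X := hc ▸ H.cref_mem h.u0 ha
  have hr : ∀ y, ∃ y', (refG d a) ⬝₄ y' = y := fun y => ⟨_, gl_mulVec_inv_cancel _ y⟩
  have hp : ∀ y, c ⬝₆ (tv (u + v) y) = (-1 : F) • tv (u - v) ((refG d a) ⬝₄ y) := fun y => by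
    rw [hc, gl_mul_mulVec, fac1_tv, fac0_tv, Matrix.mulVec_add, refG_self h.u0, refG_orth h.uv, ← tv_smul]
    congr 1
    module
  have hm : ∀ y, c ⬝₆ (tv (u - v) y) = (-1 : F) • tv (u + v) ((refG d a) ⬝₄ y) := fun y => by
    rw [hc, gl_mul_mulVec, fac1_tv, fac0_tv, Matrix.mulVec_sub, refG_self h.u0, refG_orth h.uv, ← tv_smul]
    congr 1
    module
  have hk' : Fix X e f (c * k * c⁻¹) := H.fix_conj h hcX (hc ▸ cref_commute h H.shape a) hk
  rw [← hc, eq_inv_iff_mul_eq_one]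
  refine H.turn_ext h (hk'.mul hk) .one (fun y => ?_) fun y => ?_
  · obtain ⟨y', rfl⟩ := hr y
    have e1 : c⁻¹ ⬝₆ (tv (u + v) ((refG d a) ⬝₄ y')) = (-1 : F) • tv (u - v) y' := by
      conv_lhs => rw [← neg_neg (tv (u + v) ((refG d a) ⬝₄ y')), ← neg_one_smul F (tv (u + v) _), ← hm]
      rw [Matrix.mulVec_neg, gl_inv_mulVec_cancel, neg_one_smul]
    rw [gl_mul_mulVec, (el _).1, gl_mul_mulVec, gl_mul_mulVec, Matrix.mulVec_smul, e1]
    simp only [Matrix.mulVec_smul, (el y').2, hm, smul_smul, Units.val_one, Matrix.one_mulVec]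
    convert one_smul F (tv (u + v) ((refG d a) ⬝₄ y')) using 2
    field_simp
  · obtain ⟨y', rfl⟩ := hr y
    have e1 : c⁻¹ ⬝₆ (tv (u - v) ((refG d a) ⬝₄ y')) = (-1 : F) • tv (u + v) y' := by
      conv_lhs => rw [← neg_neg (tv (u - v) ((refG d a) ⬝₄ y')), ← neg_one_smul F (tv (u - v) _), ← hp]
      rw [Matrix.mulVec_neg, gl_inv_mulVec_cancel, neg_one_smul]
    rw [gl_mul_mulVec, (el _).2, gl_mul_mulVec, gl_mul_mulVec, Matrix.mulVec_smul, e1]
    simp only [Matrix.mulVec_smul, (el y').1, hp, smul_smul, Units.val_one, Matrix.one_mulVec]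
    convert one_smul F (tv (u - v) ((refG d a) ⬝₄ y')) using 2
    field_simp

end Cfsg.Agent.Classical.OTPow.Four
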