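/-
Conjugates of pairs of reflections by elements commuting with a half turn, seen on the second plane.
-/
import Cfsg.Agent.Lib.Classical.OTPow.Four.Pair

set_option autoImplicit false
set_option linter.unusedSectionVars false

namespace Cfsg.Agent.Classical.OTPow.Four

open Matrix QuadraticMap
open Cfsg.Agent.Classical

variable {F : Type*} [Field F] [Fintype F] {d : Fin 4 → F} {X : Subgroup (GL (Fin 2 → Fin 4) F)}
  {ε : F} {u v e f x1 x2 : Fin 4 → F}

local notation "G16" => GL (Fin 2 → Fin 4) F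
local notation "M16" => Matrix (Fin 2 → Fin 4) (Fin 2 → Fin 4) F
local notation:max g:max " ⬝₆ " x:max => ((g : G16) : M16) *ᵥ x
local notation "Q16" => QW (wt (σ := Fin 2) d)
local notation:max g:max " ⬝₄ " x:max => ((g : GL (Fin 4) F) : Matrix (Fin 4) (Fin 4) F) *ᵥ x

/-- The norm of a pair. -/
def pM (d : Fin 4 → F) (ε : F) (x1 x2 : Fin 4 → F) : F := bform d x1 x1 - ε * bform d x2 x2

/-- The first coordinate of a pair along the moved plane. -/
def pS (d : Fin 4 → F) (ε : F) (x1 x2 b1 b2 : Fin 4 → F) : F :=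
  (bform d b1 x1 - ε * bform d b2 x2) / pM d ε x1 x2

/-- The second coordinate of a pair along the moved plane. -/
def pR (d : Fin 4 → F) (ε : F) (x1 x2 b1 b2 : Fin 4 → F) : F :=
  (bform d b1 x2 - bform d b2 x1) / pM d ε x1 x2

/-- The first coordinate of the reflected pair. -/
def pY1 (d : Fin 4 → F) (ε : F) (x1 x2 b1 b2 : Fin 4 → F) : Fin 4 → F :=
  b1 - (2 * pS d ε x1 x2 b1 b2) • x1 + (2 * pR d ε x1 x2 b1 b2 * ε) • x2

/-- The second coordinate of the reflected pair. -/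
def pY2 (d : Fin 4 → F) (ε : F) (x1 x2 b1 b2 : Fin 4 → F) : Fin 4 → F :=
  b2 - (2 * pS d ε x1 x2 b1 b2) • x2 + (2 * pR d ε x1 x2 b1 b2) • x1

/-- The plane of a pair is the image of a product of reflections. -/
def Hit (d : Fin 4 → F) (X : Subgroup (GL (Fin 2 → Fin 4) F)) (ε : F) (u v e f x1 x2 : Fin 4 → F) : Prop :=
  pM d ε x1 x2 ≠ 0 ∧ ∃ g a, g ∈ X ∧ Commute g (pU d u v) ∧ Qd d a ≠ 0 ∧
    ∀ b1 b2, (g * cref d u a * g⁻¹) ⬝₆ (pk e f b1 b2) = pk e f (pY1 d ε x1 x2 b1 b2) (pY2 d ε x1 x2 b1 b2)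

theorem Fr.norm_ne (h : Fr d ε u v e f) {α β : F} (hab : α ≠ 0 ∨ β ≠ 0) : α * α - ε * (β * β) ≠ 0 := fun h0 => by
  by_cases hb : β = 0
  · subst hb
    rw [mul_zero, mul_zero, sub_zero, mul_self_eq_zero] at h0
    exact hab.elim (fun e' => e' h0) fun e' => e' rfl
  · exact h.ns ⟨α / β, by field_simp; linear_combination -h0⟩

theorem pM_scale (α β : F) : pM d ε (α • x1 + (ε * β) • x2) (β • x1 + α • x2) =
    (α * α - ε * (β * β)) * pM d ε x1 x2 := by
  simp only [pM, badd, badd_left, bsmul, bsmul_left, bform_comm d x2 x1]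
  ring

theorem Hit.scale (hH : Hit d X ε u v e f x1 x2) (h : Fr d ε u v e f) {α β : F} (hab : α ≠ 0 ∨ β ≠ 0) :
    Hit d X ε u v e f (α • x1 + (ε * β) • x2) (β • x1 + α • x2) := by
  obtain ⟨hM, g, a, hg, hc, ha, ht⟩ := hH
  have hN := h.norm_ne hab
  refine ⟨by rw [pM_scale]; exact mul_ne_zero hN hM, g, a, hg, hc, ha, fun b1 b2 => ?_⟩
  rw [ht]
  obtain ⟨N, hN'⟩ : ∃ N, N = α * α - ε * (β * β) := ⟨_, rfl⟩
  rw [← hN'] at hN
  have es : pS d ε (α • x1 + (ε * β) • x2) (β • x1 + α • x2) b1 b2 =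
      (α * pS d ε x1 x2 b1 b2 + ε * β * pR d ε x1 x2 b1 b2) / N := by
    rw [pS, pS, pR, pM_scale, ← hN']
    simp only [badd, bsmul]
    field_simp
    ring
  have er : pR d ε (α • x1 + (ε * β) • x2) (β • x1 + α • x2) b1 b2 =
      (β * pS d ε x1 x2 b1 b2 + α * pR d ε x1 x2 b1 b2) / N := by
    rw [pR, pS, pR, pM_scale, ← hN']
    simp only [badd, bsmul]
    field_simp
    ring
  congr 1 <;>
  · simp only [pY1, pY2, es, er]
    match_scalars <;> field_simp
    all_goals rw [hN']; ring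

variable (H : Hyp d X)
include H

/-- The conjugate of a pair of reflections on the second plane. -/
theorem Hyp.hit_act (h : Fr d ε u v e f) {g : G16} (hg : g ∈ X) (hc : Commute g (pU d u v)) {a : Fin 4 → F}
    (ha : Qd d a ≠ 0) (hx : g ⬝₆ (tv e a) = pk e f x1 x2) :
    pM d ε x1 x2 = Qd d a ∧ ∀ b1 b2,
      (g * cref d u a * g⁻¹) ⬝₆ (pk e f b1 b2) = pk e f (pY1 d ε x1 x2 b1 b2) (pY2 d ε x1 x2 b1 b2) := by
  have h2 := H.shape.two
  have hee : polar Q16 (pk e f x1 x2) (pk e f x1 x2) = polar Q16 (tv e a) (tv e a) := by rw [← hx, H.piso hg]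
  rw [polar_pk h, polar_tv, bform_self (v := e), bform_self (v := a)] at hee
  have hM : pM d ε x1 x2 = Qd d a :=
    mul_left_cancel₀ (mul_ne_zero h2 h.e0) (by rw [pM]; linear_combination hee)
  refine ⟨hM, fun b1 b2 => ?_⟩
  obtain ⟨k0, α0, β0, hk0, hβ0, ek0⟩ := H.exists_turn' h
  obtain ⟨α1, β1, -, ek1⟩ := H.turn' h (H.fix_conj' h hg hc hk0)
  have hf : g ⬝₆ (tv f a) = pk e f (((α1 - α0) / β0) • x1 + (β1 / β0 * ε) • x2)
      (((α1 - α0) / β0) • x2 + (β1 / β0) • x1) := by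
    have e1 := ek1 x1 x2
    rw [← hx, gl_mul_mulVec, gl_mul_mulVec, gl_inv_mulVec_cancel, ek0, pk, tv_smul', tv_smul', Matrix.mulVec_add,
      Matrix.mulVec_smul, Matrix.mulVec_smul, hx] at e1
    have e2 : g ⬝₆ (tv f a) = β0⁻¹ • (pk e f (α1 • x1 + (ε * β1) • x2) (β1 • x1 + α1 • x2) - α0 • pk e f x1 x2) := by
      rw [← e1, add_sub_cancel_left, inv_smul_smul₀ hβ0]
    rw [e2, ← pk_smul, ← pk_sub, ← pk_smul]
    congr 1 <;> match_scalars <;> field_simp <;> ring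
  obtain ⟨c, hcdef⟩ : ∃ c, c = (α1 - α0) / β0 := ⟨_, rfl⟩
  obtain ⟨c', hc'def⟩ : ∃ c', c' = β1 / β0 := ⟨_, rfl⟩
  rw [← hcdef, ← hc'def] at hf
  have hM0 : pM d ε x1 x2 ≠ 0 := by rw [hM]; exact ha
  have hc0 : c = 0 := by
    have hh : polar Q16 (g ⬝₆ (tv e a)) (g ⬝₆ (tv f a)) = 0 := by rw [H.piso hg, polar_tv, h.ef]; ring
    rw [hx, hf, polar_pk h] at hh
    simp only [badd, bsmul, bform_comm d x2 x1] at hh
    refine (mul_eq_zero.1 (show 2 * Qd d e * (c * pM d ε x1 x2) = 0 by rw [pM]; linear_combination hh)).resolve_left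
      (mul_ne_zero h2 h.e0) |> fun hh' => (mul_eq_zero.1 hh').resolve_right hM0
  have hc1 : c' * c' = 1 := by
    have hh : polar Q16 (g ⬝₆ (tv f a)) (g ⬝₆ (tv f a)) = 2 * (Qd d f * Qd d a) := by
      rw [H.piso hg, polar_tv, bform_self, bform_self]
    rw [hf, hc0, polar_pk h, h.ff, ← hM] at hh
    simp only [badd, badd_left, bsmul, bsmul_left, pM, bform_comm d x2 x1] at hh
    refine mul_right_cancel₀ (mul_ne_zero (mul_ne_zero (mul_ne_zero h2 h.e0) h.eps0) hM0) ?_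
    rw [pM]
    linear_combination -hh
  rw [hc0] at hf
  obtain ⟨b1', b2', hb⟩ := h.keep_pos H.shape hc.inv_left b1 b2
  have hw : g ⬝₆ (pk e f b1' b2') = pk e f b1 b2 := by rw [← hb, gl_mulVec_inv_cancel]
  have k1 : bform d a b1' = bform d b1 x1 - ε * bform d b2 x2 := by
    have hh := H.piso hg (pk e f b1' b2') (tv e a)
    rw [hw, hx, polar_pk h, ← pk_left e f a, polar_pk h, bzero, mul_zero, sub_zero, bform_comm d b1' a] at hh
    exact mul_left_cancel₀ (mul_ne_zero h2 h.e0) hh.symm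
  have k2 : bform d a b2' = -(c' * (bform d b1 x2 - bform d b2 x1)) := by
    have hh := H.piso hg (pk e f b1' b2') (tv f a)
    rw [hw, hf, polar_pk h, ← pk_right e f a, polar_pk h, bzero, zero_sub, bform_comm d b2' a] at hh
    simp only [badd, bsmul, zero_mul, zero_add] at hh
    refine mul_left_cancel₀ (mul_ne_zero (mul_ne_zero h2 h.e0) h.eps0) ?_
    linear_combination hh
  rw [gl_mul_mulVec, gl_mul_mulVec g, hb, cref_pk h, refG_apply, refG_apply, k1, k2]
  rw [show pk e f (b1' - ((Qd d a)⁻¹ * (2 * (bform d b1 x1 - ε * bform d b2 x2))) • a)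
      (b2' - ((Qd d a)⁻¹ * (2 * -(c' * (bform d b1 x2 - bform d b2 x1)))) • a) =
      pk e f b1' b2' - (((Qd d a)⁻¹ * (2 * (bform d b1 x1 - ε * bform d b2 x2))) • tv e a +
        ((Qd d a)⁻¹ * (2 * -(c' * (bform d b1 x2 - bform d b2 x1)))) • tv f a) by
    simp only [pk, tv_sub', tv_smul']; abel,
    Matrix.mulVec_sub, Matrix.mulVec_add, Matrix.mulVec_smul, Matrix.mulVec_smul, hw, hx, hf, ← pk_smul, ← pk_smul,
    ← pk_add, ← pk_sub]
  congr 1 <;>
  · simp only [pY1, pY2, pS, pR, hM]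
    match_scalars <;> field_simp
    all_goals first
      | ring1
      | linear_combination (bform d b1 x2 - bform d b2 x1) * hc1
      | linear_combination (ε * (bform d b1 x2 - bform d b2 x1)) * hc1

/-- The image of a pure vector gives a pair. -/
theorem Hyp.hit_img (h : Fr d ε u v e f) {g : G16} (hg : g ∈ X) (hc : Commute g (pU d u v)) {a : Fin 4 → F}
    (ha : Qd d a ≠ 0) (hx : g ⬝₆ (tv e a) = pk e f x1 x2) :
    pM d ε x1 x2 = Qd d a ∧ Hit d X ε u v e f x1 x2 := by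
  obtain ⟨hM, hact⟩ := H.hit_act h hg hc ha hx
  exact ⟨hM, by rw [hM]; exact ha, g, a, hg, hc, ha, hact⟩

/-- A pair moves every pure vector onto a pair. -/
theorem Hyp.hit_step (h : Fr d ε u v e f) (hH : Hit d X ε u v e f x1 x2) {b : Fin 4 → F} (hb : Qd d b ≠ 0) :
    pM d ε (pY1 d ε x1 x2 b 0) (pY2 d ε x1 x2 b 0) = Qd d b ∧
      Hit d X ε u v e f (pY1 d ε x1 x2 b 0) (pY2 d ε x1 x2 b 0) := by
  obtain ⟨-, g, a, hg, hc, ha, ht⟩ := hH
  exact H.hit_img h (mul_mem (mul_mem hg (H.cref_mem h.u0 ha)) (inv_mem hg))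
    ((hc.mul_left (cref_commute h H.shape a)).mul_left hc.inv_left) hb (by rw [← ht, pk_left])

omit H in
/-- The Gram determinant of a pair. -/
def pD (d x1 x2 : Fin 4 → F) : F := bform d x1 x1 * bform d x2 x2 - bform d x1 x2 * bform d x1 x2

omit H in
theorem pD_li (hD : pD d x1 x2 ≠ 0) {c1 c2 : F} (hc : c1 • x1 + c2 • x2 = 0) : c1 = 0 ∧ c2 = 0 := by
  have e1 := congrArg (bform d x1) hc
  have e2 := congrArg (bform d x2) hc
  simp only [badd, bsmul, bzero, bform_comm d x2 x1] at e1 e2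
  constructor <;> refine (mul_eq_zero.1 ?_).resolve_right hD <;> rw [pD]
  · linear_combination (bform d x2 x2) * e1 - (bform d x1 x2) * e2
  · linear_combination (bform d x1 x1) * e2 - (bform d x1 x2) * e1

omit H in
theorem exists_span (hD : pD d x1 x2 ≠ 0) (p q : F) :
    ∃ c1 c2 : F, bform d (c1 • x1 + c2 • x2) x1 = p ∧ bform d (c1 • x1 + c2 • x2) x2 = q := by
  refine ⟨(p * bform d x2 x2 - q * bform d x1 x2) / pD d x1 x2, (q * bform d x1 x1 - p * bform d x1 x2) / pD d x1 x2,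
    ?_, ?_⟩ <;>
  · simp only [badd_left, bsmul_left, bform_comm d x2 x1]
    field_simp
    rw [pD]
    ring

/-- A pair with singular Gram matrix leads to one with anisotropic complement. -/
theorem Hyp.hit_sing (h : Fr d ε u v e f) (hH : Hit d X ε u v e f x1 x2)
    (li : ∀ c1 c2 : F, c1 • x1 + c2 • x2 = 0 → c1 = 0 ∧ c2 = 0) (hD : pD d x1 x2 = 0) :
    ∃ y1 y2, Hit d X ε u v e f y1 y2 ∧ pD d y1 y2 ≠ 0 ∧
      ∀ z, bform d z y1 = 0 → bform d z y2 = 0 → Qd d z = 0 → z = 0 := by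
  have hd := H.shape
  have h2 := hd.two
  -- normalise
  obtain ⟨w, o, hH', hwo, hoo, ho⟩ : ∃ w o, Hit d X ε u v e f w o ∧ bform d w o = 0 ∧ bform d o o = 0 ∧ o ≠ 0 := by
    rw [pD] at hD
    by_cases h11 : bform d x1 x1 = 0
    · rw [h11, zero_mul, zero_sub, neg_eq_zero, mul_self_eq_zero] at hD
      refine ⟨_, _, hH.scale h (α := 0) (β := 1) (Or.inr one_ne_zero), ?_, ?_, ?_⟩
      · simp [bsmul, bsmul_left, bform_comm d x2 x1, hD]
      · simp [h11]
      · intro e0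
        exact one_ne_zero (li 1 0 (by simpa using e0)).1
    · refine ⟨_, _, hH.scale h (α := bform d x1 x1) (β := -bform d x1 x2) (Or.inl h11), ?_, ?_, ?_⟩
      · simp only [badd, badd_left, bsmul, bsmul_left, bform_comm d x2 x1]
        linear_combination (-ε * bform d x1 x2) * hD
      · simp only [badd, badd_left, bsmul, bsmul_left, bform_comm d x2 x1]
        linear_combination (bform d x1 x1) * hD
      · exact fun e0 => h11 (li _ _ e0).2
  have hm : pM d ε w o = bform d w w := by rw [pM, hoo]; ring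
  obtain ⟨m, hmdef⟩ : ∃ m, m = bform d w w := ⟨_, rfl⟩
  rw [← hmdef] at hm
  have hm0 : m ≠ 0 := hm ▸ hH'.1
  obtain ⟨z, hz⟩ : ∃ z, bform d o z ≠ 0 := by
    by_contra hh
    push Not at hh
    exact ho (eq_zero_of_orth hd.ne hh)
  obtain ⟨z2, hz2⟩ : ∃ z2, z2 = (bform d o z)⁻¹ • (z - (bform d z w / m) • w) := ⟨_, rfl⟩
  have hoz2 : bform d o z2 = 1 := by
    rw [hz2, bsmul, bsub, bsmul, bform_comm d o w, hwo, mul_zero, sub_zero, inv_mul_cancel₀ hz]
  have hwz2 : bform d w z2 = 0 := by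
    rw [hz2, bsmul, bsub, bsmul, ← hmdef, bform_comm d w z, div_mul_cancel₀ _ hm0, sub_self, mul_zero]
  obtain ⟨o', ho'⟩ : ∃ o', o' = z2 - (bform d z2 z2 / 2) • o := ⟨_, rfl⟩
  have e1 : bform d o o' = 1 := by rw [ho', bsub, bsmul, hoo, hoz2]; ring
  have e2 : bform d w o' = 0 := by rw [ho', bsub, bsmul, hwo, hwz2]; ring
  have e3 : bform d o' o' = 0 := by
    rw [ho']
    simp only [bsub, bsub_left, bsmul, bsmul_left, hoo, hoz2, bform_comm d z2 o]
    field_simp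
    ring
  obtain ⟨c, hc⟩ : ∃ c, c = -(m / 2) - 2 * ε / m := ⟨_, rfl⟩
  obtain ⟨b, hb⟩ : ∃ b, b = c • o + o' + w := ⟨_, rfl⟩
  have fbw : bform d b w = m := by
    rw [hb, badd_left, badd_left, bsmul_left, bform_comm d o w, hwo, bform_comm d o' w, e2, ← hmdef]; ring
  have fbo : bform d b o = 1 := by
    rw [hb, badd_left, badd_left, bsmul_left, hoo, bform_comm d o' o, e1, hwo]; ring
  have hQb : Qd d b = -(4 * ε) / m := by
    rw [← bform_self]
    conv_lhs => rw [hb]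
    simp only [badd, badd_left, bsmul, bsmul_left, hoo, hwo, bform_comm d o w, bform_comm d o' o, e1, e3,
      bform_comm d o' w, e2, ← hmdef]
    rw [hc]
    field_simp
    ring
  have h4 : (4 : F) ≠ 0 := by
    rw [show (4 : F) = 2 * 2 by norm_num]
    exact mul_ne_zero h2 h2
  have hQb0 : Qd d b ≠ 0 := by
    rw [hQb]
    exact div_ne_zero (neg_ne_zero.2 (mul_ne_zero h4 h.eps0)) hm0
  obtain ⟨-, hY⟩ := H.hit_step h hH' hQb0
  have eY1 : pY1 d ε w o b 0 = (c + 2 * ε / m) • o + o' - w := by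
    rw [pY1, pS, pR, hm, fbw, fbo, bzero_left, bzero_left, hb]
    match_scalars <;> field_simp <;> ring
  have eY2 : pY2 d ε w o b 0 = (2 / m) • w - (2 : F) • o := by
    rw [pY2, pS, pR, hm, fbw, fbo, bzero_left, bzero_left]
    match_scalars <;> field_simp <;> ring
  have q1 : bform d (pY1 d ε w o b 0) (pY1 d ε w o b 0) = 0 := by
    rw [eY1]
    simp only [badd, badd_left, bsub, bsub_left, bsmul, bsmul_left, hoo, hwo, bform_comm d o w, bform_comm d o' o, e1,
      e3, bform_comm d o' w, e2, ← hmdef]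
    rw [hc]
    field_simp
    ring
  have q2 : bform d (pY1 d ε w o b 0) (pY2 d ε w o b 0) = -4 := by
    rw [eY1, eY2]
    simp only [badd_left, bsub, bsub_left, bsmul, bsmul_left, hoo, hwo, bform_comm d o w, bform_comm d o' o, e1,
      bform_comm d o' w, e2, ← hmdef]
    field_simp
    ring
  refine ⟨_, _, hY, ?_, fun z' hz1 hz2' hQ => ?_⟩
  · rw [pD, q1, q2, zero_mul, zero_sub, neg_ne_zero, neg_mul_neg]
    exact mul_ne_zero h4 h4
  · obtain ⟨t, rfl⟩ := no_ts hd (v := pY1 d ε w o b 0) (by rw [← bform_self]; exact q1) hQ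
      (by rw [bform_comm]; exact hz1) (fun e0 => h4 (neg_eq_zero.1 (by rw [← q2, e0, bzero_left])))
    rw [bsmul_left, q2, mul_eq_zero] at hz2'
    rw [hz2'.resolve_right (neg_ne_zero.2 h4), zero_smul]

/-- A pair with isotropic complement leads to one with singular Gram matrix. -/
theorem Hyp.hit_hyp (h : Fr d ε u v e f) (hH : Hit d X ε u v e f x1 x2) (hD : pD d x1 x2 ≠ 0) {z0 : Fin 4 → F}
    (hz0 : z0 ≠ 0) (hz1 : bform d z0 x1 = 0) (hz2 : bform d z0 x2 = 0) (hQ : Qd d z0 = 0) :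
    ∃ y1 y2, Hit d X ε u v e f y1 y2 ∧ pD d y1 y2 = 0 ∧ ∀ c1 c2 : F, c1 • y1 + c2 • y2 = 0 → c1 = 0 ∧ c2 = 0 := by
  have hd := H.shape
  have h2 := hd.two
  obtain ⟨z, hz⟩ : ∃ z, bform d z0 z ≠ 0 := by
    by_contra hh
    push Not at hh
    exact hz0 (eq_zero_of_orth hd.ne hh)
  obtain ⟨p1, p2, hp1, hp2⟩ := exists_span hD (bform d z x1) (bform d z x2)
  obtain ⟨w0, hw0⟩ : ∃ w0, w0 = (bform d z0 z)⁻¹ • (z - (p1 • x1 + p2 • x2)) := ⟨_, rfl⟩
  have w01 : bform d w0 x1 = 0 := by rw [hw0, bsmul_left, bsub_left, hp1, sub_self, mul_zero]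
  have w02 : bform d w0 x2 = 0 := by rw [hw0, bsmul_left, bsub_left, hp2, sub_self, mul_zero]
  have w00 : bform d z0 w0 = 1 := by
    rw [hw0, bsmul, bsub, badd, bsmul, bsmul, hz1, hz2, mul_zero, mul_zero, add_zero, sub_zero, inv_mul_cancel₀ hz]
  have hM := hH.1
  obtain ⟨r, s, hI⟩ : ∃ r s : F, Qd d (r • x1 - s • x2) ≠ 0 := by
    by_cases h11 : bform d x1 x1 = 0
    · refine ⟨0, 1, ?_⟩
      rw [zero_smul, zero_sub, one_smul, ← bform_self, bneg, bneg_left, neg_neg]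
      intro h22
      rw [pM, h11, h22, mul_zero, sub_zero] at hM
      exact hM rfl
    · exact ⟨1, 0, by rwa [zero_smul, sub_zero, one_smul, ← bform_self]⟩
  obtain ⟨c1, c2, hb1, hb2⟩ := exists_span hD (s * pM d ε x1 x2) (r * pM d ε x1 x2)
  obtain ⟨I, hIdef⟩ : ∃ I, I = r • x1 - s • x2 := ⟨_, rfl⟩
  rw [← hIdef] at hI
  obtain ⟨R0, hR0⟩ : ∃ R0, R0 = c1 • x1 + c2 • x2 - (2 * s) • x1 + (2 * r * ε) • x2 := ⟨_, rfl⟩
  obtain ⟨t, ht⟩ : ∃ t, t = (bform d R0 I * bform d R0 I / Qd d I - Qd d R0 - Qd d w0) / 2 := ⟨_, rfl⟩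
  obtain ⟨w, hw⟩ : ∃ w, w = t • z0 + w0 := ⟨_, rfl⟩
  have w1 : bform d w x1 = 0 := by rw [hw, badd_left, bsmul_left, hz1, w01]; ring
  have w2 : bform d w x2 = 0 := by rw [hw, badd_left, bsmul_left, hz2, w02]; ring
  have hQw : Qd d w = bform d R0 I * bform d R0 I / Qd d I - Qd d R0 := by
    rw [← bform_self, hw]
    simp only [badd, badd_left, bsmul, bsmul_left]
    simp only [bform_self, hQ, bform_comm d w0 z0, w00]
    rw [ht]
    field_simp
    ring
  obtain ⟨b, hb⟩ : ∃ b, b = c1 • x1 + c2 • x2 + w := ⟨_, rfl⟩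
  have eS : pS d ε x1 x2 b 0 = s := by
    rw [pS, hb, badd_left, hb1, w1, bzero_left]; field_simp; ring
  have eR : pR d ε x1 x2 b 0 = r := by
    rw [pR, hb, badd_left, hb2, w2, bzero_left]; field_simp; ring
  have eY1 : pY1 d ε x1 x2 b 0 = R0 + w := by rw [pY1, eS, eR, hR0, hb]; abel
  have eY2 : pY2 d ε x1 x2 b 0 = (2 : F) • I := by rw [pY2, eS, eR, hIdef]; module
  have hwI : bform d w I = 0 := by rw [hIdef, bsub, bsmul, bsmul, w1, w2]; ring
  have hwR : bform d w R0 = 0 := by rw [hR0, badd, bsub, badd, bsmul, bsmul, bsmul, bsmul, w1, w2]; ring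
  have hQy : Qd d (R0 + w) = bform d R0 I * bform d R0 I / Qd d I := by
    rw [← bform_self, badd, badd_left, badd_left, bform_comm d R0 w, hwR, bform_self, bform_self, hQw]
    ring
  have hQb : Qd d b * Qd d I = bform d R0 I * bform d R0 I - ε * ((2 * Qd d I) * (2 * Qd d I)) := by
    obtain ⟨-, g, a, hg, hc, ha, htt⟩ := hH
    have hh := H.piso (mul_mem (mul_mem hg (H.cref_mem h.u0 ha)) (inv_mem hg)) (pk e f b 0) (pk e f b 0)
    rw [htt, polar_pk h, polar_pk h, eY1, eY2, bform_self, bform_self, bform_self, bzero, QuadraticMap.map_smul,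
      smul_eq_mul, hQy] at hh
    have hh' := mul_left_cancel₀ (mul_ne_zero h2 h.e0) hh
    rw [mul_zero, sub_zero] at hh'
    rw [← hh', sub_mul, div_mul_cancel₀ _ hI]
    ring
  have hQb0 : Qd d b ≠ 0 := fun e0 => by
    rw [e0, zero_mul] at hQb
    exact h.norm_ne (α := bform d R0 I) (β := 2 * Qd d I) (Or.inr (mul_ne_zero h2 hI)) hQb.symm
  obtain ⟨-, hY⟩ := H.hit_step h hH hQb0
  refine ⟨_, _, hY, ?_, fun d1 d2 hdd => ?_⟩
  · rw [pD, eY1, eY2]
    simp only [bsmul, bsmul_left, badd_left R0 w I, hwI, add_zero]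
    rw [bform_self, bform_self, hQy]
    field_simp
    ring
  · rw [eY1, eY2] at hdd
    have hh := congrArg (bform d z0) hdd
    simp only [hIdef, hR0, hw, badd, bsub, bsmul, bzero] at hh
    simp only [hz1, hz2, bform_self, hQ, w00] at hh
    have hd1 : d1 = 0 := by linear_combination hh
    rw [hd1, zero_smul, zero_add, smul_smul, smul_eq_zero] at hdd
    exact ⟨hd1, (mul_eq_zero.1 (hdd.resolve_right (ne_zero_of_Q hI))).resolve_right h2⟩

end Cfsg.Agent.Classical.OTPow.Four
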