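/-
The involution of a pair and the reflections orthogonal to it.
-/
import Cfsg.Agent.Lib.Classical.OTPow.Four.PairRefl

set_option autoImplicit false
set_option linter.unusedSectionVars false

namespace Cfsg.Agent.Classical.OTPow.Four

open Matrix QuadraticMap
open Cfsg.Agent.Classical

variable {F : Type*} [Field F] [Fintype F] {d : Fin 4 → F} {X : Subgroup (GL (Fin 2 → Fin 4) F)}
  {ε : F} {u v e f x1 x2 : Fin 4 → F} {T : GL (Fin 2 → Fin 4) F}

local notation "G16" => GL (Fin 2 → Fin 4) F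
local notation "M16" => Matrix (Fin 2 → Fin 4) (Fin 2 → Fin 4) F
local notation:max g:max " ⬝₆ " x:max => ((g : G16) : M16) *ᵥ x
local notation "Q16" => QW (wt (σ := Fin 2) d)
local notation:max g:max " ⬝₄ " x:max => ((g : GL (Fin 4) F) : Matrix (Fin 4) (Fin 4) F) *ᵥ x

/-- The involution of a pair. -/
structure PairInv (d : Fin 4 → F) (X : Subgroup (GL (Fin 2 → Fin 4) F)) (ε : F) (u v e f x1 x2 : Fin 4 → F)
    (T : GL (Fin 2 → Fin 4) F) : Prop where
  mem : T ∈ X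
  comm : Commute T (pU d u v)
  sq : T * T = 1
  inv : ∀ k, Fix X e f k → T * k * T⁻¹ = k⁻¹
  act : ∀ b1 b2, T ⬝₆ (pk e f b1 b2) = pk e f (pY1 d ε x1 x2 b1 b2) (pY2 d ε x1 x2 b1 b2)
  norm : pM d ε x1 x2 ≠ 0

theorem refG_mul_comm {a b : Fin 4 → F} (h : bform d a b = 0) : Commute (refG d a) (refG d b) :=
  Units.ext (by rw [refG_mul_val d h, refG_mul_val d ((bform_comm d b a).trans h), add_comm (projM d a)])

/-- A product of two reflections keeps the form. -/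
theorem bform_refG {a : Fin 4 → F} (ha : Qd d a ≠ 0) (x y : Fin 4 → F) :
    bform d ((refG d a) ⬝₄ x) ((refG d a) ⬝₄ y) = bform d x y := by
  rw [refG_apply, refG_apply]
  simp only [bsub, bsub_left, bsmul, bsmul_left]
  rw [bform_self, bform_comm d x a]
  field_simp
  ring

theorem bform_refG2 {a b : Fin 4 → F} (ha : Qd d a ≠ 0) (hb : Qd d b ≠ 0) (x y : Fin 4 → F) :
    bform d ((refG d a * refG d b) ⬝₄ x) ((refG d a * refG d b) ⬝₄ y) = bform d x y := by
  rw [gl_mul_mulVec, gl_mul_mulVec, bform_refG ha, bform_refG hb]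

theorem refG2_fix {a b s : Fin 4 → F} (ha : bform d a s = 0) (hb : bform d b s = 0) :
    (refG d a * refG d b) ⬝₄ s = s := by
  rw [gl_mul_mulVec, refG_orth hb, refG_orth ha]

/-- The product of two reflections of a plane. -/
theorem rot_plane (hd : Shape d) {s t : Fin 4 → F} {η c : F} (hs : Qd d s ≠ 0) (hst : bform d s t = 0)
    (ht : Qd d t = -(η * Qd d s)) (hN : 1 - η * (c * c) ≠ 0) :
    Qd d (s + c • t) ≠ 0 ∧
      (refG d s * refG d (s + c • t)) ⬝₄ s = (2 / (1 - η * (c * c)) - 1) • s + (-(2 * c / (1 - η * (c * c)))) • t ∧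
      (refG d s * refG d (s + c • t)) ⬝₄ t =
        (η * -(2 * c / (1 - η * (c * c)))) • s + (2 / (1 - η * (c * c)) - 1) • t := by
  have hQo : Qd d (s + c • t) = (1 - η * (c * c)) * Qd d s := by
    rw [← bform_self]
    simp only [badd, badd_left, bsmul, bsmul_left]
    simp only [bform_self, hst, bform_comm d t s, ht]
    ring
  refine ⟨by rw [hQo]; exact mul_ne_zero hN hs, ?_, ?_⟩
  · rw [gl_mul_mulVec, refG_apply (s + c • t), hQo,
      show bform d (s + c • t) s = Qd d s by rw [badd_left, bsmul_left, bform_self, bform_comm d t s, hst]; ring,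
      show ((1 - η * (c * c)) * Qd d s)⁻¹ * (2 * Qd d s) = 2 / (1 - η * (c * c)) by field_simp,
      Matrix.mulVec_sub, Matrix.mulVec_smul, Matrix.mulVec_add, Matrix.mulVec_smul, refG_self hs, refG_orth hst]
    module
  · rw [gl_mul_mulVec, refG_apply (s + c • t), hQo,
      show bform d (s + c • t) t = -(c * η) * Qd d s by rw [badd_left, bsmul_left, bform_self, hst, ht]; ring,
      show ((1 - η * (c * c)) * Qd d s)⁻¹ * (2 * (-(c * η) * Qd d s)) = -(2 * (c * η) / (1 - η * (c * c))) by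
        field_simp,
      Matrix.mulVec_sub, Matrix.mulVec_smul, Matrix.mulVec_add, Matrix.mulVec_smul, refG_self hs, refG_orth hst]
    obtain ⟨N, hNd⟩ : ∃ N, N = 1 - η * (c * c) := ⟨_, rfl⟩
    rw [← hNd] at hN ⊢
    match_scalars <;> field_simp
    all_goals rw [hNd]; ring

/-- Reflection pairs over orthogonal vectors of the second slot commute. -/
theorem cref_comm {a b : Fin 4 → F} (hab : bform d a b = 0) : Commute (cref d u a) (cref d u b) := by
  refine Commute.mul_left (Commute.mul_right (Commute.refl _) (facG_commute (by decide) _ _))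
    (Commute.mul_right (facG_commute (by decide) _ _) ?_)
  exact (refG_mul_comm hab).map (facG 1)

theorem cref_sq (a b : Fin 4 → F) : cref d a b * cref d a b = 1 := by
  have hc : Commute (facG (0 : Fin 2) (refG d a)) (facG 1 (refG d b)) := facG_commute (by decide) _ _
  rw [show cref d a b = facG 0 (refG d a) * facG 1 (refG d b) from rfl, hc.symm.mul_mul_mul_comm, ← map_mul, ← map_mul,
    refG_mul_self, refG_mul_self, map_one, map_one, one_mul]

theorem fac1_pk (R : GL (Fin 4) F) (y1 y2 : Fin 4 → F) :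
    (facG (1 : Fin 2) R) ⬝₆ (pk e f y1 y2) = pk e f (R ⬝₄ y1) (R ⬝₄ y2) := by
  rw [pk, Matrix.mulVec_add, fac1_tv, fac1_tv, pk]

theorem PairInv.slot (hT : PairInv d X ε u v e f x1 x2 T) {R : GL (Fin 4) F}
    (hR : ∀ x y, bform d (R ⬝₄ x) (R ⬝₄ y) = bform d x y) (h1 : R ⬝₄ x1 = x1) (h2 : R ⬝₄ x2 = x2)
    (b1 b2 : Fin 4 → F) :
    T ⬝₆ (pk e f (R ⬝₄ b1) (R ⬝₄ b2)) = (facG (1 : Fin 2) R) ⬝₆ (T ⬝₆ (pk e f b1 b2)) := by
  have r1 : ∀ b, bform d (R ⬝₄ b) x1 = bform d b x1 := fun b => by conv_lhs => rw [← h1, hR]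
  have r2 : ∀ b, bform d (R ⬝₄ b) x2 = bform d b x2 := fun b => by conv_lhs => rw [← h2, hR]
  rw [hT.act, hT.act, fac1_pk]
  simp only [pY1, pY2, pS, pR, r1, r2, Matrix.mulVec_sub, Matrix.mulVec_add, Matrix.mulVec_smul, h1, h2]

theorem iterate_fix {j : G16} {z z1 z2 : (Fin 2 → Fin 4) → F} (h2 : (2 : F) ≠ 0) (h0 : j ⬝₆ z = z + z1)
    (h1 : j ⬝₆ z1 = z1 + z2) (hz2 : j ⬝₆ z2 = z2) : ∀ n : ℕ,
    (j ^ n) ⬝₆ z = z + (n : F) • z1 + ((n : F) * ((n : F) - 1) / 2) • z2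
  | 0 => by simp
  | n + 1 => by
    rw [pow_succ', gl_mul_mulVec, iterate_fix h2 h0 h1 hz2 n, Matrix.mulVec_add, Matrix.mulVec_add,
      Matrix.mulVec_smul, Matrix.mulVec_smul, h0, h1, hz2]
    match_scalars <;> field_simp <;> push_cast <;> ring

variable (H : Hyp d X)
include H

theorem Hit.exists_inv (h : Fr d ε u v e f) (hH : Hit d X ε u v e f x1 x2) :
    ∃ T, PairInv d X ε u v e f x1 x2 T := by
  obtain ⟨hM, g, a, hg, hc, ha, ht⟩ := hH
  refine ⟨g * cref d u a * g⁻¹, mul_mem (mul_mem hg (H.cref_mem h.u0 ha)) (inv_mem hg),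
    (hc.mul_left (cref_commute h H.shape a)).mul_left hc.inv_left, ?_, fun k hk => ?_, ht, hM⟩
  · rw [show g * cref d u a * g⁻¹ * (g * cref d u a * g⁻¹) = g * (cref d u a * cref d u a) * g⁻¹ by group, cref_sq,
      mul_one, mul_inv_cancel]
  · have hk' : Fix X e f (g⁻¹ * k * g) := by simpa using H.fix_conj h (inv_mem hg) hc.inv_left hk
    rw [show g * cref d u a * g⁻¹ * k * (g * cref d u a * g⁻¹)⁻¹ =
      g * (cref d u a * (g⁻¹ * k * g) * (cref d u a)⁻¹) * g⁻¹ by group, H.cref_turn h ha hk']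
    group

/-- A rotation of the second slot commutes with the rotations of the first plane. -/
theorem Hyp.turn_slot (h : Fr d ε u v e f) {R : GL (Fin 4) F} (hR : facG (1 : Fin 2) R ∈ X) {k : G16}
    (hk : Fix X e f k) : Commute k (facG (1 : Fin 2) R) := by
  obtain ⟨c, hc⟩ : ∃ c, c = facG (1 : Fin 2) R := ⟨_, rfl⟩
  rw [← hc] at hR ⊢
  have hcp : Commute c (pU d u v) := hc ▸ facG_commute (by decide) _ _
  have hinv : ∀ s y, c⁻¹ ⬝₆ (tv s y) = tv s (R⁻¹ ⬝₄ y) := fun s y => by rw [hc, ← map_inv, fac1_tv]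
  have e' : c * k * c⁻¹ = k := by
    obtain ⟨l, -, el⟩ := H.turn h hk
    refine H.turn_ext h (H.fix_conj h hR hcp hk) hk (fun y => ?_) fun y => ?_
    · rw [gl_mul_mulVec, gl_mul_mulVec, hinv, (el _).1, Matrix.mulVec_smul, ← hinv, gl_mulVec_inv_cancel, (el y).1]
    · rw [gl_mul_mulVec, gl_mul_mulVec, hinv, (el _).2, Matrix.mulVec_smul, ← hinv, gl_mulVec_inv_cancel, (el y).2]
  exact (mul_inv_eq_iff_eq_mul.1 e').symm

/-- The involution of a pair, corrected by a rotation, commutes with a reflection pair off the pair. -/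
theorem Hyp.pair_correct (h : Fr d ε u v e f) (hT : PairInv d X ε u v e f x1 x2 T)
    (hP : ∀ z, bform d z x1 = 0 → bform d z x2 = 0 → Qd d z = 0 → z = 0) {w : Fin 4 → F} (hw : Qd d w ≠ 0)
    (w1 : bform d w x1 = 0) (w2 : bform d w x2 = 0) :
    ∃ k, Fix X e f k ∧ Commute (k⁻¹ * T) (cref d u w) := by
  have hd := H.shape
  have h2 := hd.two
  obtain ⟨M, hMdef⟩ : ∃ M, M = pM d ε x1 x2 := ⟨_, rfl⟩
  have hM : M ≠ 0 := hMdef ▸ hT.norm
  -- a vector off the reflection on which the pair restricts to a projection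
  let L1 : (Fin 4 → F) →ₗ[F] F :=
    { toFun := fun b => bform d b x1, map_add' := fun x y => badd_left x y x1, map_smul' := fun c x => bsmul_left x x1 c }
  let L2 : (Fin 4 → F) →ₗ[F] F :=
    { toFun := fun b => bform d b x2, map_add' := fun x y => badd_left x y x2, map_smul' := fun c x => bsmul_left x x2 c }
  let L0 : (Fin 4 → F) →ₗ[F] F :=
    { toFun := fun b => bform d w b, map_add' := fun x y => badd w x y, map_smul' := fun c x => bsmul w x c }
  obtain ⟨Φ, hΦ⟩ : ∃ Φ : QuadraticForm F (LinearMap.ker L0), Φ =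
      (QuadraticMap.linMulLin L1 L1 - ε • QuadraticMap.linMulLin L2 L2 - M • Qd d).comp (LinearMap.ker L0).subtype :=
    ⟨_, rfl⟩
  have hrank : 3 ≤ Module.finrank F (LinearMap.ker L0) := by
    have h1 := LinearMap.finrank_range_add_finrank_ker L0
    have h2' : Module.finrank F (LinearMap.range L0) ≤ 1 :=
      (Submodule.finrank_le _).trans_eq (Module.finrank_self F)
    rw [Module.finrank_fin_fun] at h1
    omega
  obtain ⟨⟨b, hbw'⟩, hb0, hb⟩ : ∃ x, x ≠ 0 ∧ Φ x = 0 := by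
    by_contra hh
    push Not at hh
    obtain ⟨x, hx0, hx⟩ := OOmega.exists_singular (Q := Φ) h2 (fun x hx => by
      by_contra hx0
      have e := hx x
      rw [QuadraticMap.polar_self, nsmul_eq_mul, Nat.cast_ofNat, mul_eq_zero] at e
      exact hh x hx0 (e.resolve_left h2)) hrank
    exact hh x hx0 hx
  have hbw : bform d w b = 0 := LinearMap.mem_ker.1 hbw'
  have hb' : bform d b x1 * bform d b x1 - ε * (bform d b x2 * bform d b x2) = M * Qd d b := by
    rw [hΦ] at hb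
    simp [L1, L2] at hb
    linear_combination hb
  have hQb : Qd d b ≠ 0 := fun e0 => by
    rw [e0, mul_zero] at hb'
    by_cases h0 : bform d b x1 = 0 ∧ bform d b x2 = 0
    · exact hb0 (Subtype.ext (hP b h0.1 h0.2 e0))
    · exact h.norm_ne (not_and_or.1 h0) hb'
  -- the product is unipotent on the second plane
  obtain ⟨j, hj⟩ : ∃ j, j = T * cref d u b := ⟨_, rfl⟩
  have hjX : j ∈ X := hj ▸ mul_mem hT.mem (H.cref_mem h.u0 hQb)
  have hjp : Commute j (pU d u v) := hj ▸ hT.comm.mul_left (cref_commute h hd b)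
  obtain ⟨σ, hσ⟩ : ∃ σ, σ = bform d b x1 / Qd d b := ⟨_, rfl⟩
  obtain ⟨τ, hτ⟩ : ∃ τ, τ = bform d b x2 / Qd d b := ⟨_, rfl⟩
  obtain ⟨s, hs⟩ : ∃ s, s = bform d b x1 / M := ⟨_, rfl⟩
  obtain ⟨r, hr⟩ : ∃ r, r = bform d b x2 / M := ⟨_, rfl⟩
  have hkey : σ * s - ε * (τ * r) = 1 := by
    rw [hσ, hτ, hs, hr]; field_simp; linear_combination hb'
  have hswap : σ * r = τ * s := by rw [hσ, hτ, hs, hr]; field_simp
  obtain ⟨L, hL⟩ : ∃ L : F → F → F → F → (Fin 2 → Fin 4) → F, ∀ c1 c2 c3 c4,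
      L c1 c2 c3 c4 = pk e f (c1 • x1 + (c2 * ε) • x2 + c3 • b) (c1 • x2 + c2 • x1 + c4 • b) :=
    ⟨_, fun _ _ _ _ => rfl⟩
  have hstep : ∀ z1 z2, ∃ c1 c2 c3 c4, j ⬝₆ (pk e f z1 z2) = pk e f z1 z2 + L c1 c2 c3 c4 := fun z1 z2 => by
    obtain ⟨a1, ha1⟩ : ∃ a1, a1 = (refG d b) ⬝₄ z1 := ⟨_, rfl⟩
    obtain ⟨a2, ha2⟩ : ∃ a2, a2 = (refG d b) ⬝₄ z2 := ⟨_, rfl⟩
    refine ⟨-(2 * pS d ε x1 x2 a1 a2), 2 * pR d ε x1 x2 a1 a2, -((Qd d b)⁻¹ * (2 * bform d b z1)),
      -((Qd d b)⁻¹ * (2 * bform d b z2)), ?_⟩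
    rw [hj, gl_mul_mulVec, cref_pk h, ← ha1, ← ha2, hT.act, hL, ← pk_add, pY1, pY2]
    congr 1
    · rw [show a1 = z1 - ((Qd d b)⁻¹ * (2 * bform d b z1)) • b by rw [ha1, refG_apply]]
      module
    · rw [show a2 = z2 - ((Qd d b)⁻¹ * (2 * bform d b z2)) • b by rw [ha2, refG_apply]]
      module
  have hsecond : ∀ c1 c2 c3 c4, j ⬝₆ (L c1 c2 c3 c4) = L c1 c2 c3 c4 +
      L (2 * c1 + 2 * s * c3 - 2 * ε * r * c4) (2 * c2 - 2 * r * c3 + 2 * s * c4)
        (-(2 * σ * c1) - 2 * ε * τ * c2 - 2 * c3) (-(2 * τ * c1) - 2 * σ * c2 - 2 * c4) := fun c1 c2 c3 c4 => by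
    rw [hj, gl_mul_mulVec, hL, hL, cref_pk h, hT.act, ← pk_add, refG_apply, refG_apply]
    have e11 : ∀ p q t, bform d (p • x1 + q • x2 + t • b) x1 =
        p * bform d x1 x1 + q * bform d x1 x2 + t * bform d b x1 := fun p q t => by
      simp only [badd_left, bsmul_left, bform_comm d x2 x1]
    have ebb : bform d b (c1 • x1 + (c2 * ε) • x2 + c3 • b) = c1 * (σ * Qd d b) + c2 * ε * (τ * Qd d b) + c3 * Qd d b := by
      rw [badd, badd, bsmul, bsmul, bsmul, bform_self, hσ, hτ]; field_simp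
    have ebb' : bform d b (c1 • x2 + c2 • x1 + c4 • b) = c1 * (τ * Qd d b) + c2 * (σ * Qd d b) + c4 * Qd d b := by
      rw [badd, badd, bsmul, bsmul, bsmul, bform_self, hσ, hτ]; field_simp
    rw [ebb, ebb']
    have eS : pS d ε x1 x2 ((c1 • x1 + (c2 * ε) • x2 + c3 • b) - ((Qd d b)⁻¹ * (2 * (c1 * (σ * Qd d b) + c2 * ε * (τ * Qd d b) + c3 * Qd d b))) • b)
        ((c1 • x2 + c2 • x1 + c4 • b) - ((Qd d b)⁻¹ * (2 * (c1 * (τ * Qd d b) + c2 * (σ * Qd d b) + c4 * Qd d b))) • b) =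
        -(c1 + s * c3 - ε * r * c4) := by
      simp only [pS, ← hMdef, bsub_left, e11, badd_left, bsmul_left, bform_comm d x2 x1]
      have hMx : bform d x1 x1 = M + ε * bform d x2 x2 := by rw [hMdef, pM]; ring
      rw [hMx]
      field_simp at hkey ⊢
      have k1 : bform d b x1 = s * M := by rw [hs]; field_simp
      have k2 : bform d b x2 = r * M := by rw [hr]; field_simp
      rw [k1, k2]
      linear_combination (-2 * M * c1) * hkey + (-2 * M * ε * c2) * (sub_eq_zero.2 hswap.symm)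
    have eR : pR d ε x1 x2 ((c1 • x1 + (c2 * ε) • x2 + c3 • b) - ((Qd d b)⁻¹ * (2 * (c1 * (σ * Qd d b) + c2 * ε * (τ * Qd d b) + c3 * Qd d b))) • b)
        ((c1 • x2 + c2 • x1 + c4 • b) - ((Qd d b)⁻¹ * (2 * (c1 * (τ * Qd d b) + c2 * (σ * Qd d b) + c4 * Qd d b))) • b) =
        c2 - r * c3 + s * c4 := by
      simp only [pR, ← hMdef, bsub_left, e11, badd_left, bsmul_left, bform_comm d x2 x1]
      have hMx : bform d x1 x1 = M + ε * bform d x2 x2 := by rw [hMdef, pM]; ring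
      rw [hMx]
      field_simp at hkey ⊢
      have k1 : bform d b x1 = s * M := by rw [hs]; field_simp
      have k2 : bform d b x2 = r * M := by rw [hr]; field_simp
      rw [k1, k2]
      linear_combination (2 * M * c2) * hkey + (-2 * M * c1) * (sub_eq_zero.2 hswap)
    rw [pY1, pY2, eS, eR]
    have hq : ∀ t, (Qd d b)⁻¹ * (2 * (t * Qd d b)) = 2 * t := fun t => by field_simp
    congr 1 <;> match_scalars <;> field_simp <;> ring
  obtain ⟨p, hp, n, hpr, hq⟩ := FiniteField.card' F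
  have hpF : ((p : ℕ) : F) = 0 := CharP.cast_eq_zero F p
  obtain ⟨k, hk⟩ : ∃ k, k = j ^ p := ⟨_, rfl⟩
  have hkF : Fix X e f k := .of_pk (hk ▸ pow_mem hjX p) fun z1 z2 => by
    obtain ⟨c1, c2, c3, c4, e1⟩ := hstep z1 z2
    obtain ⟨d1, d2, d3, d4, e2⟩ : ∃ d1 d2 d3 d4, j ⬝₆ (L c1 c2 c3 c4) = L c1 c2 c3 c4 + L d1 d2 d3 d4 ∧
        j ⬝₆ (L d1 d2 d3 d4) = L d1 d2 d3 d4 := by
      refine ⟨_, _, _, _, hsecond c1 c2 c3 c4, ?_⟩
      rw [hsecond, add_eq_left, hL, ← pk_zero (e := e) (f := f)]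
      congr 1 <;> match_scalars
      · linear_combination (-4 * c1) * hkey + (-4 * ε * c2) * hswap.symm
      · linear_combination (-4 * ε * c2) * hkey + (4 * ε * c1) * hswap
      · linear_combination (-4 * c3) * hkey + (4 * ε * c4) * hswap
      · linear_combination (-4 * c1) * hkey + (-4 * ε * c2) * hswap.symm
      · linear_combination (-4 * c2) * hkey + (4 * c1) * hswap
      · linear_combination (-4 * c4) * hkey + (4 * c3) * hswap
    rw [hk, iterate_fix h2 e1 e2.1 e2.2, hpF]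
    simp
  -- the commutator with the reflection pair is a square
  obtain ⟨C, hC⟩ : ∃ C, C = cref d u w := ⟨_, rfl⟩
  have hCX : C ∈ X := hC ▸ H.cref_mem h.u0 hw
  have hCC : C * C = 1 := hC ▸ cref_sq u w
  have hCi : C⁻¹ = C := inv_eq_of_mul_eq_one_left hCC
  have hCp : Commute C (pU d u v) := hC ▸ cref_commute h hd w
  have hbC : Commute (cref d u b) C := hC ▸ cref_comm ((bform_comm d b w).trans hbw)
  have hrw1 : (refG d w) ⬝₄ x1 = x1 := refG_orth w1
  have hrw2 : (refG d w) ⬝₄ x2 = x2 := refG_orth w2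
  have hTC : ∀ z1 z2, T ⬝₆ (C ⬝₆ (pk e f z1 z2)) = C ⬝₆ (T ⬝₆ (pk e f z1 z2)) := fun z1 z2 => by
    rw [hC, cref_pk h, hT.slot (bform_refG hw) hrw1 hrw2, hT.act, fac1_pk, cref_pk h]
  have hjC : ∀ z1 z2, j ⬝₆ (C ⬝₆ (pk e f z1 z2)) = C ⬝₆ (j ⬝₆ (pk e f z1 z2)) := fun z1 z2 => by
    rw [hj, gl_mul_mulVec, ← gl_mul_mulVec (cref d u b), hbC.eq, gl_mul_mulVec, cref_pk h, hTC, gl_mul_mulVec T,
      cref_pk h]
  obtain ⟨κ, hκ⟩ : ∃ κ, κ = j * C * j⁻¹ * C := ⟨_, rfl⟩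
  have hκF : Fix X e f κ := .of_pk (hκ ▸ mul_mem (mul_mem (mul_mem hjX hCX) (inv_mem hjX)) hCX) fun z1 z2 => by
    obtain ⟨a1, a2, ea⟩ := h.keep_pos hd hCp z1 z2
    obtain ⟨b1, b2, eb⟩ := h.keep_pos hd hjp.inv_left a1 a2
    rw [hκ, gl_mul_mulVec, ea, gl_mul_mulVec, eb, gl_mul_mulVec, hjC, ← eb, gl_mulVec_inv_cancel, ← ea,
      ← gl_mul_mulVec, hCC, Units.val_one, Matrix.one_mulVec]
  have hjK : ∀ l, Fix X e f l → j * l * j⁻¹ = l := fun l hl => by
    rw [hj, show T * cref d u b * l * (T * cref d u b)⁻¹ = T * (cref d u b * l * (cref d u b)⁻¹) * T⁻¹ by group,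
      H.cref_turn h hQb hl, hT.inv _ hl.inv, inv_inv]
  have hconj : ∀ i : ℕ, j ^ i * C * (j ^ i)⁻¹ = κ ^ i * C := by
    intro i
    induction i with
    | zero => simp
    | succ i ih =>
      rw [pow_succ' j, show j * j ^ i * C * (j * j ^ i)⁻¹ = j * (j ^ i * C * (j ^ i)⁻¹) * j⁻¹ by group, ih,
        show j * (κ ^ i * C) * j⁻¹ = (j * κ ^ i * j⁻¹) * (j * C * j⁻¹) by group, hjK _ (hκF.pow i),
        show j * C * j⁻¹ = κ * C by rw [hκ, mul_assoc _ C C, hCC, mul_one], ← mul_assoc, ← pow_succ]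
  have hCk : ∀ l, Fix X e f l → C * l * C = l⁻¹ := fun l hl => by
    conv_lhs => arg 2; rw [← hCi]
    rw [hC, H.cref_turn h hw hl]
  have hκp : κ ^ p = k * k := by
    have e1 : k * C * k⁻¹ = κ ^ p * C := by rw [hk]; exact hconj p
    have e2 : k * C * k⁻¹ = k * k * C := by
      rw [show k * C * k⁻¹ = k * (C * k⁻¹ * C) * C⁻¹ by group, hCk _ hkF.inv, inv_inv, hCi]
    exact mul_right_cancel (e1.symm.trans e2)
  obtain ⟨m, hm⟩ : ∃ m, Fintype.card F = p * m := ⟨p ^ ((n : ℕ) - 1), by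
    rw [hq, ← pow_succ', Nat.sub_add_cancel n.pos]⟩
  have hκ2 : κ = k ^ m * k ^ m := by
    rw [← (Commute.refl k).mul_pow, ← hκp, ← pow_mul, ← hm, show Fintype.card F = Fintype.card F - 1 + 1 from
      (Nat.sub_add_cancel Fintype.card_pos).symm, pow_succ, H.turn_pow h hκF, one_mul]
  refine ⟨k ^ m, hkF.pow m, hC ▸ ?_⟩
  obtain ⟨k1, hk1⟩ : ∃ k1, k1 = k ^ m := ⟨_, rfl⟩
  have hk1F : Fix X e f k1 := hk1 ▸ hkF.pow m
  rw [← hk1] at hκ2 ⊢
  have e3 : k1⁻¹ * j * C * (k1⁻¹ * j)⁻¹ = C := by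
    have e1 : j * C * j⁻¹ = k1 * k1 * C := by rw [← hκ2, hκ, mul_assoc _ C C, hCC, mul_one]
    calc k1⁻¹ * j * C * (k1⁻¹ * j)⁻¹ = k1⁻¹ * (j * C * j⁻¹) * k1 := by group
      _ = k1 * (C * k1 * C) * C⁻¹ := by rw [e1]; group
      _ = C := by rw [hCk _ hk1F, mul_inv_cancel, one_mul, hCi]
  have e4 : Commute (k1⁻¹ * j) C := mul_inv_eq_iff_eq_mul.1 e3
  rw [show k1⁻¹ * T = k1⁻¹ * j * cref d u b by rw [hj, mul_assoc, mul_assoc T, cref_sq, mul_one]]
  exact e4.mul_left hbC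

end Cfsg.Agent.Classical.OTPow.Four
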