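/-
No pair has an anisotropic complement.
-/
import Cfsg.Agent.Lib.Classical.OTPow.Four.PairLocal

set_option autoImplicit false
set_option linter.unusedSectionVars false

namespace Cfsg.Agent.Classical.OTPow.Four

open Matrix QuadraticMap
open Cfsg.Agent.Classical

variable {F : Type*} [Field F] [Fintype F] {d : Fin 4 → F} {X : Subgroup (GL (Fin 2 → Fin 4) F)}
  {ε : F} {u v e f x1 x2 : Fin 4 → F}

local notation "G16" => GL (Fin 2 → Fin 4) F
local notation "M16" => Matrix (Fin 2 → Fin 4) (Fin 2 → Fin 4) F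
local notation:max g:max " ⬝₆ " x:max => ((g : G16) : M16) *ᵥ x
local notation "Q16" => QW (wt (σ := Fin 2) d)
local notation:max g:max " ⬝₄ " x:max => ((g : GL (Fin 4) F) : Matrix (Fin 4) (Fin 4) F) *ᵥ x

theorem exists_avoid (h : 3 < Fintype.card F) (a b c : F) : ∃ x : F, x ≠ a ∧ x ≠ b ∧ x ≠ c := by
  classical
  by_contra hh
  push Not at hh
  have hsub : (Finset.univ : Finset F) ⊆ {a, b, c} := fun x _ => by
    rw [Finset.mem_insert, Finset.mem_insert, Finset.mem_singleton]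
    by_contra hx
    push Not at hx
    exact hx.2.2 (hh x hx.1 hx.2.1)
  have h3 := (Finset.card_le_card hsub).trans Finset.card_le_three
  rw [Finset.card_univ] at h3
  omega

theorem three_le_card (h2 : (2 : F) ≠ 0) : 3 ≤ Fintype.card F := by
  classical
  have h : ({0, 1, -1} : Finset F).card = 3 :=
    Finset.card_eq_three.2 ⟨0, 1, -1, zero_ne_one, fun e => one_ne_zero (neg_eq_zero.1 e.symm),
      fun e => h2 (by linear_combination e), rfl⟩
  rw [← h]
  exact Finset.card_le_univ _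

theorem sq_of_card_three (h : Fintype.card F = 3) {x : F} (hx : x ≠ 0) : x * x = 1 := by
  have := FiniteField.pow_card_sub_one_eq_one x hx
  rwa [h, show (3 : ℕ) - 1 = 2 from rfl, pow_two] at this

/-- A rotation of an anisotropic plane has order dividing one more than the field. -/
theorem rot_order (h2 : (2 : F) ≠ 0) {R : GL (Fin 4) F} {w w' : Fin 4 → F} {η α β : F} (hη : ¬ IsSquare η)
    (hn : α * α - η * (β * β) = 1) (e1 : R ⬝₄ w = α • w + β • w') (e2 : R ⬝₄ w' = (η * β) • w + α • w') :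
    (R ^ (Fintype.card F + 1)) ⬝₄ w = w ∧ (R ^ (Fintype.card F + 1)) ⬝₄ w' = w' := by
  obtain ⟨M, hM⟩ : ∃ M : Matrix (Fin 2) (Fin 2) F, M = !![α, η * β; β, α] := ⟨_, rfl⟩
  have hpow : ∀ n : ℕ, (R ^ n) ⬝₄ w = (M ^ n) 0 0 • w + (M ^ n) 1 0 • w' ∧
      (R ^ n) ⬝₄ w' = (M ^ n) 0 1 • w + (M ^ n) 1 1 • w' := by
    intro n
    induction n with
    | zero => simp
    | succ n ih =>
      constructor
      · rw [pow_succ', gl_mul_mulVec, ih.1, Matrix.mulVec_add, Matrix.mulVec_smul, Matrix.mulVec_smul, e1, e2,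
          pow_succ' M, Matrix.mul_apply, Matrix.mul_apply, hM]
        simp only [Fin.sum_univ_two, Matrix.of_apply, Matrix.cons_val', Matrix.cons_val_zero, Matrix.cons_val_one,
          Matrix.cons_val_fin_one]
        module
      · rw [pow_succ', gl_mul_mulVec, ih.2, Matrix.mulVec_add, Matrix.mulVec_smul, Matrix.mulVec_smul, e1, e2,
          pow_succ' M, Matrix.mul_apply, Matrix.mul_apply, hM]
        simp only [Fin.sum_univ_two, Matrix.of_apply, Matrix.cons_val', Matrix.cons_val_zero, Matrix.cons_val_one,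
          Matrix.cons_val_fin_one]
        module
  obtain ⟨J, hJ⟩ : ∃ J : Matrix (Fin 2) (Fin 2) F, J = !![0, η; 1, 0] := ⟨_, rfl⟩
  have hJJ : J * J = η • 1 := by
    rw [hJ]; ext i j; fin_cases i <;> fin_cases j <;> simp [Matrix.mul_apply, Fin.sum_univ_two]
  have hMJ : M = α • 1 + β • J := by
    rw [hM, hJ]; ext i j; fin_cases i <;> fin_cases j <;> simp [mul_comm]
  obtain ⟨p, hp, n, hpr, hq⟩ := FiniteField.card' F
  haveI := Fact.mk hpr
  have hq' := FiniteField.pow_card α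
  have hq'' := FiniteField.pow_card β
  have hring : ringChar F ≠ 2 := fun e => h2 (by
    have := ringChar.Nat.cast_ringChar (R := F)
    rw [e] at this
    simpa using this)
  have hη1 : η ^ (Fintype.card F / 2) = -1 := by
    have hη0 : η ≠ 0 := fun e => hη (e ▸ IsSquare.zero)
    exact (FiniteField.pow_dichotomy hring hη0).resolve_left fun e => hη ((FiniteField.isSquare_iff hring hη0).2 e)
  have hodd := FiniteField.odd_card_of_char_ne_two hring
  have hJq : J ^ Fintype.card F = -J := by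
    conv_lhs => rw [show Fintype.card F = 2 * (Fintype.card F / 2) + 1 by omega]
    rw [pow_succ, pow_mul, pow_two, hJJ, smul_pow, one_pow, hη1, neg_one_smul, neg_one_mul]
  have hMq : M ^ Fintype.card F = α • 1 - β • J := by
    rw [hMJ, hq, add_pow_char_pow_of_commute _ _ ((Commute.one_left J).smul_left α |>.smul_right β), ← hq, smul_pow,
      smul_pow, one_pow, hq', hq'', hJq, smul_neg, sub_eq_add_neg]
  have hM1 : M ^ (Fintype.card F + 1) = 1 := by
    rw [pow_succ, hMq, hMJ, sub_mul, mul_add, mul_add, smul_mul_smul_comm, smul_mul_smul_comm, smul_mul_smul_comm,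
      smul_mul_smul_comm, mul_one, one_mul, mul_one, hJJ, smul_smul, mul_comm β α]
    rw [show (α * α) • (1 : Matrix (Fin 2) (Fin 2) F) + (α * β) • J - ((α * β) • J + (β * β * η) • (1 : Matrix (Fin 2) (Fin 2) F)) =
      (α * α - η * (β * β)) • (1 : Matrix (Fin 2) (Fin 2) F) by module, hn, one_smul]
  constructor
  · rw [(hpow _).1, hM1]; simp
  · rw [(hpow _).2, hM1]; simp

variable (H : Hyp d X)
include H

/-- An element scaling the pure vectors over a vector of the right slot commutes with its reflection. -/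
theorem Hyp.commute_zref1 {bb : Fin 4 → Fin 4 → F} (hb : OB d bb) {w : Fin 4 → F} (hw : Qd d w ≠ 0) {g : G16}
    (hg : g ∈ X) (σ : Fin 4 → F) (hσ : ∀ i, g ⬝₆ (tv (bb i) w) = σ i • tv (bb i) w) :
    Commute g (zref d 1 w) := by
  have hd := H.shape
  have hQ : ∀ i, Q16 (tv (bb i) w) ≠ 0 := fun i => by
    rw [QW_tv hd.two]; exact mul_ne_zero (hb.ne i) hw
  have hσ2 : ∀ i, σ i * σ i = 1 := fun i => by
    have e := H.qiso hg (tv (bb i) w)
    rw [hσ, QuadraticMap.map_smul, smul_eq_mul] at e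
    exact mul_right_cancel₀ (hQ i) (e.trans (one_mul _).symm)
  have hZ : ∀ z : (Fin 2 → Fin 4) → F, (zref d 1 w) ⬝₆ z =
      z - ∑ i, ((Q16 (tv (bb i) w))⁻¹ * polar Q16 (tv (bb i) w) z) • tv (bb i) w := fun z => by
    conv_lhs => rw [hb.expand_tv hd.ne z]
    rw [Matrix.mulVec_sum]
    conv_rhs => arg 1; rw [hb.expand_tv hd.ne z]
    rw [← Finset.sum_sub_distrib]
    refine Finset.sum_congr rfl fun i _ => ?_
    obtain ⟨c, hc⟩ : ∃ c, c = (Qd d (bb i))⁻¹ • ctl d (bb i) z := ⟨_, rfl⟩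
    have e : polar Q16 (tv (bb i) w) z = 2 * (Qd d (bb i) * bform d w c) := by
      rw [QuadraticMap.polar_comm, polar_tv_right, hc, bsmul, bform_comm d (ctl d (bb i) z) w, ← mul_assoc (Qd d _),
        mul_inv_cancel₀ (hb.ne i), one_mul]
    rw [← hc, fac1_tv, refG_apply, tv_sub', tv_smul', e, QW_tv hd.two]
    congr 2
    have := hb.ne i
    field_simp
  refine gl_ext_mulVec fun z => ?_
  rw [gl_mul_mulVec, gl_mul_mulVec, hZ, hZ, Matrix.mulVec_sub, Matrix.mulVec_sum]
  refine congrArg _ (Finset.sum_congr rfl fun i _ => ?_)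
  rw [Matrix.mulVec_smul, hσ, smul_smul]
  congr 1
  have e : polar Q16 (tv (bb i) w) z = σ i * polar Q16 (tv (bb i) w) (g ⬝₆ z) := by
    conv_lhs => rw [← H.piso hg, hσ, polar_smul_left, smul_eq_mul]
  rw [e]
  linear_combination ((Q16 (tv (bb i) w))⁻¹ * polar Q16 (tv (bb i) w) (g ⬝₆ z)) * hσ2 i

/-- No pair has an anisotropic complement. -/
theorem Hyp.hit_aniso (h : Fr d ε u v e f) (hH : Hit d X ε u v e f x1 x2) (hD : pD d x1 x2 ≠ 0)
    (hP : ∀ z, bform d z x1 = 0 → bform d z x2 = 0 → Qd d z = 0 → z = 0) : False := by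
  classical
  have hd := H.shape
  have h2 := hd.two
  have hq3 : 3 ≤ Fintype.card F := three_le_card h2
  obtain ⟨T, hT⟩ := Hit.exists_inv H h hH
  have hp0 : Fix X e f (pU d u v) := .of_pk (H.rot_mem 0 h.u0 h.v0) h.pU_pos
  -- a vector of the pair plane
  obtain ⟨a, ha, c1', c2', hac⟩ : ∃ a, Qd d a ≠ 0 ∧ ∃ c1 c2 : F, a = c1 • x1 + c2 • x2 := by
    by_cases h11 : bform d x1 x1 = 0
    · refine ⟨x2, fun h22 => hT.norm ?_, 0, 1, by simp⟩
      rw [pM, h11, bform_self, h22, mul_zero, sub_zero]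
    · exact ⟨x1, by rwa [← bform_self], 1, 0, by simp⟩
  -- a basis of the complement
  let φ : (Fin 4 → F) →ₗ[F] (Fin 2 → F) :=
    { toFun := fun x => ![bform d x x1, bform d x x2]
      map_add' := fun x y => by ext i; fin_cases i <;> simp [badd_left]
      map_smul' := fun t x => by ext i; fin_cases i <;> simp [bsmul_left] }
  obtain ⟨w, hwm, hw0⟩ := Submodule.exists_mem_ne_zero_of_ne_bot (p := LinearMap.ker φ) fun h0 => by
    have h1 := LinearMap.finrank_range_add_finrank_ker φ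
    have h2' : Module.finrank F (LinearMap.range φ) ≤ 2 := (Submodule.finrank_le _).trans_eq (by simp)
    rw [h0, finrank_bot, Module.finrank_fin_fun] at h1
    omega
  have w1 : bform d w x1 = 0 := by simpa [φ] using congrFun (LinearMap.mem_ker.1 hwm) 0
  have w2 : bform d w x2 = 0 := by simpa [φ] using congrFun (LinearMap.mem_ker.1 hwm) 1
  have hw : Qd d w ≠ 0 := fun e0 => hw0 (hP w w1 w2 e0)
  let ψ : (Fin 4 → F) →ₗ[F] (Fin 3 → F) :=
    { toFun := fun x => ![bform d x x1, bform d x x2, bform d x w]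
      map_add' := fun x y => by ext i; fin_cases i <;> simp [badd_left]
      map_smul' := fun t x => by ext i; fin_cases i <;> simp [bsmul_left] }
  obtain ⟨w', hwm', hw0'⟩ := Submodule.exists_mem_ne_zero_of_ne_bot (p := LinearMap.ker ψ) fun h0 => by
    have h1 := LinearMap.finrank_range_add_finrank_ker ψ
    have h2' : Module.finrank F (LinearMap.range ψ) ≤ 3 := (Submodule.finrank_le _).trans_eq (by simp)
    rw [h0, finrank_bot, Module.finrank_fin_fun] at h1
    omega
  have w1' : bform d w' x1 = 0 := by simpa [ψ] using congrFun (LinearMap.mem_ker.1 hwm') 0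
  have w2' : bform d w' x2 = 0 := by simpa [ψ] using congrFun (LinearMap.mem_ker.1 hwm') 1
  have hww : bform d w w' = 0 := by
    rw [bform_comm]; simpa [ψ] using congrFun (LinearMap.mem_ker.1 hwm') 2
  have hw' : Qd d w' ≠ 0 := fun e0 => hw0' (hP w' w1' w2' e0)
  have haw : bform d a w = 0 := by rw [hac, bform_comm, badd, bsmul, bsmul, w1, w2]; ring
  have haw' : bform d a w' = 0 := by rw [hac, bform_comm, badd, bsmul, bsmul, w1', w2']; ring
  obtain ⟨o2, ho2, ao2, wo2, wo2'⟩ := exists_fourth hd ha hw hw' haw haw' hww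
  have hbb : OB d ![a, o2, w, w'] := by
    refine ⟨fun i => ?_, fun i j hij => ?_⟩
    · fin_cases i
      exacts [ha, ho2, hw, hw']
    · fin_cases i <;> fin_cases j <;> first | exact absurd rfl hij |
        simp [ao2, haw, haw', hww, wo2, wo2', bform_comm d o2 a, bform_comm d w a, bform_comm d w' a,
          bform_comm d o2 w, bform_comm d o2 w', bform_comm d w' w]
  obtain ⟨η, hηdef⟩ : ∃ η, η = -(Qd d w' / Qd d w) := ⟨_, rfl⟩
  have hQw' : Qd d w' = -(η * Qd d w) := by rw [hηdef]; field_simp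
  have hη : ¬ IsSquare η := by
    rintro ⟨r, hr⟩
    have hz : r • w + w' = 0 := by
      refine hP _ (by rw [badd_left, bsmul_left, w1, w1']; ring) (by rw [badd_left, bsmul_left, w2, w2']; ring) ?_
      rw [← bform_self]
      simp only [badd, badd_left, bsmul, bsmul_left]
      simp only [bform_self, hww, bform_comm d w' w, hQw', hr]
      ring
    have e := congrArg (bform d w) hz
    rw [badd, bsmul, bzero, hww, bform_self, add_zero, mul_eq_zero] at e
    rw [e.resolve_right hw, zero_smul, zero_add] at hz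
    exact hw0' hz
  have hN : ∀ c : F, 1 - η * (c * c) ≠ 0 := fun c e0 => by
    by_cases hc : c = 0
    · simp [hc] at e0
    · exact hη ⟨c⁻¹, by field_simp; linear_combination -e0⟩
  obtain ⟨k1, hk1, hcom⟩ := H.pair_correct h hT hP hw w1 w2
  obtain ⟨g0, hg0⟩ : ∃ g0, g0 = T * cref d u a := ⟨_, rfl⟩
  obtain ⟨G, hG⟩ : ∃ G, G = k1⁻¹ * g0 := ⟨_, rfl⟩
  have hg0X : g0 ∈ X := hg0 ▸ mul_mem hT.mem (H.cref_mem h.u0 ha)
  have hGX : G ∈ X := hG ▸ mul_mem (inv_mem hk1.1) hg0X
  have hg0p : Commute g0 (pU d u v) := hg0 ▸ hT.comm.mul_left (cref_commute h hd a)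
  have hGp : Commute G (pU d u v) := hG ▸ (H.turn_comm h hk1.inv hp0).mul_left hg0p
  have hGw : Commute G (cref d u w) := by
    rw [hG, hg0, ← mul_assoc]
    exact hcom.mul_left (cref_comm haw)
  have hg0K : ∀ l, Fix X e f l → g0 * l * g0⁻¹ = l := fun l hl => by
    rw [hg0, show T * cref d u a * l * (T * cref d u a)⁻¹ = T * (cref d u a * l * (cref d u a)⁻¹) * T⁻¹ by group,
      H.cref_turn h ha hl, hT.inv _ hl.inv, inv_inv]
  -- a rotation of the complement commuting with the corrected element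
  have hperp : ∀ s, bform d w s = 0 → bform d w' s = 0 → ∀ c : F,
      (refG d w * refG d (w + c • w')) ⬝₄ s = s := fun s h1 h2' c =>
    refG2_fix h1 (by rw [badd_left, bsmul_left, h1, h2']; ring)
  obtain ⟨R, α, β, hRX, hβ, hR1, hR2, hRfix, hRb, hGR⟩ : ∃ (R : GL (Fin 4) F) (α β : F),
      facG (1 : Fin 2) R ∈ X ∧ β ≠ 0 ∧ R ⬝₄ w = α • w + β • w' ∧ R ⬝₄ w' = (η * β) • w + α • w' ∧
      (∀ s, bform d w s = 0 → bform d w' s = 0 → R ⬝₄ s = s) ∧
      (∀ x y, bform d (R ⬝₄ x) (R ⬝₄ y) = bform d x y) ∧ Commute G (facG (1 : Fin 2) R) := by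
    rcases hq3.lt_or_eq with hq | hq
    · -- large fields: a square of a rotation
      obtain ⟨c, hc0, hcη⟩ : ∃ c : F, c ≠ 0 ∧ 1 + η * (c * c) ≠ 0 := by
        by_cases hr : ∃ r : F, 1 + η * (r * r) = 0
        · obtain ⟨r, hr⟩ := hr
          obtain ⟨c, h0, h1, h1'⟩ := exists_avoid hq 0 r (-r)
          refine ⟨c, h0, fun e0 => ?_⟩
          have hη0 : η ≠ 0 := fun e => hη (e ▸ IsSquare.zero)
          have : c * c = r * r := mul_left_cancel₀ hη0 (by linear_combination e0 - hr)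
          rcases mul_self_eq_mul_self_iff.1 this with e' | e'
          · exact h1 e'
          · exact h1' e'
        · push Not at hr
          exact ⟨1, one_ne_zero, hr 1⟩
      obtain ⟨hQo, er1, er2⟩ := rot_plane hd hw hww hQw' (hN c)
      obtain ⟨α, hα⟩ : ∃ α, α = 2 / (1 - η * (c * c)) - 1 := ⟨_, rfl⟩
      obtain ⟨β, hβ⟩ : ∃ β, β = -(2 * c / (1 - η * (c * c))) := ⟨_, rfl⟩
      obtain ⟨R, hR⟩ : ∃ R, R = refG d w * refG d (w + c • w') := ⟨_, rfl⟩
      rw [← hα, ← hβ, ← hR] at er1 er2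
      have hfix : ∀ s, bform d w s = 0 → bform d w' s = 0 → R ⬝₄ s = s := fun s h1 h2' => hR ▸ hperp s h1 h2' c
      have hb2 : ∀ x y, bform d (R ⬝₄ x) (R ⬝₄ y) = bform d x y := hR ▸ bform_refG2 hw hQo
      have hn : α * α - η * (β * β) = 1 := by
        have := hN c
        obtain ⟨N, hNd⟩ : ∃ N, N = 1 - η * (c * c) := ⟨_, rfl⟩
        rw [hα, hβ, ← hNd]
        rw [← hNd] at this
        field_simp
        rw [hNd]
        ring
      have hord : R ^ (Fintype.card F + 1) = 1 := by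
        obtain ⟨o1, o2'⟩ := rot_order h2 hη hn er1 er2
        refine gl_ext_mulVec fun z => ?_
        rw [hbb.expand z, Units.val_one, Matrix.one_mulVec, Matrix.mulVec_sum]
        have hfixn : ∀ n : ℕ, ∀ s, R ⬝₄ s = s → (R ^ n) ⬝₄ s = s := fun n s hs => by
          induction n with
          | zero => simp
          | succ n ih => rw [pow_succ, gl_mul_mulVec, hs, ih]
        refine Finset.sum_congr rfl fun i _ => ?_
        rw [Matrix.mulVec_smul]
        congr 1
        fin_cases i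
        · exact hfixn _ _ (hfix a ((bform_comm d w a).trans haw) ((bform_comm d w' a).trans haw'))
        · exact hfixn _ _ (hfix o2 wo2 wo2')
        · exact o1
        · exact o2'
      have hRX : facG (1 : Fin 2) R ∈ X := hR ▸ H.rot_mem 1 hw hQo
      obtain ⟨ρ, hρ⟩ : ∃ ρ, ρ = facG (1 : Fin 2) R := ⟨_, rfl⟩
      rw [← hρ] at hRX
      have hρa : Commute (cref d u a) ρ := by
        rw [hρ, hR]
        refine Commute.mul_left (facG_commute (by decide) _ _) (Commute.map ?_ (facG 1))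
        exact (refG_mul_comm haw).mul_right (refG_mul_comm (by rw [badd, bsmul, haw, haw']; ring))
      have hx1 : R ⬝₄ x1 = x1 := hfix x1 w1 w1'
      have hx2 : R ⬝₄ x2 = x2 := hfix x2 w2 w2'
      obtain ⟨μ, hμ⟩ : ∃ μ, μ = g0 * ρ * g0⁻¹ * ρ⁻¹ := ⟨_, rfl⟩
      have hμF : Fix X e f μ := .of_pk (hμ ▸ mul_mem (mul_mem (mul_mem hg0X hRX) (inv_mem hg0X)) (inv_mem hRX))
        fun z1 z2 => by
          have hρp : Commute ρ (pU d u v) := hρ ▸ facG_commute (by decide) _ _
          obtain ⟨a1, a2, ea⟩ := h.keep_pos hd hρp.inv_left z1 z2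
          obtain ⟨b1, b2, eb⟩ := h.keep_pos hd hg0p.inv_left a1 a2
          have key : g0 ⬝₆ (ρ ⬝₆ (pk e f b1 b2)) = ρ ⬝₆ (g0 ⬝₆ (pk e f b1 b2)) := by
            rw [hg0, gl_mul_mulVec, ← gl_mul_mulVec (cref d u a) ρ, hρa.eq, gl_mul_mulVec ρ, cref_pk h,
              gl_mul_mulVec T, cref_pk h, hρ, fac1_pk, hT.slot hb2 hx1 hx2]
          rw [hμ, gl_mul_mulVec, ea, gl_mul_mulVec, eb, gl_mul_mulVec, key, ← eb, gl_mulVec_inv_cancel, ← ea,
            gl_mulVec_inv_cancel]
      have hμρ : Commute μ ρ := hρ ▸ H.turn_slot h (hρ ▸ hRX) hμF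
      have e1 : g0 * ρ * g0⁻¹ = μ * ρ := by rw [hμ]; group
      have hμ2 : μ * μ = 1 := by
        have e2 := conj_pow (a := g0) (b := ρ) (i := Fintype.card F + 1)
        rw [e1, hμρ.mul_pow, show ρ ^ (Fintype.card F + 1) = 1 by rw [hρ, ← map_pow, hord, map_one], mul_one, mul_one,
          mul_inv_cancel, show Fintype.card F + 1 = Fintype.card F - 1 + 2 by omega, pow_add, H.turn_pow h hμF,
          one_mul, pow_two] at e2
        exact e2
      have hg0ρ : Commute g0 (ρ * ρ) := by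
        refine mul_inv_eq_iff_eq_mul.1 ?_
        rw [show g0 * (ρ * ρ) * g0⁻¹ = g0 * ρ * g0⁻¹ * (g0 * ρ * g0⁻¹) by group, e1, hμρ.symm.mul_mul_mul_comm, hμ2,
          one_mul]
      have hα0 : α ≠ 0 := by
        rw [hα]
        intro e0
        obtain ⟨N, hNd⟩ : ∃ N, N = 1 - η * (c * c) := ⟨_, rfl⟩
        have hN0 : N ≠ 0 := hNd ▸ hN c
        rw [← hNd] at e0
        field_simp at e0
        exact hcη (by linear_combination e0 + hNd)
      refine ⟨R * R, α * α + η * (β * β), 2 * (α * β), by rw [map_mul, ← hρ]; exact mul_mem hRX hRX,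
        mul_ne_zero h2 (mul_ne_zero hα0 (by rw [hβ]; exact neg_ne_zero.2 (div_ne_zero (mul_ne_zero h2 hc0) (hN c)))),
        ?_, ?_, fun s h1 h2' => by rw [gl_mul_mulVec, hfix s h1 h2', hfix s h1 h2'],
        fun x y => by rw [gl_mul_mulVec, gl_mul_mulVec, hb2, hb2], ?_⟩
      · rw [gl_mul_mulVec, er1, Matrix.mulVec_add, Matrix.mulVec_smul, Matrix.mulVec_smul, er1, er2]
        module
      · rw [gl_mul_mulVec, er2, Matrix.mulVec_add, Matrix.mulVec_smul, Matrix.mulVec_smul, er1, er2]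
        module
      · rw [map_mul, ← hρ, hG]
        exact (((H.turn_slot h (hρ ▸ hRX) hk1).mul_right (H.turn_slot h (hρ ▸ hRX) hk1)).inv_left |> fun hh => by
          rw [← hρ] at hh; exact hh.mul_left hg0ρ)
    · -- three elements
      have hq' : Fintype.card F = 3 := hq.symm
      have hone : ∀ z, Qd d z ≠ 0 → bform d z x1 = 0 → bform d z x2 = 0 → bform d a z = 0 →
          Commute g0 (cref d u z) := fun z hz z1 z2 haz => by
        obtain ⟨k, hk, hkc⟩ := H.pair_correct h hT hP hz z1 z2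
        have hkk : k * k = 1 := by
          have := H.turn_pow h hk
          rwa [hq', show (3 : ℕ) - 1 = 2 from rfl, pow_two] at this
        have hkC : Commute k (cref d u z) := by
          have e1 := H.cref_turn h hz hk
          rw [inv_eq_of_mul_eq_one_left hkk] at e1
          exact (mul_inv_eq_iff_eq_mul.1 e1).symm
        have : Commute T (cref d u z) := by simpa using hkC.mul_left hkc
        exact hg0 ▸ this.mul_left (cref_comm haz)
      obtain ⟨hQo, er1, er2⟩ := rot_plane hd hw hww hQw' (hN 1)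
      obtain ⟨o, ho⟩ : ∃ o, o = w + (1 : F) • w' := ⟨_, rfl⟩
      rw [← ho] at hQo er1 er2
      refine ⟨refG d w * refG d o, _, _, H.rot_mem 1 hw hQo, neg_ne_zero.2 (div_ne_zero (mul_ne_zero h2 one_ne_zero) (hN 1)),
        er1, er2, fun s h1 h2' => ho ▸ hperp s h1 h2' 1, bform_refG2 hw hQo, ?_⟩
      have e : cref d u w * cref d u o = facG (1 : Fin 2) (refG d w * refG d o) := by
        have hc : Commute (facG (0 : Fin 2) (refG d u)) (facG 1 (refG d w)) := facG_commute (by decide) _ _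
        rw [show cref d u w = facG 0 (refG d u) * facG 1 (refG d w) from rfl,
          show cref d u o = facG 0 (refG d u) * facG 1 (refG d o) from rfl, hc.symm.mul_mul_mul_comm, ← map_mul,
          refG_mul_self, map_one, one_mul, ← map_mul]
      rw [← e, hG]
      have h1 := hone w hw w1 w2 haw
      have h2' := hone o hQo (by rw [ho, badd_left, bsmul_left, w1, w1']; ring)
        (by rw [ho, badd_left, bsmul_left, w2, w2']; ring) (by rw [ho, badd, bsmul, haw, haw']; ring)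
      exact (e ▸ H.turn_slot h (H.rot_mem 1 hw hQo) hk1).inv_left.mul_left (h1.mul_right h2')
  -- the images of the four pure vectors over the reflection
  have hGi : Commute G⁻¹ (facG (1 : Fin 2) R) := hGR.inv_left
  have hmk : ∀ y1 y2, (facG (1 : Fin 2) R) ⬝₆ (pk u v y1 y2) = pk u v (R ⬝₄ y1) (R ⬝₄ y2) := fac1_pk R
  have hortho : ∀ y : Fin 4 → F, R ⬝₄ y = y → bform d w y = 0 ∧ bform d w' y = 0 := fun y hy => by
    have e1 := hRb w y
    have e2 := hRb w' y
    rw [hy, hR1, badd_left, bsmul_left, bsmul_left] at e1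
    rw [hy, hR2, badd_left, bsmul_left, bsmul_left] at e2
    have hne : (α - 1) * (α - 1) - η * (β * β) ≠ 0 := fun e0 =>
      hη ⟨(α - 1) / β, by field_simp; linear_combination -e0⟩
    have hA : bform d w y = 0 := by
      refine (mul_eq_zero.1 ?_).resolve_left hne
      linear_combination (α - 1) * e1 - β * e2
    refine ⟨hA, ?_⟩
    rw [hA, mul_zero, zero_add] at e1
    exact (mul_eq_zero.1 e1).resolve_left hβ
  have himg : ∀ z1 z2, (∀ y, bform d w y = 0 → bform d w' y = 0 → bform d z1 y = 0 ∧ bform d z2 y = 0) →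
      ∀ y1 y2, G ⬝₆ (pk u v z1 z2) = pk u v y1 y2 →
      (y1 = (bform d w y1 / Qd d w) • w + (bform d w' y1 / Qd d w') • w') ∧
        y2 = (bform d w y2 / Qd d w) • w + (bform d w' y2 / Qd d w') • w' := fun z1 z2 hz y1 y2 hy => by
    have key : ∀ s, bform d w s = 0 → bform d w' s = 0 → bform d y1 s = 0 ∧ bform d y2 s = 0 := fun s h1 h2' => by
      have hs : R ⬝₄ s = s := hRfix s h1 h2'
      have hh : ∀ t1 t2, R ⬝₄ t1 = t1 → R ⬝₄ t2 = t2 → polar Q16 (pk u v y1 y2) (pk u v t1 t2) = 0 := fun t1 t2 ht1 ht2 => by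
        obtain ⟨s1, s2, es⟩ := h.keep_neg hd hGp.inv_left t1 t2
        have efix : (facG (1 : Fin 2) R) ⬝₆ (pk u v s1 s2) = pk u v s1 s2 := by
          rw [← es, ← gl_mul_mulVec, ← hGi.eq, gl_mul_mulVec, hmk, ht1, ht2]
        rw [hmk] at efix
        obtain ⟨f1, f2⟩ := mk_inj h efix
        rw [show pk u v t1 t2 = G ⬝₆ (pk u v s1 s2) by rw [← es, gl_mulVec_inv_cancel], ← hy, H.piso hGX, polar_mk h,
          (hz s1 (hortho s1 f1).1 (hortho s1 f1).2).1, (hz s2 (hortho s2 f2).1 (hortho s2 f2).2).2]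
        ring
      have e1 := hh s 0 hs (Matrix.mulVec_zero _)
      have e2 := hh 0 s (Matrix.mulVec_zero _) hs
      rw [polar_mk h, bzero, sub_zero] at e1
      rw [polar_mk h, bzero, zero_sub, mul_neg, neg_eq_zero] at e2
      exact ⟨(mul_eq_zero.1 e1).resolve_left (mul_ne_zero h2 h.u0), (mul_eq_zero.1 e2).resolve_left (mul_ne_zero h2 h.u0)⟩
    have k1' := key a ((bform_comm d w a).trans haw) ((bform_comm d w' a).trans haw')
    have k2' := key o2 wo2 wo2'
    constructor
    · conv_lhs => rw [hbb.expand y1]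
      simp [Fin.sum_univ_four, bform_comm d a y1, bform_comm d o2 y1, k1'.1, k2'.1]
    · conv_lhs => rw [hbb.expand y2]
      simp [Fin.sum_univ_four, bform_comm d a y2, bform_comm d o2 y2, k1'.2, k2'.2]
  have rw1 : (refG d w) ⬝₄ w' = w' := refG_orth hww
  have hsplit : ∀ (sgn p q : F), (refG d w) ⬝₄ (p • w + q • w') = sgn • (p • w + q • w') →
      (1 + sgn) * p = 0 ∧ (1 - sgn) * q = 0 := fun sgn p q hh => by
    rw [Matrix.mulVec_add, Matrix.mulVec_smul, Matrix.mulVec_smul, refG_self hw, rw1] at hh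
    have e1 := congrArg (bform d w) hh
    have e2 := congrArg (bform d w') hh
    simp only [badd, bsmul, bneg] at e1 e2
    simp only [hww, bform_comm d w' w, bform_self] at e1 e2
    exact ⟨mul_right_cancel₀ hw (by linear_combination -e1), mul_right_cancel₀ hw' (by linear_combination e2)⟩
  have hperpw : ∀ z, z = w ∨ z = 0 → ∀ y, bform d w y = 0 → bform d w' y = 0 → bform d z y = 0 := fun z hz y h1 _ => by
    rcases hz with rfl | rfl
    · exact h1
    · exact bzero_left y
  obtain ⟨a1, b1, hu1⟩ : ∃ a1 b1 : F, G ⬝₆ (pk u v w 0) = pk u v (a1 • w) (b1 • w') := by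
    obtain ⟨y1, y2, hy⟩ := h.keep_neg hd hGp w 0
    obtain ⟨p1, p2⟩ := himg w 0 (fun y h1 h2' => ⟨hperpw w (Or.inl rfl) y h1 h2', hperpw 0 (Or.inr rfl) y h1 h2'⟩) y1 y2 hy
    have e := congrArg (fun z => (cref d u w) ⬝₆ z) hy
    rw [← gl_mul_mulVec, ← hGw.eq, gl_mul_mulVec, cref_mk h, cref_mk h, refG_self hw, neg_neg, Matrix.mulVec_zero, hy] at e
    obtain ⟨f1, f2⟩ := mk_inj h e
    rw [p1] at f1
    rw [p2] at f2
    obtain ⟨-, g1⟩ := hsplit (-1) (bform d w y1 / Qd d w) (bform d w' y1 / Qd d w') (by rw [neg_one_smul]; exact neg_eq_iff_eq_neg.1 f1.symm)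
    obtain ⟨g2, -⟩ := hsplit 1 (bform d w y2 / Qd d w) (bform d w' y2 / Qd d w') (by rw [one_smul]; exact f2.symm)
    refine ⟨bform d w y1 / Qd d w, bform d w' y2 / Qd d w', ?_⟩
    rw [hy]
    conv_lhs => rw [p1, p2]
    rw [(mul_eq_zero.1 g1).resolve_left (by rw [sub_neg_eq_add]; simpa [one_add_one_eq_two] using h2),
      (mul_eq_zero.1 g2).resolve_left (by simpa [one_add_one_eq_two] using h2), zero_smul, add_zero, zero_smul, zero_add]
  obtain ⟨e1, c1, hv1⟩ : ∃ e1 c1 : F, G ⬝₆ (pk u v 0 w) = pk u v (e1 • w') (c1 • w) := by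
    obtain ⟨y1, y2, hy⟩ := h.keep_neg hd hGp 0 w
    obtain ⟨p1, p2⟩ := himg 0 w (fun y h1 h2' => ⟨hperpw 0 (Or.inr rfl) y h1 h2', hperpw w (Or.inl rfl) y h1 h2'⟩) y1 y2 hy
    have e := congrArg (fun z => (cref d u w) ⬝₆ z) hy
    rw [← gl_mul_mulVec, ← hGw.eq, gl_mul_mulVec, cref_mk h, cref_mk h, refG_self hw, Matrix.mulVec_zero, neg_zero,
      show pk u v (0 : Fin 4 → F) (-w) = -pk u v 0 w by simp [pk, tv_zero', tv_neg'], Matrix.mulVec_neg, hy] at e
    rw [show -pk u v y1 y2 = pk u v (-y1) (-y2) by simp [pk, tv_neg']; abel] at e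
    obtain ⟨f1, f2⟩ := mk_inj h e
    rw [p1] at f1
    rw [p2] at f2
    obtain ⟨g1, -⟩ := hsplit 1 (bform d w y1 / Qd d w) (bform d w' y1 / Qd d w') (by rw [one_smul]; exact (neg_inj.1 f1).symm)
    obtain ⟨-, g2⟩ := hsplit (-1) (bform d w y2 / Qd d w) (bform d w' y2 / Qd d w') (by rw [neg_one_smul]; exact f2.symm)
    refine ⟨bform d w' y1 / Qd d w', bform d w y2 / Qd d w, ?_⟩
    rw [hy]
    conv_lhs => rw [p1, p2]
    rw [(mul_eq_zero.1 g1).resolve_left (by simpa [one_add_one_eq_two] using h2),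
      (mul_eq_zero.1 g2).resolve_left (by rw [sub_neg_eq_add]; simpa [one_add_one_eq_two] using h2)]
    simp only [zero_smul, add_zero, zero_add]
  have hv2 : G ⬝₆ (pk u v 0 w') = pk u v ((η * e1) • w) (c1 • w') := by
    have e := congrArg (fun z => (facG (1 : Fin 2) R) ⬝₆ z) hv1
    rw [← gl_mul_mulVec, ← hGR.eq, gl_mul_mulVec, hmk, hmk, Matrix.mulVec_zero, hR1, Matrix.mulVec_smul,
      Matrix.mulVec_smul, hR1, hR2,
      show pk u v (0 : Fin 4 → F) (α • w + β • w') = α • pk u v 0 w + β • pk u v 0 w' by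
        simp [pk, tv_zero', tv_add', tv_smul'],
      Matrix.mulVec_add, Matrix.mulVec_smul, Matrix.mulVec_smul, hv1] at e
    refine smul_right_injective _ hβ ?_
    simp only
    rw [eq_sub_of_add_eq' e, ← pk_smul, ← pk_sub, ← pk_smul]
    congr 1 <;> module
  -- norms and the cross product
  have nrm : ∀ z z' y y', G ⬝₆ z = y → G ⬝₆ z' = y' → polar Q16 y y' = polar Q16 z z' := fun z z' y y' e e' => by
    rw [← e, ← e', H.piso hGX]
  have n1 := nrm _ _ _ _ hu1 hu1
  have n2 := nrm _ _ _ _ hv1 hv1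
  have n3 := nrm _ _ _ _ hu1 hv2
  simp only [polar_mk h, bsmul, bsmul_left, bzero, bzero_left] at n1 n2 n3
  simp only [hww, bform_comm d w' w, bform_self, hQw'] at n1 n2 n3
  have hQ : 2 * Qd d u * Qd d w ≠ 0 := mul_ne_zero (mul_ne_zero h2 h.u0) hw
  have N1 : a1 * a1 + η * (b1 * b1) = 1 := mul_right_cancel₀ hQ (by linear_combination n1)
  have N2 : c1 * c1 + η * (e1 * e1) = 1 := mul_right_cancel₀ hQ (by linear_combination -n2)
  have N3 : η * (a1 * e1 + b1 * c1) = 0 :=
    (mul_eq_zero.1 (show η * (a1 * e1 + b1 * c1) * (2 * Qd d u * Qd d w) = 0 by linear_combination n3)).resolve_right hQ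
  have hη0 : η ≠ 0 := fun e => hη (e ▸ IsSquare.zero)
  obtain ⟨hb1, he1⟩ : b1 = 0 ∧ e1 = 0 := by
    rcases hq3.lt_or_eq with hq | hq
    · obtain ⟨c, hc0, hc1, hc2⟩ := exists_avoid hq 0 1 (-1)
      have hNc : (1 : F) - 1 * (c * c) ≠ 0 := fun e0 => by
        rw [one_mul, sub_eq_zero] at e0
        rcases mul_self_eq_one_iff.1 e0.symm with e' | e'
        · exact hc1 e'
        · exact hc2 e'
      obtain ⟨hQo, er1, er2⟩ := rot_plane hd h.u0 h.uv (η := 1) (by rw [one_mul, h.vv]) hNc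
      obtain ⟨α', hα'⟩ : ∃ α', α' = 2 / (1 - 1 * (c * c)) - 1 := ⟨_, rfl⟩
      obtain ⟨β', hβ'⟩ : ∃ β', β' = -(2 * c / (1 - 1 * (c * c))) := ⟨_, rfl⟩
      rw [← hα', ← hβ'] at er1 er2
      have hβ0 : β' ≠ 0 := by rw [hβ']; exact neg_ne_zero.2 (div_ne_zero (mul_ne_zero h2 hc0) hNc)
      obtain ⟨κ, hκ⟩ : ∃ κ, κ = facG (0 : Fin 2) (refG d u * refG d (u + c • v)) := ⟨_, rfl⟩
      have hκF : Fix X e f κ := ⟨hκ ▸ H.rot_mem 0 h.u0 hQo,
        fun y => by rw [hκ, fac0_tv, refG2_fix h.ue (by rw [badd_left, bsmul_left, h.ue, h.ve]; ring)],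
        fun y => by rw [hκ, fac0_tv, refG2_fix h.uf (by rw [badd_left, bsmul_left, h.uf, h.vf]; ring)]⟩
      have hκmk : ∀ y1 y2, κ ⬝₆ (pk u v y1 y2) = pk u v (α' • y1 + β' • y2) (β' • y1 + α' • y2) := fun y1 y2 => by
        rw [hκ, pk, Matrix.mulVec_add, fac0_tv, fac0_tv, er1, er2, pk, one_mul]
        simp only [tv_add, tv_add', tv_smul, tv_smul']
        abel
      have hGκ : Commute G κ := by
        rw [hG]
        exact (H.turn_comm h hk1.inv hκF).mul_left (mul_inv_eq_iff_eq_mul.1 (hg0K κ hκF))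
      have e := congrArg (fun z => κ ⬝₆ z) hu1
      rw [← gl_mul_mulVec, ← hGκ.eq, gl_mul_mulVec, hκmk, hκmk,
        show pk u v (α' • w + β' • (0 : Fin 4 → F)) (β' • w + α' • (0 : Fin 4 → F)) =
          α' • pk u v w 0 + β' • pk u v 0 w by simp [pk, tv_zero', tv_smul'],
        Matrix.mulVec_add, Matrix.mulVec_smul, Matrix.mulVec_smul, hu1, hv1, ← pk_smul, ← pk_smul, ← pk_add] at e
      obtain ⟨f1, f2⟩ := mk_inj h e
      have q1 := congrArg (bform d w') f1
      have q2 := congrArg (bform d w) f2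
      simp only [badd, bsmul] at q1 q2
      simp only [hww, bform_comm d w' w, bform_self] at q1 q2
      have eb : e1 = b1 := mul_left_cancel₀ hβ0 (mul_right_cancel₀ hw' (by linear_combination q1))
      have ec : c1 = a1 := mul_left_cancel₀ hβ0 (mul_right_cancel₀ hw (by linear_combination q2))
      rw [eb, ec] at N3
      have : a1 * b1 = 0 := (mul_eq_zero.1 (show 2 * η * (a1 * b1) = 0 by linear_combination N3)).resolve_left
        (mul_ne_zero h2 hη0)
      rcases mul_eq_zero.1 this with ha1 | hb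
      · exfalso
        rw [ha1, zero_mul, zero_add] at N1
        have hb0 : b1 ≠ 0 := fun e0 => by simp [e0] at N1
        exact hη ⟨b1⁻¹, by field_simp; linear_combination N1⟩
      · exact ⟨hb, eb.trans hb⟩
    · have hq' : Fintype.card F = 3 := hq.symm
      have hη' : η = -1 := (mul_self_eq_one_iff.1 (sq_of_card_three hq' hη0)).resolve_left fun e => hη (e ▸ IsSquare.one)
      have key : ∀ x y : F, x * x + η * (y * y) = 1 → y = 0 := fun x y hxy => by
        by_contra hy
        rw [sq_of_card_three hq' hy, hη'] at hxy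
        by_cases hx : x = 0
        · subst hx; exact h2 (by linear_combination -hxy)
        · rw [sq_of_card_three hq' hx] at hxy; exact one_ne_zero (by linear_combination -hxy)
      exact ⟨key _ _ N1, key _ _ N2⟩
  -- so the element is standard, against the pair being independent
  rw [hb1, zero_smul] at hu1
  rw [he1, zero_smul] at hv1
  have hfixU' : ∀ z1 z2, G ⬝₆ (pk e f z1 z2) = T ⬝₆ (pk e f ((refG d a) ⬝₄ z1) ((refG d a) ⬝₄ z2)) := fun z1 z2 => by
    rw [hG, hg0, gl_mul_mulVec, gl_mul_mulVec, cref_pk h, hT.act, hk1.inv.act]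
  have hew : G ⬝₆ (tv e w) = tv e w := by
    rw [← pk_left e f w, hfixU', refG_orth haw, Matrix.mulVec_zero, hT.act, pY1, pY2, pS, pR, w1, w2, bzero_left,
      bzero_left]
    simp
  have hfw : G ⬝₆ (tv f w) = tv f w := by
    rw [← pk_right e f w, hfixU', refG_orth haw, Matrix.mulVec_zero, hT.act, pY1, pY2, pS, pR, w1, w2, bzero_left,
      bzero_left]
    simp
  have hσ : ∀ i, G ⬝₆ (tv ((![u, v, e, f] : Fin 4 → Fin 4 → F) i) w) =
      (![a1, c1, 1, 1] : Fin 4 → F) i • tv ((![u, v, e, f] : Fin 4 → Fin 4 → F) i) w := fun i => by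
    fin_cases i
    · simpa [pk, tv_zero', tv_smul'] using hu1
    · simpa [pk, tv_zero', tv_smul'] using hv1
    · simpa using hew
    · simpa using hfw
  obtain ⟨A, π, hA⟩ := H.cent hw hGX (H.commute_zref1 h.ob hw hGX _ hσ)
  rcases ((show ∀ π : Equiv.Perm (Fin 2), π = 1 ∨ π = Equiv.swap 0 1 by decide) π) with rfl | rfl
  swap
  · have key : ∀ (s : Fin 4 → F) (y : F), G ⬝₆ (tv s w) = y • tv s w → s ≠ 0 → y ≠ 0 →
        ∃ c, (A 0) ⬝₄ w = c • s := fun s y hy hs hy0 => by
      rw [hA, gl_mul_mulVec, swap_tv, pureG_tv, ← tv_smul] at hy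
      obtain ⟨c, -, h1, -⟩ := tv_eq (smul_ne_zero hy0 hs) (ne_zero_of_Q hw) hy.symm
      exact ⟨c * y, by rw [h1, smul_smul]⟩
    have ha0 : a1 ≠ 0 := fun e => by rw [hb1, e] at N1; simp at N1
    have hc0 : c1 ≠ 0 := fun e => by rw [he1, e] at N2; simp at N2
    obtain ⟨c, hc⟩ := key u a1 (by simpa using hσ 0) (ne_zero_of_Q h.u0) ha0
    obtain ⟨c', hc'⟩ := key v c1 (by simpa using hσ 1) (ne_zero_of_Q h.v0) hc0
    have e := congrArg (bform d u) (hc.symm.trans hc')
    rw [bsmul, bsmul, bform_self, h.uv, mul_zero] at e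
    rw [(mul_eq_zero.1 e).resolve_right h.u0, zero_smul] at hc
    exact ne_zero_of_Q hw (by rw [← gl_inv_mulVec_cancel (A 0) w, hc, Matrix.mulVec_zero])
  · rw [map_one, mul_one] at hA
    have he := hew
    rw [hA, pureG_tv] at he
    obtain ⟨c, -, hAe, -⟩ := tv_eq (ne_zero_of_Q h.e0) (ne_zero_of_Q hw) he.symm
    have e' : G ⬝₆ (tv e a) = pk e f (c • ((A 1) ⬝₄ a)) 0 := by rw [hA, pureG_tv, hAe, pk_left, tv_smul, tv_smul']
    rw [← pk_left e f a, hfixU', refG_self ha, Matrix.mulVec_zero, hT.act] at e'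
    obtain ⟨-, y0⟩ := pk_inj h e'
    obtain ⟨r, hr⟩ : ∃ r, r = pR d ε x1 x2 (-a) 0 := ⟨_, rfl⟩
    obtain ⟨s, hs⟩ : ∃ s, s = pS d ε x1 x2 (-a) 0 := ⟨_, rfl⟩
    rw [pY2, ← hr, ← hs] at y0
    obtain ⟨hr0, hs0⟩ := pD_li hD (c1 := 2 * r) (c2 := -(2 * s)) (by rw [← y0]; module)
    have hr1 : r = 0 := (mul_eq_zero.1 hr0).resolve_left h2
    have hs1 : s = 0 := (mul_eq_zero.1 (neg_eq_zero.1 hs0)).resolve_left h2
    rw [hr, pR, bzero_left, sub_zero, bneg_left, div_eq_zero_iff, or_iff_left hT.norm, neg_eq_zero] at hr1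
    rw [hs, pS, bzero_left, mul_zero, sub_zero, bneg_left, div_eq_zero_iff, or_iff_left hT.norm, neg_eq_zero] at hs1
    refine ha ?_
    rw [← bform_self]
    conv_lhs => arg 3; rw [hac]
    rw [badd, bsmul, bsmul, hr1, hs1]
    ring

end Cfsg.Agent.Classical.OTPow.Four
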