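/-
Elements commuting with the half turn of a plane with singular vectors are standard.
-/
import Cfsg.Agent.Lib.Classical.OTPow.Four.PairAniso

set_option autoImplicit false
set_option linter.unusedSectionVars false

namespace Cfsg.Agent.Classical.OTPow.Four

open Matrix QuadraticMap
open Cfsg.Agent.Classical
open Cfsg.Agent.Classical.ORefl (Iso toMat)
open Cfsg.Agent.Classical.OOmega (rf)

variable {F : Type*} [Field F] [Fintype F] {d : Fin 4 → F} {X : Subgroup (GL (Fin 2 → Fin 4) F)}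
  {ε : F} {u v e f x1 x2 : Fin 4 → F}

local notation "G16" => GL (Fin 2 → Fin 4) F
local notation "M16" => Matrix (Fin 2 → Fin 4) (Fin 2 → Fin 4) F
local notation:max g:max " ⬝₆ " x:max => ((g : G16) : M16) *ᵥ x
local notation "Q16" => QW (wt (σ := Fin 2) d)
local notation:max g:max " ⬝₄ " x:max => ((g : GL (Fin 4) F) : Matrix (Fin 4) (Fin 4) F) *ᵥ x

/-- Pairs of reflections generate the derived group. -/
theorem om_le_of_pairs (hd : Shape d) (S : Subgroup (GL (Fin 4) F))
    (h : ∀ a b, Qd d a ≠ 0 → Qd d b ≠ 0 → refG d a * refG d b ∈ S) : Om d ≤ S := by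
  obtain ⟨S0, hS0⟩ : ∃ S0 : Subgroup (GL (Fin 4) F), S0 = Subgroup.closure
      {x | ∃ a b, Qd d a ≠ 0 ∧ Qd d b ≠ 0 ∧ x = refG d a * refG d b} := ⟨_, rfl⟩
  have hle : S0 ≤ S := hS0 ▸ Subgroup.closure_le S |>.2 (by rintro x ⟨a, b, ha, hb, rfl⟩; exact h a b ha hb)
  have hpair : ∀ a b, Qd d a ≠ 0 → Qd d b ≠ 0 → refG d a * refG d b ∈ S0 := fun a b ha hb =>
    hS0 ▸ Subgroup.subset_closure ⟨a, b, ha, hb, rfl⟩
  obtain ⟨u0, hu0⟩ : ∃ u0, Qd d u0 ≠ 0 := ⟨Pi.single 0 1, by rw [Qd_single]; exact hd.ne 0⟩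
  obtain ⟨r, hr⟩ : ∃ r, r = refG d u0 := ⟨_, rfl⟩
  have hrr : r * r = 1 := hr ▸ refG_mul_self d u0
  have hri : r⁻¹ = r := inv_eq_of_mul_eq_one_left hrr
  have hnorm : ∀ s ∈ S0, r * s * r⁻¹ ∈ S0 := by
    intro s hs
    rw [hS0] at hs
    induction hs using Subgroup.closure_induction with
    | mem x hx =>
      obtain ⟨a, b, ha, hb, rfl⟩ := hx
      rw [hri, show r * (refG d a * refG d b) * r = (r * refG d a) * (refG d b * r) by group, hr]
      exact mul_mem (hpair _ _ hu0 ha) (hpair _ _ hb hu0)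
    | one => simp
    | mul x y _ _ hx hy =>
      rw [show r * (x * y) * r⁻¹ = r * x * r⁻¹ * (r * y * r⁻¹) by group]; exact mul_mem hx hy
    | inv x _ hx => rw [show r * x⁻¹ * r⁻¹ = (r * x * r⁻¹)⁻¹ by group]; exact inv_mem hx
  have hmem : ∀ x : ↥(Iso (Qd d)), slotHom d x ∈ S0 ∨ slotHom d x * r ∈ S0 := fun x => by
    refine OOmega.induction_on (motive := fun g => slotHom d g ∈ S0 ∨ slotHom d g * r ∈ S0)
      (pnd_Qd hd.two hd.ne) (OOmega.two_ne hd.two) x (Or.inl (by rw [map_one]; exact one_mem S0)) fun w g hw ih => ?_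
    have hw' : refG d w * r ∈ S0 := hr ▸ hpair _ _ hw hu0
    rw [map_mul]
    rcases ih with hg | hg
    · refine Or.inr ?_
      rw [show slotHom d (rf (Qd d) w) = refG d w from rfl,
        show refG d w * slotHom d g * r = refG d w * r * (r⁻¹ * slotHom d g * r) by group]
      exact mul_mem hw' (by have := hnorm _ hg; rwa [hri] at this ⊢)
    · refine Or.inl ?_
      rw [show slotHom d (rf (Qd d) w) = refG d w from rfl,
        show refG d w * slotHom d g = refG d w * r * (r⁻¹ * (slotHom d g * r) * r⁻¹) by group]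
      exact mul_mem hw' (by have := hnorm _ hg; rwa [hri] at this ⊢)
  refine le_trans ?_ hle
  rw [Om, Subgroup.commutator_le]
  intro a ha b hb
  rw [← slotHom_range hd.two] at ha hb
  obtain ⟨a, rfl⟩ := ha
  obtain ⟨b, rfl⟩ := hb
  have hinv : ∀ x, x * r ∈ S0 → r * x⁻¹ ∈ S0 := fun x hx => by
    rw [show r * x⁻¹ = (x * r⁻¹)⁻¹ by group, hri]; exact inv_mem hx
  rcases hmem a with h1 | h1 <;> rcases hmem b with h2 | h2 <;> rw [commutatorElement_def]
  · exact mul_mem (mul_mem (mul_mem h1 h2) (inv_mem h1)) (inv_mem h2)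
  · rw [show slotHom d a * slotHom d b * (slotHom d a)⁻¹ * (slotHom d b)⁻¹ =
      slotHom d a * (slotHom d b * r) * (r⁻¹ * (slotHom d a)⁻¹ * r) * (r⁻¹ * (slotHom d b)⁻¹) by group, hri]
    exact mul_mem (mul_mem (mul_mem h1 h2) (by have := hnorm _ (inv_mem h1); rwa [hri] at this)) (hinv _ h2)
  · rw [show slotHom d a * slotHom d b * (slotHom d a)⁻¹ * (slotHom d b)⁻¹ =
      slotHom d a * r * (r⁻¹ * slotHom d b * r) * (r⁻¹ * (slotHom d a)⁻¹) * (slotHom d b)⁻¹ by group, hri]
    exact mul_mem (mul_mem (mul_mem h1 (by have := hnorm _ h2; rwa [hri] at this)) (hinv _ h1)) (inv_mem h2)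
  · rw [show slotHom d a * slotHom d b * (slotHom d a)⁻¹ * (slotHom d b)⁻¹ =
      slotHom d a * r * (r⁻¹ * (slotHom d b * r) * r⁻¹⁻¹) * (r⁻¹⁻¹⁻¹ * (r⁻¹ * (slotHom d a)⁻¹) * r) *
        (r⁻¹ * (slotHom d b)⁻¹) by group, hri, hri, hri]
    exact mul_mem (mul_mem (mul_mem h1 (by have := hnorm _ h2; rwa [hri] at this))
      (by have := hnorm _ (hinv _ h1); rwa [hri] at this)) (hinv _ h2)

theorem trace_pair (A B : GL (Fin 4) F) :
    (((facG (0 : Fin 2) A * facG 1 B : G16)) : M16).trace =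
      (A : Matrix (Fin 4) (Fin 4) F).trace * (B : Matrix (Fin 4) (Fin 4) F).trace := by
  rw [Units.val_mul, facG_val, facG_val, Matrix.trace]
  simp only [Matrix.diag_apply, Matrix.mul_apply, sum_idx, facS_apply]
  simp [Fin.sum_univ_four, Matrix.trace, Fin.forall_fin_two, funext_iff]
  ring

theorem trace_refG2 {a b : Fin 4 → F} (ha : Qd d a ≠ 0) (hb : Qd d b ≠ 0) :
    ((refG d a * refG d b : GL (Fin 4) F) : Matrix (Fin 4) (Fin 4) F).trace =
      4 * (bform d a b * bform d a b) / (Qd d a * Qd d b) := by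
  have tp : ∀ x : Fin 4 → F, Qd d x ≠ 0 → (projM d x).trace = 1 := fun x hx => by
    rw [projM, Matrix.trace_smul, Matrix.trace_vecMulVec, smul_eq_mul, inv_mul_eq_one₀ hx, ← bform_self]
    simp only [dotProduct, bform]
    exact Finset.sum_congr rfl fun i _ => by ring
  have tq : (projM d a * projM d b).trace = bform d a b * bform d a b / (Qd d a * Qd d b) := by
    rw [projM_mul, Matrix.trace_smul, Matrix.trace_vecMulVec, smul_eq_mul,
      show dotProduct a (fun y => d y * b y) = bform d a b by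
        simp only [dotProduct, bform]; exact Finset.sum_congr rfl fun i _ => by ring]
    field_simp
  rw [Units.val_mul, refG_val, refG_val]
  simp only [Matrix.sub_mul, Matrix.mul_sub, Matrix.one_mul, Matrix.mul_one, Matrix.smul_mul, Matrix.mul_smul,
    Matrix.trace_sub, Matrix.trace_smul, Matrix.trace_one, tp a ha, tp b hb, tq, smul_eq_mul, Fintype.card_fin]
  push_cast
  ring

variable (H : Hyp d X)
include H

/-- Every pair is a pure one. -/
theorem Hyp.hit_dep (h : Fr d ε u v e f) (hH : Hit d X ε u v e f x1 x2) :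
    ∃ (a : Fin 4 → F) (l m : F), x1 = l • a ∧ x2 = m • a := by
  by_contra hcon
  push Not at hcon
  have li : ∀ c1 c2 : F, c1 • x1 + c2 • x2 = 0 → c1 = 0 ∧ c2 = 0 := fun c1 c2 hc => by
    by_cases h1 : c1 = 0
    · refine ⟨h1, ?_⟩
      rw [h1, zero_smul, zero_add, smul_eq_zero] at hc
      exact hc.resolve_right fun e2 => hcon x1 1 0 (one_smul F x1).symm (by rw [e2, zero_smul])
    · refine absurd ?_ (hcon x2 (-(c2 / c1)) 1 ?_)
      · rw [one_smul]
      · rw [← inv_smul_smul₀ h1 x1, eq_neg_of_add_eq_zero_left hc, smul_neg, smul_smul, neg_smul, inv_mul_eq_div]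
  have hsing : ∀ y1 y2, Hit d X ε u v e f y1 y2 → (∀ c1 c2 : F, c1 • y1 + c2 • y2 = 0 → c1 = 0 ∧ c2 = 0) →
      pD d y1 y2 = 0 → False := fun y1 y2 hy hli hD => by
    obtain ⟨z1, z2, hz, hzD, hzP⟩ := H.hit_sing h hy hli hD
    exact H.hit_aniso h hz hzD hzP
  by_cases hD : pD d x1 x2 = 0
  · exact hsing x1 x2 hH li hD
  by_cases hP : ∀ z, bform d z x1 = 0 → bform d z x2 = 0 → Qd d z = 0 → z = 0
  · exact H.hit_aniso h hH hD hP
  · push Not at hP
    obtain ⟨z, z1, z2, hQ, hz⟩ := hP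
    obtain ⟨y1, y2, hy, hyD, hyl⟩ := H.hit_hyp h hH hD hz z1 z2 hQ
    exact hsing y1 y2 hy hyl hyD

/-- Conjugates of a pair by commuting elements are pairs, up to rotations. -/
theorem Hyp.conj_cref (h : Fr d ε u v e f) {g : G16} (hg : g ∈ X) (hc : Commute g (pU d u v)) {a : Fin 4 → F}
    (ha : Qd d a ≠ 0) : ∃ k a', Fix X e f k ∧ Qd d a' ≠ 0 ∧ g * cref d u a * g⁻¹ = k * cref d u a' := by
  obtain ⟨x1, x2, hx⟩ := h.keep_pos H.shape hc a 0
  rw [pk_left] at hx
  obtain ⟨hM, hform⟩ := H.hit_act h hg hc ha hx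
  obtain ⟨a', l, m, e1, e2⟩ := H.hit_dep h (H.hit_img h hg hc ha hx).2
  have hMa : pM d ε x1 x2 = (l * l - ε * (m * m)) * Qd d a' := by
    rw [e1, e2, pM, bsmul, bsmul, bsmul_left, bsmul_left, bform_self]; ring
  have ha' : Qd d a' ≠ 0 := fun e0 => ha (by rw [← hM, hMa, e0, mul_zero])
  obtain ⟨N, hN⟩ : ∃ N, N = l * l - ε * (m * m) := ⟨_, rfl⟩
  rw [← hN] at hMa
  have hN0 : N ≠ 0 := fun e0 => ha (by rw [← hM, hMa, e0, zero_mul])
  have hact : ∀ b1 b2, (g * cref d u a * g⁻¹) ⬝₆ (pk e f b1 b2) = (cref d u a') ⬝₆ (pk e f b1 b2) := fun b1 b2 => by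
    rw [hform, cref_pk h, refG_apply, refG_apply, pY1, pY2, pS, pR, hMa, e1, e2]
    simp only [bsmul, bform_comm d a' b1, bform_comm d a' b2]
    congr 1 <;> match_scalars <;> field_simp
    all_goals rw [hN]; ring
  refine ⟨g * cref d u a * g⁻¹ * (cref d u a')⁻¹, a', .of_pk ?_ fun b1 b2 => ?_, ha', by group⟩
  · exact mul_mem (mul_mem (mul_mem hg (H.cref_mem h.u0 ha)) (inv_mem hg)) (inv_mem (H.cref_mem h.u0 ha'))
  · obtain ⟨c1, c2, ec⟩ := h.keep_pos H.shape (cref_commute h H.shape a').inv_left b1 b2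
    rw [gl_mul_mulVec, ec, hact, ← ec, gl_mulVec_inv_cancel]

/-- A rotation of the first plane is a product of two reflections. -/
theorem Hyp.exists_rot (h : Fr d ε u v e f) {k : G16} (hk : Fix X e f k) :
    ∃ o, Qd d o ≠ 0 ∧ bform d o e = 0 ∧ bform d o f = 0 ∧ k = facG 0 (refG d u * refG d o) ∧
      (bform d u o * bform d u o = Qd d u * Qd d o → k = 1) := by
  have hd := H.shape
  have h2 := hd.two
  obtain ⟨α, β, hn, hkk⟩ := H.fix_rot h.ob (ρ := 1) (by rw [one_mul, h.vv]) hk.1 hk.2.1 hk.2.2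
  have hkmk : ∀ y1 y2, k ⬝₆ (pk u v y1 y2) = pk u v (α • y1 + β • y2) (β • y1 + α • y2) := fun y1 y2 => by
    rw [pk, Matrix.mulVec_add, (hkk y1).1, (hkk y2).2, pk]
    simp only [tv_add, tv_add', tv_smul, tv_smul', one_mul]
    abel
  have hfix : ∀ o, bform d o e = 0 → bform d o f = 0 →
      ∀ a b, (facG (0 : Fin 2) (refG d u * refG d o)) ⬝₆ (pk e f a b) = pk e f a b := fun o h1 h2' a b => by
    rw [pk, Matrix.mulVec_add, fac0_tv, fac0_tv, refG2_fix h.ue h1, refG2_fix h.uf h2']
  by_cases hα : α + 1 = 0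
  · have hα' : α = -1 := eq_neg_of_add_eq_zero_left hα
    have hβ : β = 0 := by
      rw [hα'] at hn
      exact mul_self_eq_zero.1 (by linear_combination -hn)
    refine ⟨v, h.v0, h.ve, h.vf, h.ext_pm hd (fun a b => ?_) fun a b => by rw [hk.act, hfix v h.ve h.vf], fun e0 => ?_⟩
    · rw [hkmk, h.pU_neg, hα', hβ]
      rw [show -pk u v a b = pk u v (-a) (-b) by simp [pk, tv_neg']; abel]
      congr 1 <;> module
    · rw [h.uv, mul_zero, h.vv] at e0
      exact absurd e0.symm (mul_ne_zero h.u0 (neg_ne_zero.2 h.u0))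
  · obtain ⟨c, hc⟩ : ∃ c, c = -(β / (α + 1)) := ⟨_, rfl⟩
    have hNe : 1 - 1 * (c * c) = 2 / (α + 1) := by
      rw [hc]; field_simp; linear_combination hn
    have hN : 1 - 1 * (c * c) ≠ 0 := hNe ▸ div_ne_zero h2 hα
    obtain ⟨hQo, er1, er2⟩ := rot_plane hd h.u0 h.uv (η := 1) (by rw [one_mul, h.vv]) hN
    have hoe : bform d (u + c • v) e = 0 := by rw [badd_left, bsmul_left, h.ue, h.ve]; ring
    have hof : bform d (u + c • v) f = 0 := by rw [badd_left, bsmul_left, h.uf, h.vf]; ring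
    refine ⟨u + c • v, hQo, hoe, hof, h.ext_pm hd (fun a b => ?_) fun a b => ?_, fun e0 => ?_⟩
    · rw [hkmk, pk, pk, Matrix.mulVec_add, fac0_tv, fac0_tv, er1, er2, hNe]
      simp only [tv_add, tv_add', tv_smul, tv_smul']
      rw [hc]
      match_scalars <;> field_simp <;> ring
    · rw [hk.act, hfix (u + c • v) hoe hof]
    · have hc0 : c = 0 := by
        rw [← bform_self (v := u + c • v), badd, badd, badd_left, badd_left, bsmul, bsmul, bsmul_left, bsmul_left] at e0
        simp only [bform_self, h.uv, bform_comm d v u, h.vv] at e0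
        exact mul_self_eq_zero.1 (mul_left_cancel₀ (mul_ne_zero h.u0 h.u0) (by linear_combination e0))
      have hβ : β = 0 := by rw [hc, neg_eq_zero, div_eq_zero_iff] at hc0; exact hc0.resolve_right hα
      have hα1 : α = 1 := by
        rw [hβ] at hn
        rcases mul_self_eq_one_iff.1 (show α * α = 1 by linear_combination hn) with e' | e'
        · exact e'
        · exact absurd (by rw [e']; ring) hα
      refine h.ext_pm hd (fun a b => ?_) fun a b => by rw [hk.act, Units.val_one, Matrix.one_mulVec]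
      rw [hkmk, hα1, hβ, Units.val_one, Matrix.one_mulVec]
      simp

/-- Elements commuting with the half turn are standard. -/
theorem Hyp.pair_std (h : Fr d ε u v e f) {g : G16} (hg : g ∈ X) (hc : Commute g (pU d u v)) :
    g ∈ Std F 4 (Fin 2) := by
  classical
  have hd := H.shape
  have h2 := hd.two
  choose K A hK hA hgA using fun a : {a : Fin 4 → F // Qd d a ≠ 0} => H.conj_cref h hg hc a.2
  have hcc : ∀ a b : Fin 4 → F, cref d u a * cref d u b = facG (1 : Fin 2) (refG d a * refG d b) := fun a b => by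
    have hcm : Commute (facG (0 : Fin 2) (refG d u)) (facG 1 (refG d a)) := facG_commute (by decide) _ _
    rw [show cref d u a = facG 0 (refG d u) * facG 1 (refG d a) from rfl,
      show cref d u b = facG 0 (refG d u) * facG 1 (refG d b) from rfl, hcm.symm.mul_mul_mul_comm, ← map_mul,
      refG_mul_self, map_one, one_mul, ← map_mul]
  have hprod : ∀ a b, g * facG (1 : Fin 2) (refG d a.1 * refG d b.1) * g⁻¹ =
      K a * (K b)⁻¹ * facG (1 : Fin 2) (refG d (A a) * refG d (A b)) := fun a b => by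
    have e1 := H.cref_turn h (hA a) (hK b)
    rw [inv_eq_of_mul_eq_one_left (cref_sq u (A a))] at e1
    rw [← hcc, ← hcc, show g * (cref d u a.1 * cref d u b.1) * g⁻¹ = g * cref d u a.1 * g⁻¹ * (g * cref d u b.1 * g⁻¹) by
      group, hgA, hgA]
    have hsw : cref d u (A a) * K b = (K b)⁻¹ * cref d u (A a) := by
      rw [← e1, mul_assoc _ (cref d u (A a)) (cref d u (A a)), cref_sq, mul_one]
    rw [show K a * cref d u (A a) * (K b * cref d u (A b)) = K a * (cref d u (A a) * K b) * cref d u (A b) by group,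
      hsw]
    group
  have heq1 : ∀ a b, bform d a.1 b.1 ≠ 0 → K a = K b := fun a b hab => by
    obtain ⟨o, ho, hoe, hof, hko, hone⟩ := H.exists_rot h ((hK a).mul (hK b).inv)
    refine mul_inv_eq_one.1 (hone ?_)
    -- traces
    have t1 : ((g * facG (1 : Fin 2) (refG d a.1 * refG d b.1) * g⁻¹ : G16) : M16).trace =
        ((facG (1 : Fin 2) (refG d a.1 * refG d b.1) : G16) : M16).trace := by
      rw [Units.val_mul, Units.val_mul, Matrix.trace_mul_cycle, ← Units.val_mul g⁻¹ g, inv_mul_cancel, Units.val_one,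
        one_mul]
    have hpc : Commute g (pU d u v) := hc
    have t2 : ((g * (pU d u v * facG (1 : Fin 2) (refG d a.1 * refG d b.1)) * g⁻¹ : G16) : M16).trace =
        ((pU d u v * facG (1 : Fin 2) (refG d a.1 * refG d b.1) : G16) : M16).trace := by
      rw [Units.val_mul (g * _), Units.val_mul g, Matrix.trace_mul_cycle, ← Units.val_mul g⁻¹ g, inv_mul_cancel, Units.val_one,
        one_mul]
    rw [show g * (pU d u v * facG (1 : Fin 2) (refG d a.1 * refG d b.1)) * g⁻¹ =
      (g * pU d u v) * facG (1 : Fin 2) (refG d a.1 * refG d b.1) * g⁻¹ by group, hpc.eq,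
      show pU d u v * g * facG (1 : Fin 2) (refG d a.1 * refG d b.1) * g⁻¹ =
      pU d u v * (g * facG (1 : Fin 2) (refG d a.1 * refG d b.1) * g⁻¹) by group, hprod, hko, ← mul_assoc,
      ← map_mul, trace_pair, trace_pair] at t2
    rw [hprod, hko, trace_pair, ← one_mul (facG (1 : Fin 2) (refG d a.1 * refG d b.1)),
      ← map_one (facG (0 : Fin 2) : GL (Fin 4) F →* G16), trace_pair] at t1
    rw [trace_refG2 h.u0 ho, trace_refG2 (hA a) (hA b), trace_refG2 a.2 b.2, Units.val_one, Matrix.trace_one,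
      Fintype.card_fin] at t1
    -- the half turn times a rotation
    have hp : refG d u * refG d v * (refG d u * refG d o) = refG d v * refG d o := by
      rw [(refG_mul_comm h.uv).eq, mul_assoc, ← mul_assoc (refG d u) (refG d u), refG_mul_self, one_mul]
    rw [hp, trace_refG2 h.v0 ho, trace_refG2 (hA a) (hA b), trace_refG2 h.u0 h.v0, h.uv, mul_zero, mul_zero, zero_div,
      zero_mul] at t2
    have h4 : (4 : F) ≠ 0 := by rw [show (4 : F) = 2 * 2 by norm_num]; exact mul_ne_zero h2 h2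
    have hne : 4 * (bform d (A a) (A b) * bform d (A a) (A b)) / (Qd d (A a) * Qd d (A b)) ≠ 0 := fun e0 => by
      rw [e0, mul_zero] at t1
      push_cast at t1
      exact mul_ne_zero h4 (div_ne_zero (mul_ne_zero h4 (mul_self_ne_zero.2 hab)) (mul_ne_zero a.2 b.2)) t1.symm
    have hvo : bform d v o = 0 := by
      have e0 := (mul_eq_zero.1 t2).resolve_right hne
      rw [div_eq_zero_iff, or_iff_left (mul_ne_zero h.v0 ho), mul_eq_zero, or_iff_right h4, mul_self_eq_zero] at e0
      exact e0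
    rw [h.ob.expand o]
    simp only [Fin.sum_univ_four, Matrix.cons_val_zero, Matrix.cons_val_one, Matrix.cons_val, bform_comm d e o,
      bform_comm d f o, hoe, hof, hvo, zero_div, zero_smul, add_zero]
    rw [bsmul, bform_self, QuadraticMap.map_smul, smul_eq_mul]
    ring
  have heq : ∀ a b, K a = K b := fun a b => by
    by_cases hab : bform d a.1 b.1 = 0
    · by_cases hQ : Qd d a.1 + Qd d b.1 = 0
      · obtain ⟨z, haz, hbz, hz⟩ := hd.exists_orth_ne a.2 b.2 hab
        have hQc : Qd d (a.1 + b.1 + z) ≠ 0 := by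
          rw [← bform_self]
          simp only [badd, badd_left]
          simp only [bform_self, hab, bform_comm d b.1 a.1, haz, hbz, bform_comm d z a.1, bform_comm d z b.1]
          intro e0; exact hz (by linear_combination e0 - hQ)
        rw [heq1 a ⟨_, hQc⟩ (by rw [badd, badd, bform_self, hab, haz, add_zero, add_zero]; exact a.2),
          heq1 b ⟨_, hQc⟩ (by rw [badd, badd, bform_comm d b.1 a.1, hab, bform_self, hbz, zero_add, add_zero]; exact b.2)]
      · have hQc : Qd d (a.1 + b.1) ≠ 0 := by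
          rw [← bform_self]
          simp only [badd, badd_left]
          simp only [bform_self, hab, bform_comm d b.1 a.1]
          intro e0; exact hQ (by linear_combination e0)
        rw [heq1 a ⟨_, hQc⟩ (by rw [badd, bform_self, hab, add_zero]; exact a.2),
          heq1 b ⟨_, hQc⟩ (by rw [badd, bform_comm d b.1 a.1, hab, bform_self, zero_add]; exact b.2)]
    · exact heq1 a b hab
  -- the second slot is kept
  have hslot : ∀ f' ∈ Om d, ∃ f'', g * facG (1 : Fin 2) f' * g⁻¹ = facG 1 f'' := fun f' hf' => by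
    obtain ⟨z, hz⟩ := om_le_of_pairs hd (Subgroup.comap ((MulAut.conj g).toMonoidHom.comp (facG (1 : Fin 2)))
      (facG (1 : Fin 2) : GL (Fin 4) F →* G16).range) (fun a b ha hb => by
        refine ⟨refG d (A ⟨a, ha⟩) * refG d (A ⟨b, hb⟩), ?_⟩
        show _ = g * facG (1 : Fin 2) (refG d a * refG d b) * g⁻¹
        rw [hprod ⟨a, ha⟩ ⟨b, hb⟩, heq ⟨a, ha⟩ ⟨b, hb⟩, mul_inv_cancel, one_mul]) hf'
    exact ⟨z, hz.symm⟩
  have hw : g ∈ IsoD (wt (σ := Fin 2) d) := H.iso hg
  obtain ⟨-, hsurj⟩ := hd.slot_image hw hslot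
  haveI : NeZero 4 := ⟨by norm_num⟩
  have h0 : ∀ Y, ∃ Y', (g : M16) * facS 0 Y = facS 0 Y' * (g : M16) := fun Y => by
    obtain ⟨Y', hY⟩ := hd.slot_of_commute (l := (0 : Fin 2)) (G := (g : M16) * facS 0 Y * ((g⁻¹ : G16) : M16))
      fun j hj f' hf' => by
        obtain rfl : j = 1 := by omega
        obtain ⟨x, -, hx⟩ := hsurj f' hf'
        rw [← facG_val, ← hx, Units.val_mul, Units.val_mul, facG_val]
        have hcs := facS_commute (show (0 : Fin 2) ≠ 1 by decide) Y (x : Matrix (Fin 4) (Fin 4) F)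
        simp only [Matrix.mul_assoc]
        rw [← Matrix.mul_assoc _ (g : M16), Units.inv_mul, Matrix.one_mul, ← Matrix.mul_assoc _ (g : M16), Units.inv_mul,
          Matrix.one_mul, ← Matrix.mul_assoc (facS 0 Y), hcs, Matrix.mul_assoc]
    exact ⟨Y', by rw [← hY, Matrix.mul_assoc, Units.inv_mul, Matrix.mul_one]⟩
  choose φ hφ using h0
  have φinj : Function.Injective φ := fun Y Z e' => facS_inj 0 (g.isUnit.mul_left_cancel (by rw [hφ, hφ, e']))
  have φlin : IsLinearMap F φ :=
    { map_add := fun Y Z => facS_inj 0 (g.isUnit.mul_right_cancel (by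
        rw [← hφ, facS_add, facS_add, Matrix.mul_add, Matrix.add_mul, hφ, hφ]))
      map_smul := fun c Y => facS_inj 0 (g.isUnit.mul_right_cancel (by
        rw [← hφ, facS_smul, facS_smul, Matrix.mul_smul, Matrix.smul_mul, hφ])) }
  have φsurj : Function.Surjective φ := (LinearMap.injective_iff_surjective (f := φlin.mk' φ)).1 φinj
  refine mem_std_of_conj (by norm_num) g fun l => ?_
  rcases (show l = 0 ∨ l = 1 by omega) with rfl | rfl
  · exact ⟨0, fun Y => ⟨φ Y, hφ Y⟩⟩
  · refine ⟨1, fun Y => ?_⟩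
    obtain ⟨Y', hY⟩ := hd.slot_of_commute (l := (1 : Fin 2)) (G := (g : M16) * facS 1 Y * ((g⁻¹ : G16) : M16))
      fun j hj f' _ => by
        obtain rfl : j = 0 := by omega
        obtain ⟨x, hx⟩ := φsurj (f' : Matrix (Fin 4) (Fin 4) F)
        have e0 : (g : M16) * facS 0 x * ((g⁻¹ : G16) : M16) = facS 0 (f' : Matrix (Fin 4) (Fin 4) F) := by
          rw [hφ, hx, Matrix.mul_assoc, Units.mul_inv, Matrix.mul_one]
        have hcs := facS_commute (show (1 : Fin 2) ≠ 0 by decide) Y x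
        rw [← e0]
        simp only [Matrix.mul_assoc]
        rw [← Matrix.mul_assoc _ (g : M16), Units.inv_mul, Matrix.one_mul, ← Matrix.mul_assoc _ (g : M16), Units.inv_mul,
          Matrix.one_mul, ← Matrix.mul_assoc (facS 1 Y), hcs, Matrix.mul_assoc]
    exact ⟨Y', by rw [← hY, Matrix.mul_assoc, Units.inv_mul, Matrix.mul_one]⟩

end Cfsg.Agent.Classical.OTPow.Four
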