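/-
The involutions of the standard part in dimension sixteen.
-/
import Cfsg.Agent.Lib.Classical.OTPow.Four.PairStd

set_option autoImplicit false
set_option linter.unusedSectionVars false

namespace Cfsg.Agent.Classical.OTPow.Four

open Matrix QuadraticMap
open Cfsg.Agent.Classical

variable {F : Type*} [Field F] [Fintype F] {d : Fin 4 → F}

local notation "G4" => GL (Fin 4) F
local notation "G16" => GL (Fin 2 → Fin 4) F
local notation "M4" => Matrix (Fin 4) (Fin 4) F
local notation "M16" => Matrix (Fin 2 → Fin 4) (Fin 2 → Fin 4) F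
local notation:max g:max " ⬝₆ " x:max => ((g : G16) : M16) *ᵥ x
local notation "Q16" => QW (wt (σ := Fin 2) d)
local notation:max g:max " ⬝₄ " x:max => ((g : GL (Fin 4) F) : Matrix (Fin 4) (Fin 4) F) *ᵥ x

/-- The half turn of a plane in one slot. -/
def IsPair (d : Fin 4 → F) (x : GL (Fin 2 → Fin 4) F) : Prop :=
  ∃ (l : Fin 2) (p r : Fin 4 → F), Qd d p ≠ 0 ∧ Qd d r ≠ 0 ∧ bform d p r = 0 ∧ x = facG l (refG d p * refG d r)

/-- A product of a reflection of each slot. -/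
def IsCT (d : Fin 4 → F) (x : GL (Fin 2 → Fin 4) F) : Prop :=
  ∃ a b : Fin 4 → F, Qd d a ≠ 0 ∧ Qd d b ≠ 0 ∧ x = cref d a b

/-- A half turn in each slot. -/
def IsDbl (d : Fin 4 → F) (x : GL (Fin 2 → Fin 4) F) : Prop :=
  ∃ p r p' r' : Fin 4 → F, Qd d p ≠ 0 ∧ Qd d r ≠ 0 ∧ bform d p r = 0 ∧ Qd d p' ≠ 0 ∧ Qd d r' ≠ 0 ∧
    bform d p' r' = 0 ∧ x = facG 0 (refG d p * refG d r) * facG 1 (refG d p' * refG d r')

theorem facG_neg (l : Fin 2) (A : G4) : facG l (-A) = -facG l A := Units.ext (by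
  rw [facG_val, Units.val_neg, Units.val_neg, facG_val, ← neg_one_smul F (A : M4), facS_smul, neg_one_smul])

theorem facG_neg_one (l : Fin 2) : facG l (-1 : G4) = -1 := by rw [facG_neg, map_one]

theorem trace_one16 : (((1 : G16)) : M16).trace = 16 := by
  rw [Units.val_one, Matrix.trace_one]
  simp

theorem trace_fac (l : Fin 2) (A : G4) : ((facG l A : G16) : M16).trace = 4 * (A : M4).trace := by
  rcases (show l = 0 ∨ l = 1 by omega) with rfl | rfl
  · have := trace_pair A 1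
    rwa [map_one, mul_one, Units.val_one, Matrix.trace_one, Fintype.card_fin, Nat.cast_ofNat, mul_comm] at this
  · have := trace_pair 1 A
    rwa [map_one, one_mul, Units.val_one, Matrix.trace_one, Fintype.card_fin, Nat.cast_ofNat] at this

theorem trace_refG (hd : Shape d) {a : Fin 4 → F} (ha : Qd d a ≠ 0) : (refG d a : M4).trace = 2 := by
  have tp : (projM d a).trace = 1 := by
    rw [projM, Matrix.trace_smul, Matrix.trace_vecMulVec, smul_eq_mul, inv_mul_eq_one₀ ha, ← bform_self]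
    simp only [dotProduct, bform]
    exact Finset.sum_congr rfl fun i _ => by ring
  rw [refG_val, Matrix.trace_sub, Matrix.trace_smul, tp, Matrix.trace_one, Fintype.card_fin, smul_eq_mul]
  push_cast
  ring

theorem IsPair.trace {x : G16} (h : IsPair d x) : ((x : G16) : M16).trace = 0 := by
  obtain ⟨l, p, r, hp, hr, hpr, rfl⟩ := h
  rw [trace_fac, trace_refG2 hp hr, hpr]
  simp

theorem IsDbl.trace {x : G16} (h : IsDbl d x) : ((x : G16) : M16).trace = 0 := by
  obtain ⟨p, r, p', r', hp, hr, hpr, -, -, -, rfl⟩ := h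
  rw [trace_pair, trace_refG2 hp hr, hpr]
  simp

theorem IsCT.trace (hd : Shape d) {x : G16} (h : IsCT d x) : ((x : G16) : M16).trace = 4 := by
  obtain ⟨a, b, ha, hb, rfl⟩ := h
  rw [trace_pair, trace_refG hd ha, trace_refG hd hb]
  norm_num

theorem four_ne (hd : Shape d) : (4 : F) ≠ 0 := by
  rw [show (4 : F) = 2 * 2 by norm_num]; exact mul_ne_zero hd.two hd.two

/-- Elements agreeing on an orthogonal basis are equal. -/
theorem OB.ext4 {b : Fin 4 → Fin 4 → F} (hb : OB d b) {A B : G4} (h : ∀ i, A ⬝₄ (b i) = B ⬝₄ (b i)) : A = B :=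
  gl_ext_mulVec fun z => by
    conv_lhs => rw [hb.expand z]
    conv_rhs => rw [hb.expand z]
    simp only [Matrix.mulVec_sum, Matrix.mulVec_smul, h]

theorem exists_aniso (hd : Shape d) : ∃ v : Fin 4 → F, Qd d v ≠ 0 :=
  ⟨Pi.single 0 1, by rw [Qd_single]; exact hd.ne 0⟩

theorem exists_orth_one (hd : Shape d) {a : Fin 4 → F} (ha : Qd d a ≠ 0) : ∃ w, Qd d w ≠ 0 ∧ bform d a w = 0 := by
  by_contra hcon
  push Not at hcon
  have hall : ∀ z, bform d a z = 0 → Qd d z = 0 := fun z hz => by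
    by_contra h0
    exact hcon z h0 hz
  refine ha ?_
  -- otherwise the form would vanish on the complement
  have hpol : ∀ z z', bform d a z = 0 → bform d a z' = 0 → bform d z z' = 0 := fun z z' hz hz' => by
    have h := hall (z + z') (by rw [badd, hz, hz', add_zero])
    rw [← bform_self, badd, badd_left, badd_left, bform_self, bform_self, hall z hz, hall z' hz', bform_comm d z' z] at h
    refine (mul_eq_zero.1 (show 2 * bform d z z' = 0 by linear_combination h)).resolve_left hd.two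
  have hz0 : ∀ z, bform d a z = 0 → z = 0 := fun z hz => eq_zero_of_orth hd.ne fun y => by
    obtain ⟨y', hy'⟩ : ∃ y', y' = y - (bform d a y / Qd d a) • a := ⟨_, rfl⟩
    have h1 : bform d a y' = 0 := by rw [hy', bsub, bsmul, bform_self, div_mul_cancel₀ _ ha, sub_self]
    have h2 := hpol z y' hz h1
    rw [hy', bsub, bsmul, bform_comm d z a, hz, mul_zero, sub_zero] at h2
    exact h2
  exfalso
  have e0 : bform d a (Pi.single 0 1 - (bform d a (Pi.single 0 1) / Qd d a) • a) = 0 := by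
    rw [bsub, bsmul, bform_self, div_mul_cancel₀ _ ha, sub_self]
  have e1 : bform d a (Pi.single 1 1 - (bform d a (Pi.single 1 1) / Qd d a) • a) = 0 := by
    rw [bsub, bsmul, bform_self, div_mul_cancel₀ _ ha, sub_self]
  have f0 := sub_eq_zero.1 (hz0 _ e0)
  have f1 := sub_eq_zero.1 (hz0 _ e1)
  obtain ⟨c0, hc0⟩ : ∃ c0, c0 = bform d a (Pi.single 0 1) / Qd d a := ⟨_, rfl⟩
  obtain ⟨c1, hc1⟩ : ∃ c1, c1 = bform d a (Pi.single 1 1) / Qd d a := ⟨_, rfl⟩
  rw [← hc0] at f0
  rw [← hc1] at f1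
  have g1 := congrFun f0 0
  have g2 := congrFun f0 1
  have g3 := congrFun f1 1
  simp at g1 g2 g3
  rcases g2 with g2 | g2
  · exact one_ne_zero (g1.trans (by rw [g2, zero_mul]))
  · exact one_ne_zero (g3.trans (by rw [g2, mul_zero]))

theorem ob_of_four {a b c e : Fin 4 → F} (ha : Qd d a ≠ 0) (hb : Qd d b ≠ 0) (hc : Qd d c ≠ 0) (he : Qd d e ≠ 0)
    (hab : bform d a b = 0) (hac : bform d a c = 0) (hae : bform d a e = 0) (hbc : bform d b c = 0)
    (hbe : bform d b e = 0) (hce : bform d c e = 0) : OB d ![a, b, c, e] := by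
  refine ⟨fun i => ?_, fun i j hij => ?_⟩
  · fin_cases i
    exacts [ha, hb, hc, he]
  · fin_cases i <;> fin_cases j <;> first | exact absurd rfl hij |
      simp [hab, hac, hae, hbc, hbe, hce, bform_comm d b a, bform_comm d c a, bform_comm d c b, bform_comm d e a,
        bform_comm d e b, bform_comm d e c]

/-- A half turn completes to an orthogonal basis. -/
theorem exists_ob_pair (hd : Shape d) {p r : Fin 4 → F} (hp : Qd d p ≠ 0) (hr : Qd d r ≠ 0) (hpr : bform d p r = 0) :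
    ∃ s t, OB d ![p, r, s, t] := by
  obtain ⟨s, hps, hrs, hs⟩ := hd.exists_orth_ne hp hr hpr
  obtain ⟨t, ht, hpt, hrt, hst⟩ := exists_fourth hd hp hr hs hpr hps hrs
  exact ⟨s, t, ob_of_four hp hr hs ht hpr hps hpt hrs hrt hst⟩

/-- An involutory isometry has an orthogonal basis of eigenvectors. -/
theorem exists_eigen (hd : Shape d) {A : G4} (hA : ∀ x y, bform d (A ⬝₄ x) (A ⬝₄ y) = bform d x y) (hA2 : A * A = 1) :
    ∃ a b c e : Fin 4 → F, OB d ![a, b, c, e] ∧ (A ⬝₄ a = a ∨ A ⬝₄ a = -a) ∧ (A ⬝₄ b = b ∨ A ⬝₄ b = -b) ∧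
      (A ⬝₄ c = c ∨ A ⬝₄ c = -c) ∧ (A ⬝₄ e = e ∨ A ⬝₄ e = -e) := by
  have hAA : ∀ x, A ⬝₄ (A ⬝₄ x) = x := fun x => by rw [← gl_mul_mulVec, hA2, Units.val_one, Matrix.one_mulVec]
  have step : ∀ w, Qd d w ≠ 0 → ∃ v, Qd d v ≠ 0 ∧ (A ⬝₄ v = v ∨ A ⬝₄ v = -v) ∧
      ∀ z, (A ⬝₄ z = z ∨ A ⬝₄ z = -z) → bform d z w = 0 → bform d z v = 0 := fun w hw => by
    have hz : ∀ z, (A ⬝₄ z = z ∨ A ⬝₄ z = -z) → bform d z w = 0 → bform d z (A ⬝₄ w) = 0 := fun z hz hzw => by
      have e := hA z w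
      rw [hzw] at e
      rcases hz with h | h <;> rw [h] at e
      · exact e
      · rwa [bneg_left, neg_eq_zero] at e
    have hww : bform d (A ⬝₄ w) (A ⬝₄ w) = Qd d w := by rw [hA, bform_self]
    by_cases h1 : Qd d (w + A ⬝₄ w) = 0
    · refine ⟨w - A ⬝₄ w, fun h2 => ?_, Or.inr ?_, fun z hz' hzw => by rw [bsub, hzw, hz z hz' hzw, sub_zero]⟩
      · rw [← bform_self] at h1 h2
        simp only [bsub, bsub_left, badd, badd_left, bform_comm d (A ⬝₄ w) w, hww] at h1 h2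
        simp only [bform_self] at h1 h2
        exact hw ((mul_eq_zero.1 (show 4 * Qd d w = 0 by linear_combination h1 + h2)).resolve_left (four_ne hd))
      · rw [Matrix.mulVec_sub, hAA, neg_sub]
    · exact ⟨w + A ⬝₄ w, h1, Or.inl (by rw [Matrix.mulVec_add, hAA, add_comm]),
        fun z hz' hzw => by rw [badd, hzw, hz z hz' hzw, add_zero]⟩
  obtain ⟨w1, hw1⟩ := exists_aniso hd
  obtain ⟨a, ha, ea, -⟩ := step w1 hw1
  obtain ⟨w2, hw2, haw⟩ := exists_orth_one hd ha
  obtain ⟨b, hb, eb, hb'⟩ := step w2 hw2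
  have hab := hb' a ea haw
  obtain ⟨w3, haw3, hbw3, hw3⟩ := hd.exists_orth_ne ha hb hab
  obtain ⟨c, hc, ec, hc'⟩ := step w3 hw3
  have hac := hc' a ea haw3
  have hbc := hc' b eb hbw3
  obtain ⟨w4, hw4, haw4, hbw4, hcw4⟩ := exists_fourth hd ha hb hc hab hac hbc
  obtain ⟨e, he, ee, he'⟩ := step w4 hw4
  exact ⟨a, b, c, e, ob_of_four ha hb hc he hab hac (he' a ea haw4) hbc (he' b eb hbw4) (he' c ec hcw4), ea, eb, ec, ee⟩

/-- Involutory isometries of a slot. -/
theorem invol_cases (hd : Shape d) {A : G4} (hA : ∀ x y, bform d (A ⬝₄ x) (A ⬝₄ y) = bform d x y) (hA2 : A * A = 1) :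
    A = 1 ∨ A = -1 ∨ (∃ p r, Qd d p ≠ 0 ∧ Qd d r ≠ 0 ∧ bform d p r = 0 ∧ A = refG d p * refG d r) ∨
      (∃ a, Qd d a ≠ 0 ∧ A = refG d a) ∨ ∃ a, Qd d a ≠ 0 ∧ A = -refG d a := by
  obtain ⟨a, b, c, e, hb', ea, eb, ec, ee⟩ := exists_eigen hd hA hA2
  have ha : Qd d a ≠ 0 := hb'.ne 0
  have hb : Qd d b ≠ 0 := hb'.ne 1
  have hc : Qd d c ≠ 0 := hb'.ne 2
  have he : Qd d e ≠ 0 := hb'.ne 3
  have ab : bform d a b = 0 := hb'.orth 0 1 (by decide)
  have ac : bform d a c = 0 := hb'.orth 0 2 (by decide)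
  have ae : bform d a e = 0 := hb'.orth 0 3 (by decide)
  have bc : bform d b c = 0 := hb'.orth 1 2 (by decide)
  have be : bform d b e = 0 := hb'.orth 1 3 (by decide)
  have ce : bform d c e = 0 := hb'.orth 2 3 (by decide)
  have ba := (bform_comm d b a).trans ab
  have ca := (bform_comm d c a).trans ac
  have ea' := (bform_comm d e a).trans ae
  have cb := (bform_comm d c b).trans bc
  have eb' := (bform_comm d e b).trans be
  have ec' := (bform_comm d e c).trans ce
  have neg1 : ∀ z, (-1 : G4) ⬝₄ z = -z := fun z => by rw [Units.val_neg, Units.val_one, Matrix.neg_mulVec, Matrix.one_mulVec]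
  have negA : ∀ (B : G4) z, (-B) ⬝₄ z = -(B ⬝₄ z) := fun B z => by rw [Units.val_neg, Matrix.neg_mulVec]
  rcases ea with ea | ea <;> rcases eb with eb | eb <;> rcases ec with ec | ec <;> rcases ee with ee | ee
  · exact Or.inl (hb'.ext4 fun i => by fin_cases i <;> simp [ea, eb, ec, ee])
  · exact Or.inr (Or.inr (Or.inr (Or.inl ⟨e, he, hb'.ext4 fun i => by
      fin_cases i <;> simp [ea, eb, ec, ee, refG_self he, refG_orth ea', refG_orth eb', refG_orth ec']⟩)))
  · exact Or.inr (Or.inr (Or.inr (Or.inl ⟨c, hc, hb'.ext4 fun i => by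
      fin_cases i <;> simp [ea, eb, ec, ee, refG_self hc, refG_orth ca, refG_orth cb, refG_orth ce]⟩)))
  · exact Or.inr (Or.inr (Or.inl ⟨c, e, hc, he, ce, hb'.ext4 fun i => by
      fin_cases i <;> simp [Units.val_mul, ← Matrix.mulVec_mulVec, ea, eb, ec, ee, Matrix.mulVec_neg, refG_self hc, refG_self he,
        refG_orth ca, refG_orth cb, refG_orth ce, refG_orth ea', refG_orth eb', refG_orth ec']⟩))
  · exact Or.inr (Or.inr (Or.inr (Or.inl ⟨b, hb, hb'.ext4 fun i => by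
      fin_cases i <;> simp [ea, eb, ec, ee, refG_self hb, refG_orth ba, refG_orth bc, refG_orth be]⟩)))
  · exact Or.inr (Or.inr (Or.inl ⟨b, e, hb, he, be, hb'.ext4 fun i => by
      fin_cases i <;> simp [Units.val_mul, ← Matrix.mulVec_mulVec, ea, eb, ec, ee, Matrix.mulVec_neg, refG_self hb, refG_self he,
        refG_orth ba, refG_orth bc, refG_orth be, refG_orth ea', refG_orth eb', refG_orth ec']⟩))
  · exact Or.inr (Or.inr (Or.inl ⟨b, c, hb, hc, bc, hb'.ext4 fun i => by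
      fin_cases i <;> simp [Units.val_mul, ← Matrix.mulVec_mulVec, ea, eb, ec, ee, Matrix.mulVec_neg, refG_self hb, refG_self hc,
        refG_orth ba, refG_orth bc, refG_orth be, refG_orth ca, refG_orth cb, refG_orth ce]⟩))
  · exact Or.inr (Or.inr (Or.inr (Or.inr ⟨a, ha, hb'.ext4 fun i => by
      fin_cases i <;> simp [Matrix.neg_mulVec, ea, eb, ec, ee, refG_self ha, refG_orth ab, refG_orth ac, refG_orth ae]⟩)))
  · exact Or.inr (Or.inr (Or.inr (Or.inl ⟨a, ha, hb'.ext4 fun i => by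
      fin_cases i <;> simp [ea, eb, ec, ee, refG_self ha, refG_orth ab, refG_orth ac, refG_orth ae]⟩)))
  · exact Or.inr (Or.inr (Or.inl ⟨a, e, ha, he, ae, hb'.ext4 fun i => by
      fin_cases i <;> simp [Units.val_mul, ← Matrix.mulVec_mulVec, ea, eb, ec, ee, Matrix.mulVec_neg, refG_self ha, refG_self he,
        refG_orth ab, refG_orth ac, refG_orth ae, refG_orth ea', refG_orth eb', refG_orth ec']⟩))
  · exact Or.inr (Or.inr (Or.inl ⟨a, c, ha, hc, ac, hb'.ext4 fun i => by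
      fin_cases i <;> simp [Units.val_mul, ← Matrix.mulVec_mulVec, ea, eb, ec, ee, Matrix.mulVec_neg, refG_self ha, refG_self hc,
        refG_orth ab, refG_orth ac, refG_orth ae, refG_orth ca, refG_orth cb, refG_orth ce]⟩))
  · exact Or.inr (Or.inr (Or.inr (Or.inr ⟨b, hb, hb'.ext4 fun i => by
      fin_cases i <;> simp [Matrix.neg_mulVec, ea, eb, ec, ee, refG_self hb, refG_orth ba, refG_orth bc, refG_orth be]⟩)))
  · exact Or.inr (Or.inr (Or.inl ⟨a, b, ha, hb, ab, hb'.ext4 fun i => by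
      fin_cases i <;> simp [Units.val_mul, ← Matrix.mulVec_mulVec, ea, eb, ec, ee, Matrix.mulVec_neg, refG_self ha, refG_self hb,
        refG_orth ab, refG_orth ac, refG_orth ae, refG_orth ba, refG_orth bc, refG_orth be]⟩))
  · exact Or.inr (Or.inr (Or.inr (Or.inr ⟨c, hc, hb'.ext4 fun i => by
      fin_cases i <;> simp [Matrix.neg_mulVec, ea, eb, ec, ee, refG_self hc, refG_orth ca, refG_orth cb, refG_orth ce]⟩)))
  · exact Or.inr (Or.inr (Or.inr (Or.inr ⟨e, he, hb'.ext4 fun i => by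
      fin_cases i <;> simp [Matrix.neg_mulVec, ea, eb, ec, ee, refG_self he, refG_orth ea', refG_orth eb', refG_orth ec']⟩)))
  · exact Or.inr (Or.inl (hb'.ext4 fun i => by fin_cases i <;> simp [Matrix.neg_mulVec, ea, eb, ec, ee]))

theorem neg_one_mem (hd : Shape d) : (-1 : G16) ∈ Og d := by
  obtain ⟨a, ha⟩ := exists_aniso hd
  obtain ⟨b, hb, hab⟩ := exists_orth_one hd ha
  obtain ⟨c, e, h⟩ := exists_ob_pair hd ha hb hab
  have hc : Qd d c ≠ 0 := h.ne 2
  have he : Qd d e ≠ 0 := h.ne 3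
  have ac : bform d a c = 0 := h.orth 0 2 (by decide)
  have ae : bform d a e = 0 := h.orth 0 3 (by decide)
  have bc : bform d b c = 0 := h.orth 1 2 (by decide)
  have be : bform d b e = 0 := h.orth 1 3 (by decide)
  have ce : bform d c e = 0 := h.orth 2 3 (by decide)
  have e1 : refG d a * refG d b * (refG d c * refG d e) = -1 := h.ext4 fun i => by
    fin_cases i <;> simp [Units.val_mul, ← Matrix.mulVec_mulVec, Matrix.mulVec_neg, Matrix.neg_mulVec, refG_self ha, refG_self hb,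
      refG_self hc, refG_self he, refG_orth hab, refG_orth ac, refG_orth ae, refG_orth bc, refG_orth be, refG_orth ce,
      refG_orth ((bform_comm d b a).trans hab), refG_orth ((bform_comm d c a).trans ac),
      refG_orth ((bform_comm d e a).trans ae), refG_orth ((bform_comm d c b).trans bc),
      refG_orth ((bform_comm d e b).trans be), refG_orth ((bform_comm d e c).trans ce)]
  rw [← facG_neg_one 0, ← e1, map_mul (facG 0) (refG d a * refG d b) (refG d c * refG d e), map_mul, map_mul]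
  exact mul_mem (refl_refl_mem hd 0 0 ha hb) (refl_refl_mem hd 0 0 hc he)

theorem neg_mem_og (hd : Shape d) {x : G16} (hx : x ∈ Og d) : -x ∈ Og d := by
  rw [← neg_one_mul]; exact mul_mem (neg_one_mem hd) hx

theorem pair_mem (hd : Shape d) (l : Fin 2) {p r : Fin 4 → F} (hp : Qd d p ≠ 0) (hr : Qd d r ≠ 0) :
    facG l (refG d p * refG d r) ∈ Og d := by
  rw [map_mul]; exact refl_refl_mem hd l l hp hr

/-- Involutions of one slot inside the derived group. -/
theorem slot_invol (hd : Shape d) {l : Fin 2} {A : G4} (hA : ∀ x y, bform d (A ⬝₄ x) (A ⬝₄ y) = bform d x y)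
    (hA2 : A * A = 1) (hx : facG l A ∈ Og d) : facG l A = 1 ∨ facG l A = -1 ∨ IsPair d (facG l A) := by
  rcases invol_cases hd hA hA2 with h | h | ⟨p, r, hp, hr, hpr, h⟩ | ⟨a, ha, h⟩ | ⟨a, ha, h⟩
  · exact Or.inl (by rw [h, map_one])
  · exact Or.inr (Or.inl (by rw [h, facG_neg_one]))
  · exact Or.inr (Or.inr ⟨l, p, r, hp, hr, hpr, by rw [h]⟩)
  · exact absurd (h ▸ hx) (refl_notMem hd l ha)
  · rw [h, facG_neg] at hx
    exact absurd (neg_neg (facG l (refG d a)) ▸ neg_mem_og hd hx) (refl_notMem hd l ha)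

/-- The negative of a half turn is a half turn. -/
theorem IsPair.neg (hd : Shape d) {x : G16} (h : IsPair d x) : IsPair d (-x) := by
  obtain ⟨l, p, r, hp, hr, hpr, rfl⟩ := h
  rw [← facG_neg]
  have hmem : facG l (-(refG d p * refG d r)) ∈ Og d := by
    rw [facG_neg]; exact neg_mem_og hd (pair_mem hd l hp hr)
  have hb : ∀ x y, bform d ((-(refG d p * refG d r)) ⬝₄ x) ((-(refG d p * refG d r)) ⬝₄ y) = bform d x y := fun x y => by
    rw [Units.val_neg, Matrix.neg_mulVec, Matrix.neg_mulVec, bneg, bneg_left, neg_neg, bform_refG2 hp hr]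
  have h2 : -(refG d p * refG d r) * -(refG d p * refG d r) = 1 := by
    rw [neg_mul_neg,
      show refG d p * refG d r * (refG d p * refG d r) = refG d p * (refG d r * refG d p) * refG d r by group,
      ← (refG_mul_comm hpr).eq, ← mul_assoc, refG_mul_self, one_mul, refG_mul_self]
  obtain ⟨s, t, hb4⟩ := exists_ob_pair hd hp hr hpr
  rcases slot_invol hd hb h2 hmem with e | e | e
  · rw [← map_one (facG (σ := Fin 2) l)] at e
    have e' := congrArg (fun B : G4 => B ⬝₄ s) (facG_inj l e)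
    simp only [Units.val_neg, Matrix.neg_mulVec, Units.val_one, Matrix.one_mulVec] at e'
    rw [refG2_fix (show bform d p s = 0 from hb4.orth 0 2 (by decide))
      (show bform d r s = 0 from hb4.orth 1 2 (by decide))] at e'
    exact absurd (show (2 : F) • s = 0 by rw [two_smul, ← eq_neg_iff_add_eq_zero]; exact e'.symm)
      (smul_ne_zero hd.two (ne_zero_of_Q (hb4.ne 2)))
  · rw [← facG_neg_one l] at e
    have e' := congrArg (fun B : G4 => B ⬝₄ p) (facG_inj l e)
    simp only [Units.val_neg, Matrix.neg_mulVec, Units.val_one, Matrix.one_mulVec, neg_inj] at e'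
    rw [gl_mul_mulVec, refG_orth ((bform_comm d r p).trans hpr), refG_self hp] at e'
    exact absurd (show (2 : F) • p = 0 by rw [two_smul, ← eq_neg_iff_add_eq_zero]; exact e'.symm)
      (smul_ne_zero hd.two (ne_zero_of_Q hp))
  · exact e

/-- Involutory pure products inside the derived group. -/
theorem pure_invol (hd : Shape d) {A B : G4} (hA : ∀ x y, bform d (A ⬝₄ x) (A ⬝₄ y) = bform d x y) (hA2 : A * A = 1)
    (hB : ∀ x y, bform d (B ⬝₄ x) (B ⬝₄ y) = bform d x y) (hB2 : B * B = 1) {x : G16}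
    (hx : x = facG 0 A * facG 1 B) (hxO : x ∈ Og d) :
    x = 1 ∨ x = -1 ∨ IsPair d x ∨ IsCT d x ∨ IsCT d (-x) ∨ IsDbl d x := by
  rcases invol_cases hd hA hA2 with a1 | a1 | ⟨p, r, hp, hr, hpr, a1⟩ | ⟨a, ha, a1⟩ | ⟨a, ha, a1⟩
  · rw [a1, map_one, one_mul] at hx
    rcases slot_invol hd hB hB2 (hx ▸ hxO) with e | e | e
    exacts [Or.inl (hx.trans e), Or.inr (Or.inl (hx.trans e)), Or.inr (Or.inr (Or.inl (hx ▸ e)))]
  · rw [a1, facG_neg_one, neg_one_mul] at hx
    have hB' : facG (1 : Fin 2) B ∈ Og d := by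
      have := neg_mem_og hd hxO
      rwa [hx, neg_neg] at this
    rcases slot_invol hd hB hB2 hB' with e | e | e
    exacts [Or.inr (Or.inl (by rw [hx, e])), Or.inl (by rw [hx, e, neg_neg]),
      Or.inr (Or.inr (Or.inl (hx ▸ e.neg hd)))]
  · have hP := pair_mem hd 0 hp hr
    have hB' : facG (1 : Fin 2) B ∈ Og d := by
      have h := mul_mem (inv_mem hP) hxO
      rwa [hx, a1, inv_mul_cancel_left] at h
    rcases invol_cases hd hB hB2 with b1 | b1 | ⟨p', r', hp', hr', hpr', b1⟩ | ⟨b, hb, b1⟩ | ⟨b, hb, b1⟩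
    · exact Or.inr (Or.inr (Or.inl ⟨0, p, r, hp, hr, hpr, by rw [hx, a1, b1, map_one, mul_one]⟩))
    · rw [a1, b1, facG_neg_one, mul_neg_one] at hx
      exact Or.inr (Or.inr (Or.inl (hx ▸ IsPair.neg hd ⟨0, p, r, hp, hr, hpr, rfl⟩)))
    · exact Or.inr (Or.inr (Or.inr (Or.inr (Or.inr ⟨p, r, p', r', hp, hr, hpr, hp', hr', hpr', by rw [hx, a1, b1]⟩))))
    · exact absurd (b1 ▸ hB') (refl_notMem hd 1 hb)
    · rw [b1, facG_neg] at hB'
      exact absurd (neg_neg (facG (1 : Fin 2) (refG d b)) ▸ neg_mem_og hd hB') (refl_notMem hd 1 hb)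
  all_goals
    rcases invol_cases hd hB hB2 with b1 | b1 | ⟨p', r', hp', hr', hpr', b1⟩ | ⟨b, hb, b1⟩ | ⟨b, hb, b1⟩
  · exact absurd (by rwa [hx, a1, b1, map_one, mul_one] at hxO) (refl_notMem hd 0 ha)
  · refine absurd ?_ (refl_notMem hd 0 ha)
    have := neg_mem_og hd hxO
    rwa [hx, a1, b1, facG_neg_one, mul_neg_one, neg_neg] at this
  · refine absurd ?_ (refl_notMem hd 0 ha)
    have := mul_mem hxO (inv_mem (pair_mem hd 1 hp' hr'))
    rwa [hx, a1, b1, mul_inv_cancel_right] at this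
  · exact Or.inr (Or.inr (Or.inr (Or.inl ⟨a, b, ha, hb, by rw [hx, a1, b1]⟩)))
  · exact Or.inr (Or.inr (Or.inr (Or.inr (Or.inl ⟨a, b, ha, hb, by rw [hx, a1, b1, facG_neg, mul_neg, neg_neg]⟩))))
  · refine absurd ?_ (refl_notMem hd 0 ha)
    have := neg_mem_og hd hxO
    rwa [hx, a1, b1, facG_neg, map_one, mul_one, neg_neg] at this
  · refine absurd ?_ (refl_notMem hd 0 ha)
    rwa [hx, a1, b1, facG_neg, facG_neg_one, neg_mul_neg, mul_one] at hxO
  · refine absurd ?_ (refl_notMem hd 0 ha)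
    have := mul_mem (neg_mem_og hd hxO) (inv_mem (pair_mem hd 1 hp' hr'))
    rwa [hx, a1, b1, facG_neg, neg_mul (facG (0 : Fin 2) (refG d a)), neg_neg, mul_inv_cancel_right] at this
  · exact Or.inr (Or.inr (Or.inr (Or.inr (Or.inl ⟨a, b, ha, hb, by rw [hx, a1, b1, facG_neg, neg_mul, neg_neg]⟩))))
  · exact Or.inr (Or.inr (Or.inr (Or.inl ⟨a, b, ha, hb, by rw [hx, a1, b1, facG_neg, facG_neg, neg_mul_neg]⟩)))

/-- Scalar slot products. -/
theorem slots_one {M N : G4} (h : facG (0 : Fin 2) M * facG 1 N = 1) :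
    ∃ c : F, c ≠ 0 ∧ (M : M4) = c • 1 ∧ (N : M4) = c⁻¹ • 1 := by
  haveI : NeZero 4 := ⟨by norm_num⟩
  have e : facS (0 : Fin 2) (M : M4) = facS (1 : Fin 2) ((N⁻¹ : G4) : M4) := by
    rw [← facG_val, ← facG_val, eq_inv_of_mul_eq_one_left h, ← map_inv]
  obtain ⟨c, hc⟩ := facS_eq_facS (by decide) e
  have e' : ((N⁻¹ : G4) : M4) = c • 1 := by
    refine facS_inj (1 : Fin 2) ?_
    rw [← e, hc, facS_smul, facS_smul, facS_one, facS_one]
  have hc0 : c ≠ 0 := fun h0 => by
    have := M.isUnit.ne_zero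
    rw [hc, h0, zero_smul] at this
    exact this rfl
  refine ⟨c, hc0, hc, ?_⟩
  have := congrArg (fun K : M4 => (N : M4) * K) e'
  simp only [Units.mul_inv, Matrix.mul_smul, Matrix.mul_one] at this
  rw [eq_inv_smul_iff₀ hc0]
  exact this.symm

theorem slots_eq {A B A' B' : G4} (h : facG (0 : Fin 2) A * facG 1 B = facG 0 A' * facG 1 B') :
    ∃ c : F, c ≠ 0 ∧ (A : M4) = c • (A' : M4) ∧ (B : M4) = c⁻¹ • (B' : M4) := by
  have hc : Commute (facG (0 : Fin 2) A) (facG 1 (B * B'⁻¹)) := facG_commute (by decide) _ _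
  obtain ⟨c, hc0, h1, h2⟩ := slots_one (M := A'⁻¹ * A) (N := B * B'⁻¹) (by
    rw [map_mul, map_mul, map_inv, map_inv, mul_assoc, ← mul_assoc (facG 0 A), h]
    group)
  refine ⟨c, hc0, ?_, ?_⟩
  · have := congrArg (fun K : M4 => (A' : M4) * K) h1
    simpa [Units.val_mul, ← Matrix.mul_assoc] using this
  · have := congrArg (fun K : M4 => K * (B' : M4)) h2
    simpa [Units.val_mul, Matrix.mul_assoc] using this

theorem pureG_eq (A : Fin 2 → G4) : pureG A = facG 0 (A 0) * facG 1 (A 1) := by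
  rw [facG, facG]
  simp only [MonoidHom.comp_apply, ← map_mul]
  congr 1
  funext l
  fin_cases l <;> simp

/-- A rescaled matrix. -/
theorem exists_scaled (A : G4) {α : F} (hα : α ≠ 0) : ∃ A' : G4, (A' : M4) = α • (A : M4) :=
  ⟨⟨α • (A : M4), α⁻¹ • ((A⁻¹ : G4) : M4), by simp [smul_smul, hα], by simp [smul_smul, hα]⟩, rfl⟩

theorem bform_of_Q (hd : Shape d) {A : G4} {ν : F} (h : ∀ y, Qd d (A ⬝₄ y) = ν * Qd d y) (x y : Fin 4 → F) :
    bform d (A ⬝₄ x) (A ⬝₄ y) = ν * bform d x y := by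
  have e := h (x + y)
  rw [Matrix.mulVec_add, ← bform_self, ← bform_self, badd, badd_left, badd_left, badd, badd_left, badd_left,
    bform_self, bform_self, bform_self, bform_self, h, h, bform_comm d (A ⬝₄ y) (A ⬝₄ x), bform_comm d y x] at e
  exact mul_left_cancel₀ hd.two (by linear_combination e)

/-- An element exchanging the slots is no involution of the derived group. -/
theorem swap_invol (hd : Shape d) {A : Fin 2 → G4} {x : G16}
    (hx : x = pureG A * permG 4 F (Equiv.swap (0 : Fin 2) 1)) (hxO : x ∈ Og d) : x * x ≠ 1 := fun hx2 => by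
  obtain ⟨σ, hσ⟩ : ∃ σ, σ = permG 4 F (Equiv.swap (0 : Fin 2) 1) := ⟨_, rfl⟩
  have hσ2 : σ * σ = 1 := by rw [hσ, ← map_mul, Equiv.swap_mul_self, map_one]
  have hperm : ∀ a b : G4, σ * (facG (0 : Fin 2) a * facG 1 b) = facG 0 b * facG 1 a * σ := fun a b => by
    have e := perm_pure (F := F) (Equiv.swap (0 : Fin 2) 1) ![a, b]
    rw [pureG_eq, pureG_eq, ← hσ] at e
    simpa using e
  rw [pureG_eq, ← hσ] at hx
  have hsq : facG (0 : Fin 2) (A 0 * A 1) * facG 1 (A 1 * A 0) = 1 := by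
    rw [hx, show facG (0 : Fin 2) (A 0) * facG 1 (A 1) * σ * (facG 0 (A 0) * facG 1 (A 1) * σ) =
      facG (0 : Fin 2) (A 0) * facG 1 (A 1) * (σ * (facG 0 (A 0) * facG 1 (A 1))) * σ by group, hperm,
      show facG (0 : Fin 2) (A 0) * facG 1 (A 1) * (facG 0 (A 1) * facG 1 (A 0) * σ) * σ =
      facG (0 : Fin 2) (A 0) * facG 1 (A 1) * (facG 0 (A 1) * facG 1 (A 0)) * (σ * σ) by group, hσ2, mul_one,
      (facG_commute (show (1 : Fin 2) ≠ 0 by decide) _ _).mul_mul_mul_comm, ← map_mul, ← map_mul] at hx2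
    exact hx2
  obtain ⟨c, hc0, h1, h2⟩ := slots_one hsq
  have hcc : c = c⁻¹ := by
    have e1 : ((A 1 * A 0 : G4) : M4) = c • 1 := by
      have := congrArg (fun K : M4 => ((A 0)⁻¹ : G4).val * K * (A 0 : M4)) h1
      simpa [Units.val_mul, ← Matrix.mul_assoc] using this
    have := congrFun (congrFun (e1.symm.trans h2) 0) 0
    simpa using this
  have hc1 : c = 1 ∨ c = -1 := mul_self_eq_one_iff.1 (by nth_rewrite 1 [hcc]; exact inv_mul_cancel₀ hc0)
  obtain ⟨φ, hφ⟩ : ∃ φ, φ = facG (0 : Fin 2) (A 0) := ⟨_, rfl⟩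
  have hxφ : x = φ * σ * φ⁻¹ ∨ x = -(φ * σ * φ⁻¹) := by
    have e : φ * σ * φ⁻¹ = facG (0 : Fin 2) (A 0) * facG 1 (A 0)⁻¹ * σ := by
      have := hperm (A 0)⁻¹ 1
      rw [map_one, mul_one, map_one, one_mul] at this
      rw [hφ, ← map_inv, mul_assoc, this, mul_assoc]
    have hA1 : A 1 = (A 0)⁻¹ ∨ A 1 = -(A 0)⁻¹ := by
      rcases hc1 with rfl | rfl
      · left
        exact eq_inv_of_mul_eq_one_right (Units.ext (by rw [h1, one_smul, Units.val_one]))
      · right
        have h' : -A 1 = (A 0)⁻¹ := eq_inv_of_mul_eq_one_right (Units.ext (by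
          rw [mul_neg, Units.val_neg, h1, neg_one_smul, neg_neg, Units.val_one]))
        rw [← h', neg_neg]
    rcases hA1 with h | h
    · exact Or.inl (by rw [hx, h, e])
    · exact Or.inr (by rw [hx, h, e, facG_neg, mul_neg, neg_mul])
  have hxI := og_le hxO
  have hq : ∀ y z, Qd d ((A 0) ⬝₄ z) * Qd d ((A 1) ⬝₄ y) = Qd d y * Qd d z := fun y z => by
    have e := isoD_preserves hd.two hxI (tv y z)
    rw [hx, gl_mul_mulVec, hσ, swap_tv, gl_mul_mulVec, fac1_tv, fac0_tv, QW_tv hd.two, QW_tv hd.two] at e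
    exact e
  obtain ⟨y0, hy0⟩ := exists_aniso hd
  have hy1 : Qd d ((A 1) ⬝₄ y0) ≠ 0 := fun e0 => by
    have := hq y0 y0
    rw [e0, mul_zero] at this
    exact mul_ne_zero hy0 hy0 this.symm
  obtain ⟨ν, hν⟩ : ∃ ν, ν = Qd d y0 / Qd d ((A 1) ⬝₄ y0) := ⟨_, rfl⟩
  have hν0 : ν ≠ 0 := hν ▸ div_ne_zero hy0 hy1
  have hA0 : ∀ z, Qd d ((A 0) ⬝₄ z) = ν * Qd d z := fun z => by
    rw [hν]; field_simp; linear_combination hq y0 z
  have hφQ : ∀ z, Q16 ((φ : M16) *ᵥ z) = ν * Q16 z := fun z => by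
    obtain ⟨b1, hb1⟩ := exists_aniso hd
    obtain ⟨b2, hb2, hb12⟩ := exists_orth_one hd hb1
    obtain ⟨b3, b4, hb⟩ := exists_ob_pair hd hb1 hb2 hb12
    refine mul_left_cancel₀ hd.two ?_
    have h2' : ∀ w, polar Q16 w w = 2 * Q16 w := fun w => by
      rw [QuadraticMap.polar_self, nsmul_eq_mul, Nat.cast_ofNat]
    rw [← h2', ← mul_assoc, mul_comm (2 : F) ν, mul_assoc, ← h2']
    conv_lhs => rw [hb.expand_tv hd.ne z]
    conv_rhs => rw [hb.expand_tv hd.ne z]
    simp only [hφ, Matrix.mulVec_sum, fac0_tv, polarBilin_apply_apply, ← polarBilin_apply_apply, map_sum,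
      LinearMap.coe_sum, Finset.sum_apply, Finset.mul_sum]
    simp only [polarBilin_apply_apply, polar_tv, bform_of_Q hd hA0]
    exact Finset.sum_congr rfl fun i _ => Finset.sum_congr rfl fun j _ => by ring
  have hnot := swap_notMem hd φ hν0 hφQ
  rw [← hσ] at hnot
  rcases hxφ with h | h
  · exact hnot (h ▸ hxO)
  · exact hnot (by have := neg_mem_og hd hxO; rwa [h, neg_neg] at this)

end Cfsg.Agent.Classical.OTPow.Four
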