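/-
Involutions of the standard part commuting with a product of slot reflections, or of non-zero trace.
-/
import Cfsg.Agent.Lib.Classical.OTPow.Four.Invol

set_option autoImplicit false
set_option linter.unusedSectionVars false

namespace Cfsg.Agent.Classical.OTPow.Four

open Matrix QuadraticMap
open Cfsg.Agent.Classical

variable {F : Type*} [Field F] [Fintype F] {d : Fin 4 → F}

local notation "G4" => GL (Fin 4) F
local notation "G16" => GL (Fin 2 → Fin 4) F
local notation "M4" => Matrix (Fin 4) (Fin 4) F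
local notation "M16" => Matrix (Fin 2 → Fin 4) (Fin 2 → Fin 4) F
local notation:max g:max " ⬝₆ " x:max => ((g : G16) : M16) *ᵥ x
local notation "Q16" => QW (wt (σ := Fin 2) d)
local notation:max g:max " ⬝₄ " x:max => ((g : GL (Fin 4) F) : Matrix (Fin 4) (Fin 4) F) *ᵥ x

theorem refG_of_smul (hd : Shape d) {a b : Fin 4 → F} (ha : Qd d a ≠ 0) (hb : Qd d b ≠ 0) {c : F}
    (h : (refG d a : M4) = c • (refG d b : M4)) : c = 1 ∧ refG d a = refG d b := by
  have e := congrArg Matrix.trace h
  rw [trace_refG hd ha, Matrix.trace_smul, trace_refG hd hb, smul_eq_mul] at e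
  have hc : c = 1 := mul_right_cancel₀ hd.two (by linear_combination -e)
  exact ⟨hc, Units.ext (by rw [h, hc, one_smul])⟩

/-- Equal reflections have proportional vectors. -/
theorem refG_eq_vec (hd : Shape d) {a b : Fin 4 → F} (ha : Qd d a ≠ 0) (h : refG d a = refG d b) :
    a = (bform d b a / Qd d b) • b := by
  have e := refG_self (d := d) ha
  rw [h, refG_apply] at e
  refine smul_right_injective (Fin 4 → F) hd.two ?_
  simp only
  rw [smul_smul, two_smul F a]
  have e' : a + a = ((Qd d b)⁻¹ * (2 * bform d b a)) • b := by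
    rw [eq_neg_iff_add_eq_zero] at e
    rw [← sub_eq_zero, ← e]
    abel
  rw [e']
  congr 1
  ring

/-- Equal products of slot reflections have equal reflections. -/
theorem cref_eq (hd : Shape d) {a b a' b' : Fin 4 → F} (ha : Qd d a ≠ 0) (hb : Qd d b ≠ 0) (ha' : Qd d a' ≠ 0)
    (hb' : Qd d b' ≠ 0) (h : cref d a b = cref d a' b') : refG d a = refG d a' ∧ refG d b = refG d b' := by
  obtain ⟨c, -, h1, h2⟩ := slots_eq h
  exact ⟨(refG_of_smul hd ha ha' h1).2, (refG_of_smul hd hb hb' h2).2⟩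

/-- Commuting products of slot reflections. -/
theorem cref_commute_cases (hd : Shape d) {a b a' b' : Fin 4 → F} (ha : Qd d a ≠ 0) (hb : Qd d b ≠ 0)
    (ha' : Qd d a' ≠ 0) (hb' : Qd d b' ≠ 0) (h : Commute (cref d a b) (cref d a' b')) :
    (refG d a = refG d a' ∨ bform d a a' = 0) ∧ (refG d b = refG d b' ∨ bform d b b' = 0) := by
  have hc : ∀ x y : G4, Commute (facG (1 : Fin 2) x) (facG 0 y) := fun x y => facG_commute (by decide) _ _
  have e : facG (0 : Fin 2) (refG d a * refG d a') * facG 1 (refG d b * refG d b') =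
      facG (0 : Fin 2) (refG d a' * refG d a) * facG 1 (refG d b' * refG d b) := by
    rw [map_mul, map_mul, map_mul, map_mul, ← (hc _ _).mul_mul_mul_comm, ← (hc _ _).mul_mul_mul_comm]
    exact h.eq
  obtain ⟨c, -, h1, h2⟩ := slots_eq e
  have key : ∀ x y : Fin 4 → F, Qd d x ≠ 0 → Qd d y ≠ 0 → ∀ c' : F,
      ((refG d x * refG d y : G4) : M4) = c' • ((refG d y * refG d x : G4) : M4) →
      refG d x = refG d y ∨ bform d x y = 0 := fun x y hx hy c' hh => by
    have e1 : ((refG d x * refG d y * refG d x : G4) : M4) = c' • (refG d y : M4) := by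
      rw [Units.val_mul, hh, Matrix.smul_mul, ← Units.val_mul, mul_assoc, refG_mul_self, mul_one]
    have e2 := congrArg Matrix.trace e1
    rw [Units.val_mul, Units.val_mul, Matrix.trace_mul_cycle, ← Units.val_mul, refG_mul_self, Units.val_one,
      Matrix.one_mul, Matrix.trace_smul, trace_refG hd hy, smul_eq_mul] at e2
    have hc' : c' = 1 := mul_right_cancel₀ hd.two (by linear_combination -e2)
    exact refG_commute hd.two hd.ne hx hy (Units.ext (by rw [hh, hc', one_smul]))
  exact ⟨key a a' ha ha' c h1, key b b' hb hb' c⁻¹ h2⟩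

theorem scaled_pair {A B A' B' : G4} {α : F} (hα : α ≠ 0) (hA : (A' : M4) = α⁻¹ • (A : M4))
    (hB : (B' : M4) = α • (B : M4)) : facG (0 : Fin 2) A * facG 1 B = facG 0 A' * facG 1 B' := Units.ext (by
  rw [Units.val_mul, Units.val_mul, facG_val, facG_val, facG_val, facG_val, hA, hB, facS_smul, facS_smul,
    Matrix.smul_mul, Matrix.mul_smul, smul_smul, inv_mul_cancel₀ hα, one_smul])

theorem iso_pure (hd : Shape d) {A B : G4} (h : facG (0 : Fin 2) A * facG 1 B ∈ IsoD (wt (σ := Fin 2) d))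
    (y z : Fin 4 → F) : Qd d (A ⬝₄ y) * Qd d (B ⬝₄ z) = Qd d y * Qd d z := by
  have e := isoD_preserves hd.two h (tv y z)
  rwa [gl_mul_mulVec, fac1_tv, fac0_tv, QW_tv hd.two, QW_tv hd.two] at e

theorem sq_pure {A B : G4} {x : G16} (hx : x = facG (0 : Fin 2) A * facG 1 B) (hx2 : x * x = 1) :
    ∃ c : F, c ≠ 0 ∧ ((A * A : G4) : M4) = c • 1 ∧ ((B * B : G4) : M4) = c⁻¹ • 1 := by
  refine slots_one ?_
  rw [map_mul, map_mul, ← (facG_commute (show (1 : Fin 2) ≠ 0 by decide) _ _).mul_mul_mul_comm, ← hx, hx2]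

/-- An involution of the standard part commuting with a product of slot reflections. -/
theorem invol_comm (hd : Shape d) {x : G16} (hxS : x ∈ Std F 4 (Fin 2)) (hxO : x ∈ Og d) (hx2 : x * x = 1)
    {u w : Fin 4 → F} (hu : Qd d u ≠ 0) (hw : Qd d w ≠ 0) (hc : Commute x (cref d u w)) :
    x = 1 ∨ x = -1 ∨ IsPair d x ∨ IsCT d x ∨ IsCT d (-x) ∨ IsDbl d x := by
  obtain ⟨A, π, hA⟩ := hxS
  rcases ((show ∀ π : Equiv.Perm (Fin 2), π = 1 ∨ π = Equiv.swap 0 1 by decide) π) with rfl | rfl
  swap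
  · exact absurd hx2 (swap_invol hd hA hxO)
  rw [map_one, mul_one, pureG_eq] at hA
  have hcross : ∀ a b : G4, Commute (facG (1 : Fin 2) a) (facG 0 b) := fun a b => facG_commute (by decide) _ _
  have e : facG (0 : Fin 2) (A 0 * refG d u) * facG 1 (A 1 * refG d w) =
      facG (0 : Fin 2) (refG d u * A 0) * facG 1 (refG d w * A 1) := by
    rw [map_mul, map_mul, map_mul, map_mul, ← (hcross _ _).mul_mul_mul_comm, ← (hcross _ _).mul_mul_mul_comm, ← hA]
    exact hc.eq
  obtain ⟨κ, -, h1, -⟩ := slots_eq e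
  have e1 : ((A 0 * refG d u * (A 0)⁻¹ : G4) : M4) = κ • (refG d u : M4) := by
    rw [Units.val_mul, h1, Matrix.smul_mul, ← Units.val_mul, mul_assoc, mul_inv_cancel, mul_one]
  have e2 := congrArg Matrix.trace e1
  rw [Units.val_mul, Units.val_mul, Matrix.trace_mul_cycle, ← Units.val_mul, inv_mul_cancel, Units.val_one,
    Matrix.one_mul, Matrix.trace_smul, trace_refG hd hu, smul_eq_mul] at e2
  have hκ : κ = 1 := mul_right_cancel₀ hd.two (by linear_combination -e2)
  rw [hκ, one_smul] at h1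
  have e3 : (refG d u) ⬝₄ ((A 0) ⬝₄ u) = -((A 0) ⬝₄ u) := by
    rw [← gl_mul_mulVec, ← h1, gl_mul_mulVec, refG_self hu, Matrix.mulVec_neg]
  obtain ⟨α, hα⟩ : ∃ α, α = bform d u ((A 0) ⬝₄ u) / Qd d u := ⟨_, rfl⟩
  have hAu : (A 0) ⬝₄ u = α • u := by
    rw [refG_apply, eq_neg_iff_add_eq_zero] at e3
    refine smul_right_injective (Fin 4 → F) hd.two ?_
    simp only
    rw [hα, smul_smul, two_smul F ((A 0) ⬝₄ u), show 2 * (bform d u ((A 0) ⬝₄ u) / Qd d u) =
      (Qd d u)⁻¹ * (2 * bform d u ((A 0) ⬝₄ u)) by ring, ← sub_eq_zero, ← e3]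
    abel
  have hα0 : α ≠ 0 := fun h0 => by
    rw [h0, zero_smul] at hAu
    exact ne_zero_of_Q hu (by rw [← gl_inv_mulVec_cancel (A 0) u, hAu, Matrix.mulVec_zero])
  obtain ⟨A', hA'⟩ := exists_scaled (A 0) (inv_ne_zero hα0)
  obtain ⟨B', hB'⟩ := exists_scaled (A 1) hα0
  have hx' : x = facG 0 A' * facG 1 B' := hA.trans (scaled_pair hα0 hA' hB')
  have hA'u : A' ⬝₄ u = u := by rw [hA', Matrix.smul_mulVec, hAu, inv_smul_smul₀ hα0]
  have hq := iso_pure hd (hx' ▸ og_le hxO)
  have hBQ : ∀ z, Qd d (B' ⬝₄ z) = 1 * Qd d z := fun z => by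
    have := hq u z
    rw [hA'u] at this
    rw [one_mul]; exact mul_left_cancel₀ hu this
  have hAQ : ∀ y, Qd d (A' ⬝₄ y) = 1 * Qd d y := fun y => by
    have := hq y w
    rw [hBQ, one_mul] at this
    rw [one_mul]; exact mul_right_cancel₀ hw this
  obtain ⟨c, hc0, h3, h4⟩ := sq_pure hx' hx2
  have hc1 : c = 1 := by
    have := congrArg (fun K : M4 => K *ᵥ u) h3
    simp only [Units.val_mul, ← Matrix.mulVec_mulVec, hA'u, Matrix.smul_mulVec, Matrix.one_mulVec] at this
    exact (smul_left_injective F (ne_zero_of_Q hu) ((one_smul F u).trans this)).symm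
  refine pure_invol hd (fun y z => by rw [bform_of_Q hd hAQ, one_mul])
    (Units.ext (by rw [h3, hc1, one_smul, Units.val_one])) (fun y z => by rw [bform_of_Q hd hBQ, one_mul])
    (Units.ext (by rw [h4, hc1, inv_one, one_smul, Units.val_one])) hx' hxO

/-- An involution of the standard part of non-zero trace. -/
theorem invol_trace (hd : Shape d) {x : G16} (hxS : x ∈ Std F 4 (Fin 2)) (hxO : x ∈ Og d) (hx2 : x * x = 1)
    (ht : ((x : G16) : M16).trace ≠ 0) : x = 1 ∨ x = -1 ∨ IsCT d x ∨ IsCT d (-x) := by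
  classical
  obtain ⟨A, π, hA⟩ := hxS
  rcases ((show ∀ π : Equiv.Perm (Fin 2), π = 1 ∨ π = Equiv.swap 0 1 by decide) π) with rfl | rfl
  swap
  · exact absurd hx2 (swap_invol hd hA hxO)
  rw [map_one, mul_one, pureG_eq] at hA
  rw [hA, trace_pair] at ht
  obtain ⟨c, hc0, h3, h4⟩ := sq_pure hA hx2
  have hring : ringChar F ≠ 2 := fun e => hd.two (by
    have := ringChar.Nat.cast_ringChar (R := F)
    rw [e] at this
    simpa using this)
  obtain ⟨α, hα⟩ : IsSquare c := by
    by_contra hns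
    have hodd := FiniteField.odd_card_of_char_ne_two hring
    have hh : c ^ (Fintype.card F / 2) = -1 :=
      (FiniteField.pow_dichotomy hring hc0).resolve_left fun e => hns ((FiniteField.isSquare_iff hring hc0).2 e)
    have hq : ((A 0 : G4) : M4) ^ Fintype.card F = -((A 0 : G4) : M4) := by
      conv_lhs => rw [show Fintype.card F = 2 * (Fintype.card F / 2) + 1 by omega]
      rw [pow_succ, pow_mul, pow_two, ← Units.val_mul, h3, smul_pow, one_pow, hh, neg_one_smul, neg_one_mul]
    have := FiniteField.trace_pow_card ((A 0 : G4) : M4)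
    rw [hq, Matrix.trace_neg, FiniteField.pow_card] at this
    refine ht ?_
    have h0 : ((A 0 : G4) : M4).trace = 0 :=
      (mul_eq_zero.1 (show 2 * ((A 0 : G4) : M4).trace = 0 by linear_combination -this)).resolve_left hd.two
    rw [h0, zero_mul]
  have hα0 : α ≠ 0 := fun h0 => hc0 (by rw [hα, h0, mul_zero])
  obtain ⟨A', hA'⟩ := exists_scaled (A 0) (inv_ne_zero hα0)
  obtain ⟨B', hB'⟩ := exists_scaled (A 1) hα0
  have hx' : x = facG 0 A' * facG 1 B' := hA.trans (scaled_pair hα0 hA' hB')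
  have hA2 : A' * A' = 1 := Units.ext (by
    rw [Units.val_mul, hA', Matrix.smul_mul, Matrix.mul_smul, smul_smul, ← Units.val_mul, h3, smul_smul, hα,
      show α⁻¹ * α⁻¹ * (α * α) = 1 by field_simp, one_smul, Units.val_one])
  have hB2 : B' * B' = 1 := Units.ext (by
    rw [Units.val_mul, hB', Matrix.smul_mul, Matrix.mul_smul, smul_smul, ← Units.val_mul, h4, smul_smul, hα,
      show α * α * (α * α)⁻¹ = 1 by field_simp, one_smul, Units.val_one])
  have htA : (A' : M4).trace ≠ 0 := by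
    rw [hA', Matrix.trace_smul, smul_eq_mul]
    exact mul_ne_zero (inv_ne_zero hα0) (left_ne_zero_of_mul ht)
  have hq := iso_pure hd (hx' ▸ og_le hxO)
  obtain ⟨z0, hz0⟩ := exists_aniso hd
  have hz1 : Qd d (B' ⬝₄ z0) ≠ 0 := fun e0 => by
    have := hq z0 z0
    rw [e0, mul_zero] at this
    exact mul_ne_zero hz0 hz0 this.symm
  obtain ⟨ν, hν⟩ : ∃ ν, ν = Qd d z0 / Qd d (B' ⬝₄ z0) := ⟨_, rfl⟩
  have hAQ : ∀ y, Qd d (A' ⬝₄ y) = ν * Qd d y := fun y => by
    rw [hν]; field_simp; linear_combination hq y z0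
  have hν2 : ν * ν = 1 := by
    have e := hAQ (A' ⬝₄ z0)
    rw [← gl_mul_mulVec, hA2, Units.val_one, Matrix.one_mulVec, hAQ, ← mul_assoc] at e
    exact mul_right_cancel₀ hz0 (by rw [one_mul]; exact e.symm)
  rcases mul_self_eq_one_iff.1 hν2 with hν1 | hν1
  swap
  · refine absurd ?_ htA
    rw [Matrix.trace]
    refine Finset.sum_eq_zero fun i _ => ?_
    have e := bform_of_Q hd hAQ (Pi.single i 1) (A' ⬝₄ (Pi.single i 1))
    rw [← gl_mul_mulVec, hA2, Units.val_one, Matrix.one_mulVec, hν1, bform_comm d (Pi.single i 1) (A' ⬝₄ _)] at e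
    have e' : bform d (A' ⬝₄ (Pi.single i 1)) (Pi.single i 1) = 0 :=
      (mul_eq_zero.1 (show 2 * bform d (A' ⬝₄ (Pi.single i 1)) (Pi.single i 1) = 0 by linear_combination e)).resolve_left
        hd.two
    rw [bsingle, Matrix.mulVec_single_one] at e'
    exact (mul_eq_zero.1 e').resolve_left (hd.ne i)
  have hBQ : ∀ z, Qd d (B' ⬝₄ z) = 1 * Qd d z := fun z => by
    have := hq z0 z
    rw [hAQ, hν1, one_mul] at this
    rw [one_mul]; exact mul_left_cancel₀ hz0 this
  rcases pure_invol hd (fun y z => by rw [bform_of_Q hd hAQ, hν1, one_mul]) hA2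
      (fun y z => by rw [bform_of_Q hd hBQ, one_mul]) hB2 hx' hxO with h | h | h | h | h | h
  · exact Or.inl h
  · exact Or.inr (Or.inl h)
  · exact absurd h.trace (by rw [hA, trace_pair]; exact ht)
  · exact Or.inr (Or.inr (Or.inl h))
  · exact Or.inr (Or.inr (Or.inr h))
  · exact absurd h.trace (by rw [hA, trace_pair]; exact ht)

/-- A half turn commuting with a reflection has the vector in its plane or off it. -/
theorem pair_through (hd : Shape d) {p r w : Fin 4 → F} (hp : Qd d p ≠ 0) (hr : Qd d r ≠ 0) (hpr : bform d p r = 0)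
    (hw : Qd d w ≠ 0) (h : (refG d p * refG d r) ⬝₄ w = -w) :
    ∃ f, Qd d f ≠ 0 ∧ bform d w f = 0 ∧ refG d p * refG d r = refG d w * refG d f := by
  obtain ⟨s, t, hb⟩ := exists_ob_pair hd hp hr hpr
  have hs : bform d w s = 0 ∧ bform d w t = 0 := by
    have key : ∀ z, bform d p z = 0 → bform d r z = 0 → bform d w z = 0 := fun z h1 h2' => by
      have e := bform_refG2 hp hr w z
      rw [h, refG2_fix h1 h2', bneg_left] at e
      exact (mul_eq_zero.1 (show 2 * bform d w z = 0 by linear_combination -e)).resolve_left hd.two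
    exact ⟨key s (hb.orth 0 2 (by decide)) (hb.orth 1 2 (by decide)),
      key t (hb.orth 0 3 (by decide)) (hb.orth 1 3 (by decide))⟩
  obtain ⟨x, hx⟩ : ∃ x, x = bform d p w / Qd d p := ⟨_, rfl⟩
  obtain ⟨y, hy⟩ : ∃ y, y = bform d r w / Qd d r := ⟨_, rfl⟩
  have hwe : w = x • p + y • r := by
    conv_lhs => rw [hb.expand w]
    simp [Fin.sum_univ_four, bform_comm d s w, bform_comm d t w, hs.1, hs.2, hx, hy]
  obtain ⟨f, hf⟩ : ∃ f, f = (-(y * Qd d r)) • p + (x * Qd d p) • r := ⟨_, rfl⟩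
  have hQw : Qd d w = x * x * Qd d p + y * y * Qd d r := by
    rw [← bform_self]
    conv_lhs => rw [hwe]
    simp only [badd, badd_left, bsmul, bsmul_left]
    simp only [bform_self, hpr, bform_comm d r p]
    ring
  have hQf : Qd d f = Qd d p * Qd d r * Qd d w := by
    rw [← bform_self, hf, hQw]
    simp only [badd, badd_left, bsmul, bsmul_left]
    simp only [bform_self, hpr, bform_comm d r p]
    ring
  have hf0 : Qd d f ≠ 0 := by rw [hQf]; exact mul_ne_zero (mul_ne_zero hp hr) hw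
  have hwf : bform d w f = 0 := by
    rw [hwe, hf]
    simp only [badd, badd_left, bsmul, bsmul_left]
    simp only [bform_self, hpr, bform_comm d r p]
    ring
  refine ⟨f, hf0, hwf, hb.ext4 fun i => ?_⟩
  have hwp : bform d w p = x * Qd d p := by
    rw [hwe, badd_left, bsmul_left, bsmul_left, bform_self, bform_comm d r p, hpr]; ring
  have hwr : bform d w r = y * Qd d r := by
    rw [hwe, badd_left, bsmul_left, bsmul_left, bform_self, hpr]; ring
  have hfp : bform d f p = -(y * Qd d r) * Qd d p := by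
    rw [hf, badd_left, bsmul_left, bsmul_left, bform_self, bform_comm d r p, hpr]; ring
  have hfr : bform d f r = x * Qd d p * Qd d r := by
    rw [hf, badd_left, bsmul_left, bsmul_left, bform_self, hpr]; ring
  have hD : x * x * Qd d p + y * y * Qd d r ≠ 0 := hQw ▸ hw
  fin_cases i
  · show (refG d p * refG d r) ⬝₄ p = (refG d w * refG d f) ⬝₄ p
    rw [gl_mul_mulVec, gl_mul_mulVec, refG_orth ((bform_comm d r p).trans hpr), refG_self hp, refG_apply f, hfp, hQf,
      Matrix.mulVec_sub, Matrix.mulVec_smul, refG_orth hwf, refG_apply w, hwp, hf]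
    obtain ⟨N, hN⟩ : ∃ N, N = Qd d w := ⟨_, rfl⟩
    have hN0 : N ≠ 0 := hN ▸ hw
    rw [← hN] at hQw ⊢
    conv_rhs => rw [hwe]
    match_scalars <;> field_simp
    all_goals rw [hQw]; ring
  · show (refG d p * refG d r) ⬝₄ r = (refG d w * refG d f) ⬝₄ r
    rw [gl_mul_mulVec, gl_mul_mulVec, refG_self hr, Matrix.mulVec_neg, refG_orth hpr, refG_apply f, hfr, hQf,
      Matrix.mulVec_sub, Matrix.mulVec_smul, refG_orth hwf, refG_apply w, hwr, hf]
    obtain ⟨N, hN⟩ : ∃ N, N = Qd d w := ⟨_, rfl⟩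
    have hN0 : N ≠ 0 := hN ▸ hw
    rw [← hN] at hQw ⊢
    conv_rhs => rw [hwe]
    match_scalars <;> field_simp
    all_goals rw [hQw]; ring
  · show (refG d p * refG d r) ⬝₄ s = (refG d w * refG d f) ⬝₄ s
    rw [refG2_fix (show bform d p s = 0 from hb.orth 0 2 (by decide)) (show bform d r s = 0 from hb.orth 1 2 (by decide)),
      refG2_fix hs.1 (by rw [hf, badd_left, bsmul_left, bsmul_left, show bform d p s = 0 from hb.orth 0 2 (by decide),
        show bform d r s = 0 from hb.orth 1 2 (by decide)]; ring)]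
  · show (refG d p * refG d r) ⬝₄ t = (refG d w * refG d f) ⬝₄ t
    rw [refG2_fix (show bform d p t = 0 from hb.orth 0 3 (by decide)) (show bform d r t = 0 from hb.orth 1 3 (by decide)),
      refG2_fix hs.2 (by rw [hf, badd_left, bsmul_left, bsmul_left, show bform d p t = 0 from hb.orth 0 3 (by decide),
        show bform d r t = 0 from hb.orth 1 3 (by decide)]; ring)]

end Cfsg.Agent.Classical.OTPow.Four
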