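/-
Square roots of half turns: the two kinds of half turns, and no half turn is conjugate to a product of two.
-/
import Cfsg.Agent.Lib.Classical.OTPow.Four.InvolStd

set_option autoImplicit false
set_option linter.unusedSectionVars false

namespace Cfsg.Agent.Classical.OTPow.Four

open Matrix QuadraticMap
open Cfsg.Agent.Classical

variable {F : Type*} [Field F] [Fintype F] {d : Fin 4 → F} {X : Subgroup (GL (Fin 2 → Fin 4) F)}

local notation "G4" => GL (Fin 4) F
local notation "G16" => GL (Fin 2 → Fin 4) F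
local notation "M4" => Matrix (Fin 4) (Fin 4) F
local notation "M16" => Matrix (Fin 2 → Fin 4) (Fin 2 → Fin 4) F
local notation:max g:max " ⬝₆ " x:max => ((g : G16) : M16) *ᵥ x
local notation "Q16" => QW (wt (σ := Fin 2) d)
local notation:max g:max " ⬝₄ " x:max => ((g : GL (Fin 4) F) : Matrix (Fin 4) (Fin 4) F) *ᵥ x

theorem nsq_mul (h2 : (2 : F) ≠ 0) {a b : F} (ha : ¬ IsSquare a) (hb : ¬ IsSquare b) : IsSquare (a * b) := by
  classical
  have hring : ringChar F ≠ 2 := fun e => h2 (by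
    have := ringChar.Nat.cast_ringChar (R := F)
    rw [e] at this
    simpa using this)
  have ha0 : a ≠ 0 := fun e => ha (e ▸ IsSquare.zero)
  have hb0 : b ≠ 0 := fun e => hb (e ▸ IsSquare.zero)
  refine (FiniteField.isSquare_iff hring (mul_ne_zero ha0 hb0)).2 ?_
  rw [mul_pow, (FiniteField.pow_dichotomy hring ha0).resolve_left fun e => ha ((FiniteField.isSquare_iff hring ha0).2 e),
    (FiniteField.pow_dichotomy hring hb0).resolve_left fun e => hb ((FiniteField.isSquare_iff hring hb0).2 e),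
    neg_mul_neg, one_mul]

/-- A square root of an element, trivial on its fixed vectors. -/
def IsRoot (X : Subgroup (GL (Fin 2 → Fin 4) F)) (x s : GL (Fin 2 → Fin 4) F) : Prop :=
  s ∈ X ∧ s * s = x ∧ ∀ z, x ⬝₆ z = z → s ⬝₆ z = z

/-- The exchange of the slots. -/
abbrev sw (F : Type*) [Field F] : GL (Fin 2 → Fin 4) F := permG 4 F (Equiv.swap (0 : Fin 2) 1)

/-- The conjugate overgroup. -/
abbrev swX (X : Subgroup (GL (Fin 2 → Fin 4) F)) : Subgroup (GL (Fin 2 → Fin 4) F) :=
  X.comap (MulAut.conj (sw F)).toMonoidHom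

theorem sw_sq : sw F * sw F = (1 : G16) := by rw [← map_mul, Equiv.swap_mul_self, map_one]

theorem sw_inv : (sw F)⁻¹ = sw F := inv_eq_of_mul_eq_one_left sw_sq

theorem sw_fac (l : Fin 2) (A : G4) : sw F * facG l A * sw F = facG (Equiv.swap (0 : Fin 2) 1 l) A := by
  have e := std_facG (1 : Fin 2 → G4) (Equiv.swap (0 : Fin 2) 1) l A
  rw [map_one, one_mul, Pi.one_apply, one_mul, inv_one, mul_one] at e
  rwa [show (permG 4 F (Equiv.swap (0 : Fin 2) 1))⁻¹ = sw F from sw_inv] at e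

theorem mem_swX {x : G16} : x ∈ swX X ↔ sw F * x * sw F ∈ X := by
  rw [Subgroup.mem_comap]
  show sw F * x * (sw F)⁻¹ ∈ X ↔ _
  rw [sw_inv]

theorem IsRoot.conj {x s g : G16} (h : IsRoot X x s) (hg : g ∈ X) : IsRoot X (g * x * g⁻¹) (g * s * g⁻¹) := by
  refine ⟨mul_mem (mul_mem hg h.1) (inv_mem hg), by rw [← h.2.1]; group, fun z hz => ?_⟩
  rw [gl_mul_mulVec, gl_mul_mulVec] at hz ⊢
  have e : x ⬝₆ (g⁻¹ ⬝₆ z) = g⁻¹ ⬝₆ z := by
    have := congrArg (fun v => g⁻¹ ⬝₆ v) hz
    simpa [gl_inv_mulVec_cancel] using this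
  rw [h.2.2 _ e, gl_mulVec_inv_cancel]

theorem IsRoot.swap {x s : G16} (h : IsRoot X x s) : IsRoot (swX X) (sw F * x * sw F) (sw F * s * sw F) := by
  have hc : ∀ y : G16, sw F * (sw F * y * sw F) * sw F = y := fun y => by
    rw [show sw F * (sw F * y * sw F) * sw F = (sw F * sw F) * y * (sw F * sw F) by group, sw_sq, one_mul, mul_one]
  refine ⟨mem_swX.2 (by rw [hc]; exact h.1), ?_, fun z hz => ?_⟩
  · rw [show sw F * s * sw F * (sw F * s * sw F) = sw F * s * (sw F * sw F) * s * sw F by group, sw_sq, mul_one,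
      show sw F * s * s * sw F = sw F * (s * s) * sw F by group, h.2.1]
  · rw [gl_mul_mulVec, gl_mul_mulVec] at hz ⊢
    have e : x ⬝₆ ((sw F) ⬝₆ z) = (sw F) ⬝₆ z := by
      have := congrArg (fun v => (sw F) ⬝₆ v) hz
      rwa [← gl_mul_mulVec (sw F) (sw F), sw_sq, Units.val_one, Matrix.one_mulVec] at this
    rw [h.2.2 _ e, ← gl_mul_mulVec, sw_sq, Units.val_one, Matrix.one_mulVec]

theorem swX_swX : swX (swX X) = X := by
  ext x
  rw [mem_swX, mem_swX, show sw F * (sw F * x * sw F) * sw F = (sw F * sw F) * x * (sw F * sw F) by group, sw_sq,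
    one_mul, mul_one]

variable (H : Hyp d X)

include H in
theorem Hyp.swX' : Hyp d (swX X) := H.swapped

/-- The opposite half turn. -/
theorem neg_pair_eq {p r s t : Fin 4 → F} (hb : OB d ![p, r, s, t]) :
    -(refG d p * refG d r) = refG d s * refG d t := by
  have hp : Qd d p ≠ 0 := hb.ne 0
  have hr : Qd d r ≠ 0 := hb.ne 1
  have hs : Qd d s ≠ 0 := hb.ne 2
  have ht : Qd d t ≠ 0 := hb.ne 3
  have pr : bform d p r = 0 := hb.orth 0 1 (by decide)
  have ps : bform d p s = 0 := hb.orth 0 2 (by decide)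
  have pt : bform d p t = 0 := hb.orth 0 3 (by decide)
  have rs : bform d r s = 0 := hb.orth 1 2 (by decide)
  have rt : bform d r t = 0 := hb.orth 1 3 (by decide)
  have st : bform d s t = 0 := hb.orth 2 3 (by decide)
  refine hb.ext4 fun i => ?_
  fin_cases i <;> simp [Units.val_mul, ← Matrix.mulVec_mulVec, Matrix.mulVec_neg, Matrix.neg_mulVec, refG_self hp,
    refG_self hr, refG_self hs, refG_self ht, refG_orth pr, refG_orth ps, refG_orth pt, refG_orth rs, refG_orth rt,
    refG_orth st, refG_orth ((bform_comm d r p).trans pr), refG_orth ((bform_comm d s p).trans ps),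
    refG_orth ((bform_comm d t p).trans pt), refG_orth ((bform_comm d s r).trans rs),
    refG_orth ((bform_comm d t r).trans rt), refG_orth ((bform_comm d t s).trans st)]

theorem OB.kinds (hd : Shape d) {p r s t : Fin 4 → F} (hb : OB d ![p, r, s, t]) :
    IsSquare (Qd d p * Qd d r) ↔ ¬ IsSquare (Qd d s * Qd d t) := by
  have hdisc := hb.disc hd
  simp only [Fin.prod_univ_four, Matrix.cons_val_zero, Matrix.cons_val_one, Matrix.cons_val] at hdisc
  constructor
  · intro h1 h2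
    exact hdisc (by rw [mul_assoc]; exact h1.mul h2)
  · intro h2
    by_contra h1
    exact hdisc (by rw [mul_assoc]; exact nsq_mul hd.two h1 h2)

include H in
/-- A root of a left half turn, and its shape. -/
theorem Hyp.exists_root {p r : Fin 4 → F} (hp : Qd d p ≠ 0) (hr : Qd d r ≠ 0) (hpr : bform d p r = 0)
    (hsq : IsSquare (Qd d p * Qd d r)) :
    ∃ R, IsRoot X (facG (0 : Fin 2) (refG d p * refG d r)) (facG (0 : Fin 2) R) := by
  have hd := H.shape
  have h2 := hd.two
  obtain ⟨m, hm⟩ := hsq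
  obtain ⟨ρ, hρ⟩ : ∃ ρ, ρ = -(Qd d r / Qd d p) := ⟨_, rfl⟩
  obtain ⟨c, hc⟩ : ∃ c, c = m / Qd d r := ⟨_, rfl⟩
  have hQr : Qd d r = -(ρ * Qd d p) := by rw [hρ]; field_simp
  have hc2 : ρ * (c * c) = -1 := by
    rw [hρ, hc]; field_simp; linear_combination hm
  have hN : 1 - ρ * (c * c) = 2 := by rw [hc2]; ring
  obtain ⟨s, t, hb⟩ := exists_ob_pair hd hp hr hpr
  obtain ⟨hQo, e1, e2⟩ := rot_plane hd hp hpr hQr (c := c) (by rw [hN]; exact h2)
  rw [hN, div_self h2, sub_self, zero_smul, zero_add, mul_div_cancel_left₀ _ h2] at e1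
  rw [hN, div_self h2, sub_self, zero_smul, add_zero, mul_div_cancel_left₀ _ h2] at e2
  obtain ⟨R, hR⟩ : ∃ R, R = refG d p * refG d (p + c • r) := ⟨_, rfl⟩
  rw [← hR] at e1 e2
  have hfix : ∀ z, bform d p z = 0 → bform d r z = 0 → R ⬝₄ z = z := fun z h1 h2' =>
    hR ▸ refG2_fix h1 (by rw [badd_left, bsmul_left, h1, h2']; ring)
  have hps : bform d p s = 0 := hb.orth 0 2 (by decide)
  have hrs : bform d r s = 0 := hb.orth 1 2 (by decide)
  have hpt : bform d p t = 0 := hb.orth 0 3 (by decide)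
  have hrt : bform d r t = 0 := hb.orth 1 3 (by decide)
  have hsq2 : R * R = refG d p * refG d r := hb.ext4 fun i => by
    fin_cases i
    · show (R * R) ⬝₄ p = (refG d p * refG d r) ⬝₄ p
      rw [gl_mul_mulVec, e1, Matrix.mulVec_smul, e2, smul_smul, gl_mul_mulVec,
        refG_orth ((bform_comm d r p).trans hpr), refG_self hp, show -c * (ρ * -c) = -1 by linear_combination hc2,
        neg_one_smul]
    · show (R * R) ⬝₄ r = (refG d p * refG d r) ⬝₄ r
      rw [gl_mul_mulVec, e2, Matrix.mulVec_smul, e1, smul_smul, gl_mul_mulVec, refG_self hr, Matrix.mulVec_neg,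
        refG_orth hpr, show ρ * -c * -c = -1 by linear_combination hc2, neg_one_smul]
    · show (R * R) ⬝₄ s = (refG d p * refG d r) ⬝₄ s
      rw [gl_mul_mulVec, hfix s hps hrs, hfix s hps hrs, refG2_fix hps hrs]
    · show (R * R) ⬝₄ t = (refG d p * refG d r) ⬝₄ t
      rw [gl_mul_mulVec, hfix t hpt hrt, hfix t hpt hrt, refG2_fix hpt hrt]
  refine ⟨R, hR ▸ H.rot_mem 0 hp hQo, by rw [← map_mul, hsq2], fun z hz => ?_⟩
  rw [hb.expand_tv hd.ne z, Matrix.mulVec_sum] at hz
  -- the fixed vectors live over the orthogonal plane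
  have hcoef : ∀ i, i = 0 ∨ i = 1 → ctl d ((![p, r, s, t] : Fin 4 → Fin 4 → F) i) z = 0 := fun i hi => by
    have hPi : (refG d p * refG d r) ⬝₄ ((![p, r, s, t] : Fin 4 → Fin 4 → F) i) =
        -((![p, r, s, t] : Fin 4 → Fin 4 → F) i) := by
      rcases hi with rfl | rfl
      · show (refG d p * refG d r) ⬝₄ p = -p
        rw [gl_mul_mulVec, refG_orth ((bform_comm d r p).trans hpr), refG_self hp]
      · show (refG d p * refG d r) ⬝₄ r = -r
        rw [gl_mul_mulVec, refG_self hr, Matrix.mulVec_neg, refG_orth hpr]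
    have hsym := congrArg (ctl d ((![p, r, s, t] : Fin 4 → Fin 4 → F) i)) hz
    have hlin : ∀ w : Fin 4 → (Fin 2 → Fin 4) → F,
        ctl d ((![p, r, s, t] : Fin 4 → Fin 4 → F) i) (∑ j, w j) = ∑ j, ctl d ((![p, r, s, t] : Fin 4 → Fin 4 → F) i) (w j) :=
      fun w => by simp [Fin.sum_univ_four, ctl_add]
    rw [hlin, hlin] at hsym
    simp only [fac0_tv, ctl_tv] at hsym
    rw [Finset.sum_eq_single i (fun j _ hj => ?_) (by simp), Finset.sum_eq_single i (fun j _ hj => by
      rw [hb.orth i j hj.symm, zero_smul]) (by simp), hPi, bneg, bform_self, smul_smul, smul_smul, neg_mul,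
      mul_inv_cancel₀ (hb.ne i), neg_one_smul, one_smul] at hsym
    · refine (smul_eq_zero.1 (show (2 : F) • ctl d ((![p, r, s, t] : Fin 4 → Fin 4 → F) i) z = 0 by
        rw [two_smul]; exact eq_neg_iff_add_eq_zero.1 hsym.symm)).resolve_left h2
    · have hj' : ∀ j, bform d ((![p, r, s, t] : Fin 4 → Fin 4 → F) i) j = 0 →
          bform d ((![p, r, s, t] : Fin 4 → Fin 4 → F) i) ((refG d p * refG d r) ⬝₄ j) = 0 := fun j h0 => by
        rw [← neg_neg ((![p, r, s, t] : Fin 4 → Fin 4 → F) i), ← hPi, bneg_left, bform_refG2 hp hr, h0, neg_zero]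
      rw [hj' _ (hb.orth i j hj.symm), zero_smul]
  conv_lhs => rw [hb.expand_tv hd.ne z]
  conv_rhs => rw [hb.expand_tv hd.ne z]
  rw [Matrix.mulVec_sum]
  refine Finset.sum_congr rfl fun i _ => ?_
  rw [fac0_tv]
  fin_cases i
  · simp [show ctl d p z = 0 from hcoef 0 (Or.inl rfl), tv_zero']
  · simp [show ctl d r z = 0 from hcoef 1 (Or.inr rfl), tv_zero']
  · simp [hfix s hps hrs]
  · simp [hfix t hpt hrt]

include H in
/-- Roots of a left half turn. -/
theorem Hyp.root_form {p r s t : Fin 4 → F} (hb : OB d ![p, r, s, t]) {ρ : F} (hρ : Qd d r = -(ρ * Qd d p)) {k : G16}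
    (hk : IsRoot X (facG (0 : Fin 2) (refG d p * refG d r)) k) :
    ∃ β : F, ρ * (β * β) = -1 ∧ ∀ y, k ⬝₆ (tv p y) = tv (β • r) y ∧ k ⬝₆ (tv r y) = tv ((ρ * β) • p) y ∧
      k ⬝₆ (tv s y) = tv s y ∧ k ⬝₆ (tv t y) = tv t y := by
  have hd := H.shape
  have h2 := hd.two
  have hp : Qd d p ≠ 0 := hb.ne 0
  have hr : Qd d r ≠ 0 := hb.ne 1
  have hfix : ∀ z, bform d p z = 0 → bform d r z = 0 → ∀ y, k ⬝₆ (tv z y) = tv z y := fun z h1 h2' y =>
    hk.2.2 _ (by rw [fac0_tv, refG2_fix h1 h2'])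
  have hs := hfix s (hb.orth 0 2 (by decide)) (hb.orth 1 2 (by decide))
  have ht := hfix t (hb.orth 0 3 (by decide)) (hb.orth 1 3 (by decide))
  obtain ⟨α, β, hn, hkk⟩ := H.fix_rot hb hρ hk.1 hs ht
  have e := congrArg (fun g : G16 => g ⬝₆ (tv p p)) hk.2.1
  rw [gl_mul_mulVec, (hkk p).1, tv_add, tv_smul, tv_smul, Matrix.mulVec_add, Matrix.mulVec_smul, Matrix.mulVec_smul,
    (hkk p).1, (hkk p).2, fac0_tv, gl_mul_mulVec, refG_orth ((bform_comm d r p).trans (hb.orth 0 1 (by decide))),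
    refG_self hp] at e
  simp only [tv_add, tv_smul, smul_add, smul_smul, tv_neg] at e
  have e1 := congrArg (fun z => bform d (ctl d p z) p) e
  have e2 := congrArg (fun z => bform d (ctl d r z) p) e
  have hrp : bform d r p = 0 := (bform_comm d r p).trans (hb.orth 0 1 (by decide))
  have hpr : bform d p r = 0 := hb.orth 0 1 (by decide)
  rw [← neg_one_smul F (tv p p)] at e e1 e2
  simp only [ctl_add, ctl_smul, ctl_tv, bform_self, hrp, hpr, zero_smul, smul_zero, add_zero, zero_add, badd_left,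
    bsmul_left, bzero_left, mul_zero] at e1 e2
  have f1 : α * α + β * (ρ * β) = -1 := mul_right_cancel₀ (mul_ne_zero hp hp) (by linear_combination e1)
  have f2 : α * β + β * α = 0 := mul_right_cancel₀ (mul_ne_zero hr hp) (by linear_combination e2)
  have hα : α = 0 := by
    have : α * α = 0 := (mul_eq_zero.1 (show 2 * (α * α) = 0 by linear_combination f1 + hn)).resolve_left h2
    exact mul_self_eq_zero.1 this
  subst hα
  refine ⟨β, by linear_combination f1, fun y => ⟨?_, ?_, hs y, ht y⟩⟩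
  · rw [(hkk y).1, zero_smul, zero_add]
  · rw [(hkk y).2, zero_smul, add_zero]

/-- A root exists. -/
def Rooted (X : Subgroup (GL (Fin 2 → Fin 4) F)) (x : GL (Fin 2 → Fin 4) F) : Prop := ∃ s, IsRoot X x s

theorem Rooted.conj {x g : G16} (h : Rooted X x) (hg : g ∈ X) : Rooted X (g * x * g⁻¹) := ⟨_, h.choose_spec.conj hg⟩

theorem rooted_conj_iff {x g : G16} (hg : g ∈ X) : Rooted X (g * x * g⁻¹) ↔ Rooted X x := by
  refine ⟨fun h => ?_, fun h => h.conj hg⟩
  have := h.conj (inv_mem hg)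
  rwa [show g⁻¹ * (g * x * g⁻¹) * g⁻¹⁻¹ = x by group] at this

theorem rooted_swap {x : G16} : Rooted (swX X) (sw F * x * sw F) ↔ Rooted X x := by
  refine ⟨fun ⟨s, hs⟩ => ?_, fun ⟨s, hs⟩ => ⟨_, hs.swap⟩⟩
  have := hs.swap
  rw [swX_swX, show sw F * (sw F * x * sw F) * sw F = (sw F * sw F) * x * (sw F * sw F) by group, sw_sq, one_mul,
    mul_one] at this
  exact ⟨_, this⟩

include H in
/-- A half turn has a root exactly when its plane has square discriminant. -/
theorem Hyp.rooted_iff (l : Fin 2) {p r : Fin 4 → F} (hp : Qd d p ≠ 0) (hr : Qd d r ≠ 0) (hpr : bform d p r = 0) :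
    Rooted X (facG l (refG d p * refG d r)) ↔ IsSquare (Qd d p * Qd d r) := by
  have main : ∀ {Y : Subgroup G16}, Hyp d Y →
      (Rooted Y (facG (0 : Fin 2) (refG d p * refG d r)) ↔ IsSquare (Qd d p * Qd d r)) := fun {Y} HY => by
    refine ⟨fun ⟨k, hk⟩ => ?_, fun h => ?_⟩
    · obtain ⟨s, t, hb⟩ := exists_ob_pair HY.shape hp hr hpr
      obtain ⟨β, hβ, -⟩ := HY.root_form hb (ρ := -(Qd d r / Qd d p)) (by field_simp) hk
      refine ⟨Qd d r * β, ?_⟩
      field_simp at hβ
      linear_combination (Qd d r) * hβ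
    · obtain ⟨R, hR⟩ := HY.exists_root hp hr hpr h
      exact ⟨_, hR⟩
  rcases (show l = 0 ∨ l = 1 by omega) with rfl | rfl
  · exact main H
  · rw [← rooted_swap, sw_fac, Equiv.swap_apply_right]
    exact main H.swX'

include H in
/-- Two roots of a half turn are equal or inverse. -/
theorem Hyp.roots_eq {x : G16} (hx : IsPair d x) {k k' : G16} (hk : IsRoot X x k) (hk' : IsRoot X x k') :
    k' = k ∨ k' = k⁻¹ := by
  have main : ∀ {Y : Subgroup G16}, Hyp d Y → ∀ p r, Qd d p ≠ 0 → Qd d r ≠ 0 → bform d p r = 0 → ∀ a b : G16,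
      IsRoot Y (facG (0 : Fin 2) (refG d p * refG d r)) a → IsRoot Y (facG (0 : Fin 2) (refG d p * refG d r)) b →
      b = a ∨ b = a⁻¹ := fun {Y} HY p r hp hr hpr a b ha hb' => by
    obtain ⟨s, t, hb⟩ := exists_ob_pair HY.shape hp hr hpr
    obtain ⟨β, hβ, ea⟩ := HY.root_form hb (ρ := -(Qd d r / Qd d p)) (by field_simp) ha
    obtain ⟨γ, hγ, eb⟩ := HY.root_form hb (ρ := -(Qd d r / Qd d p)) (by field_simp) hb'
    have hρ0 : -(Qd d r / Qd d p) ≠ 0 := neg_ne_zero.2 (div_ne_zero hr hp)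
    have hsq : γ * γ = β * β := mul_left_cancel₀ hρ0 (hγ.trans hβ.symm)
    rcases mul_self_eq_mul_self_iff.1 hsq with h | h
    · refine Or.inl (hb.gl_ext HY.shape.ne fun i y => ?_)
      fin_cases i
      · simp [(ea y).1, (eb y).1, h]
      · simp [(ea y).2.1, (eb y).2.1, h]
      · simp [(ea y).2.2.1, (eb y).2.2.1]
      · simp [(ea y).2.2.2, (eb y).2.2.2]
    · refine Or.inr (eq_inv_of_mul_eq_one_left (hb.gl_ext HY.shape.ne fun i y => ?_))
      rw [gl_mul_mulVec, Units.val_one, Matrix.one_mulVec]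
      fin_cases i
      · show b ⬝₆ (a ⬝₆ (tv p y)) = tv p y
        rw [(ea y).1, tv_smul, Matrix.mulVec_smul, (eb y).2.1, ← tv_smul, smul_smul, h,
          show β * (-(Qd d r / Qd d p) * -β) = 1 by linear_combination (-1 : F) * hβ, one_smul]
      · show b ⬝₆ (a ⬝₆ (tv r y)) = tv r y
        rw [(ea y).2.1, tv_smul, Matrix.mulVec_smul, (eb y).1, ← tv_smul, smul_smul, h,
          show -(Qd d r / Qd d p) * β * -β = 1 by linear_combination (-1 : F) * hβ, one_smul]
      · show b ⬝₆ (a ⬝₆ (tv s y)) = tv s y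
        rw [(ea y).2.2.1, (eb y).2.2.1]
      · show b ⬝₆ (a ⬝₆ (tv t y)) = tv t y
        rw [(ea y).2.2.2, (eb y).2.2.2]
  obtain ⟨l, p, r, hp, hr, hpr, rfl⟩ := hx
  rcases (show l = 0 ∨ l = 1 by omega) with rfl | rfl
  · exact main H p r hp hr hpr k k' hk hk'
  · have h1 := hk.swap
    have h2 := hk'.swap
    rw [sw_fac, Equiv.swap_apply_right] at h1 h2
    rcases main H.swX' p r hp hr hpr _ _ h1 h2 with e | e
    · exact Or.inl (mul_left_cancel (mul_right_cancel e))
    · refine Or.inr ?_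
      rw [show (sw F * k * sw F)⁻¹ = (sw F)⁻¹ * k⁻¹ * (sw F)⁻¹ by group, sw_inv] at e
      exact mul_left_cancel (mul_right_cancel e)

include H in
/-- Centralisers of half turns are standard. -/
theorem Hyp.pair_cent {x : G16} (hx : IsPair d x) {g : G16} (hg : g ∈ X) (hc : Commute g x) :
    g ∈ Std F 4 (Fin 2) := by
  have hd := H.shape
  have main : ∀ {Y : Subgroup G16}, Hyp d Y → ∀ p r, Qd d p ≠ 0 → Qd d r ≠ 0 → bform d p r = 0 → ∀ a : G16, a ∈ Y →
      Commute a (facG (0 : Fin 2) (refG d p * refG d r)) → a ∈ Std F 4 (Fin 2) := fun {Y} HY p r hp hr hpr a ha hca => by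
    have plus : ∀ p r, Qd d p ≠ 0 → Qd d r ≠ 0 → bform d p r = 0 → IsSquare (-(Qd d p * Qd d r)) →
        Commute a (facG (0 : Fin 2) (refG d p * refG d r)) → a ∈ Std F 4 (Fin 2) := fun p r hp hr hpr hsq hc' => by
      obtain ⟨ε, c, e, f, hc0, hfr⟩ := exists_fr hd hp hr hpr hsq
      refine HY.pair_std hfr ha ?_
      rwa [show pU d p (c • r) = facG (0 : Fin 2) (refG d p * refG d r) by rw [pU, refG_smul d r hc0]]
    by_cases hsq : IsSquare (-(Qd d p * Qd d r))
    · exact plus p r hp hr hpr hsq hca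
    · obtain ⟨s, t, hb⟩ := exists_ob_pair hd hp hr hpr
      refine plus s t (hb.ne 2) (hb.ne 3) (hb.orth 2 3 (by decide)) ?_ ?_
      · by_contra h
        have h' := nsq_mul hd.two hsq h
        rw [neg_mul_neg] at h'
        have hdisc := hb.disc hd
        simp only [Fin.prod_univ_four, Matrix.cons_val_zero, Matrix.cons_val_one, Matrix.cons_val] at hdisc
        exact hdisc (by rw [mul_assoc]; exact h')
      · rw [← neg_pair_eq hb, facG_neg]
        exact hca.neg_right
  obtain ⟨l, p, r, hp, hr, hpr, rfl⟩ := hx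
  rcases (show l = 0 ∨ l = 1 by omega) with rfl | rfl
  · exact main H p r hp hr hpr g hg hc
  · have hg' : sw F * g * sw F ∈ swX X := mem_swX.2 (by
      rw [show sw F * (sw F * g * sw F) * sw F = (sw F * sw F) * g * (sw F * sw F) by group, sw_sq, one_mul, mul_one]
      exact hg)
    have hc' : Commute (sw F * g * sw F) (facG (0 : Fin 2) (refG d p * refG d r)) := by
      have e := hc.map (MulAut.conj (sw F)).toMonoidHom
      simp only [MulEquiv.coe_toMonoidHom, MulAut.conj_apply, sw_inv, sw_fac, Equiv.swap_apply_right] at e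
      exact e
    have := main H.swX' p r hp hr hpr _ hg' hc'
    rw [show g = sw F * (sw F * g * sw F) * sw F by
      rw [show sw F * (sw F * g * sw F) * sw F = (sw F * sw F) * g * (sw F * sw F) by group, sw_sq, one_mul, mul_one]]
    exact mul_mem (mul_mem (permG_mem _) this) (permG_mem _)

include H in
/-- No half turn is conjugate to a product of two. -/
theorem Hyp.dbl_not_conj {x g : G16} (hx : IsPair d x) (hg : g ∈ X) : ¬ IsDbl d (g * x * g⁻¹) := by
  have hd := H.shape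
  have h2 := hd.two
  have main : ∀ x : G16, IsPair d x → Rooted X x → ¬ IsDbl d (g * x * g⁻¹) := fun x hx ⟨r0, hr0⟩ hD => by
    obtain ⟨p, r, p', r', hp, hr, hpr, hp', hr', hpr', hh⟩ := hD
    obtain ⟨s, t, hb⟩ := exists_ob_pair hd hp hr hpr
    obtain ⟨s', t', hb'⟩ := exists_ob_pair hd hp' hr' hpr'
    -- the left plane may be taken of square discriminant
    obtain ⟨p, r, s, t, p', r', s', t', hb, hb', hsq, hh⟩ : ∃ p r s t p' r' s' t' : Fin 4 → F,
        OB d ![p, r, s, t] ∧ OB d ![p', r', s', t'] ∧ IsSquare (Qd d p * Qd d r) ∧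
        g * x * g⁻¹ = facG 0 (refG d p * refG d r) * facG 1 (refG d p' * refG d r') := by
      by_cases hsq : IsSquare (Qd d p * Qd d r)
      · exact ⟨p, r, s, t, p', r', s', t', hb, hb', hsq, hh⟩
      · have flip : ∀ {a b c e : Fin 4 → F}, OB d ![a, b, c, e] → OB d ![c, e, a, b] := fun {a b c e} h =>
          ob_of_four (h.ne 2) (h.ne 3) (h.ne 0) (h.ne 1) (h.orth 2 3 (by decide)) (h.orth 2 0 (by decide))
            (h.orth 2 1 (by decide)) (h.orth 3 0 (by decide)) (h.orth 3 1 (by decide)) (h.orth 0 1 (by decide))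
        refine ⟨s, t, p, r, s', t', p', r', flip hb, flip hb', ?_, ?_⟩
        · by_contra h
          exact hsq ((hb.kinds hd).2 h)
        · rw [hh, ← neg_pair_eq hb, ← neg_pair_eq hb', facG_neg (0 : Fin 2), facG_neg (1 : Fin 2), neg_mul_neg]
    have hp : Qd d p ≠ 0 := hb.ne 0
    have hr : Qd d r ≠ 0 := hb.ne 1
    have hpr : bform d p r = 0 := hb.orth 0 1 (by decide)
    obtain ⟨k, hkdef⟩ : ∃ k, k = g * r0 * g⁻¹ := ⟨_, rfl⟩
    have hk : IsRoot X (g * x * g⁻¹) k := hkdef ▸ hr0.conj hg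
    obtain ⟨R, hR⟩ := H.exists_root hp hr hpr hsq
    obtain ⟨P, hP⟩ : ∃ P, P = facG (0 : Fin 2) (refG d p * refG d r) := ⟨_, rfl⟩
    have hy : Commute (facG (0 : Fin 2) R) (g * x * g⁻¹) := by
      rw [hh]
      refine Commute.mul_right ?_ (facG_commute (by decide) _ _)
      rw [← hR.2.1]
      exact (Commute.refl _).mul_right (Commute.refl _)
    have hyk : IsRoot X (g * x * g⁻¹) (facG (0 : Fin 2) R * k * (facG (0 : Fin 2) R)⁻¹) := by
      have := hk.conj hR.1
      rwa [hy.eq, mul_inv_cancel_right] at this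
    have hback := hyk.conj (inv_mem hg)
    rw [show g⁻¹ * (g * x * g⁻¹) * g⁻¹⁻¹ = x by group] at hback
    have hcom : Commute k (facG (0 : Fin 2) (refG d p * refG d r)) := by
      rw [← hR.2.1]
      obtain ⟨y, hy'⟩ : ∃ y, y = facG (0 : Fin 2) R := ⟨_, rfl⟩
      rw [← hy'] at hback ⊢
      have e : y * k * y⁻¹ = k ∨ y * k * y⁻¹ = k⁻¹ := by
        rcases H.roots_eq hx hr0 hback with e | e
        · left
          calc y * k * y⁻¹ = g * (g⁻¹ * (y * k * y⁻¹) * g⁻¹⁻¹) * g⁻¹ := by group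
            _ = k := by rw [e, ← hkdef]
        · right
          calc y * k * y⁻¹ = g * (g⁻¹ * (y * k * y⁻¹) * g⁻¹⁻¹) * g⁻¹ := by group
            _ = k⁻¹ := by rw [e, hkdef]; group
      refine (mul_inv_eq_iff_eq_mul.1 ?_ : y * y * k = k * (y * y)).symm
      rcases e with e | e
      · rw [show y * y * k * (y * y)⁻¹ = y * (y * k * y⁻¹) * y⁻¹ by group, e, e]
      · rw [show y * y * k * (y * y)⁻¹ = y * (y * k * y⁻¹) * y⁻¹ by group, e,
          show y * k⁻¹ * y⁻¹ = (y * k * y⁻¹)⁻¹ by group, e, inv_inv]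
    have hkS := H.pair_cent ⟨0, p, r, hp, hr, hpr, rfl⟩ hk.1 hcom
    obtain ⟨A, π, hA⟩ := hkS
    rcases ((show ∀ π : Equiv.Perm (Fin 2), π = 1 ∨ π = Equiv.swap 0 1 by decide) π) with rfl | rfl
    swap
    · have e := std_facG A (Equiv.swap (0 : Fin 2) 1) 0 (refG d p * refG d r)
      rw [← hA, hcom.eq, mul_inv_cancel_right, Equiv.swap_apply_left] at e
      have e' := congrArg Units.val e
      rw [facG_val, facG_val] at e'
      obtain ⟨c, hc⟩ := facS_eq_facS (show (0 : Fin 2) ≠ 1 by decide) e'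
      have f1 := congrArg (fun M : M4 => M *ᵥ p) hc
      have f2 := congrArg (fun M : M4 => M *ᵥ s) hc
      simp only [Matrix.smul_mulVec, Matrix.one_mulVec] at f1 f2
      rw [gl_mul_mulVec, refG_orth ((bform_comm d r p).trans hpr), refG_self hp] at f1
      rw [refG2_fix (show bform d p s = 0 from hb.orth 0 2 (by decide)) (show bform d r s = 0 from hb.orth 1 2 (by decide))] at f2
      have c1 : c = 1 := smul_left_injective F (ne_zero_of_Q (hb.ne 2)) (f2.symm.trans (one_smul F _).symm)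
      rw [c1, one_smul] at f1
      exact ne_zero_of_Q hp ((smul_eq_zero.1 (show (2 : F) • p = 0 by
        rw [two_smul]; exact neg_eq_iff_add_eq_zero.1 f1)).resolve_left h2)
    rw [map_one, mul_one] at hA
    have hs0 : Qd d s ≠ 0 := hb.ne 2
    have hp' : Qd d p' ≠ 0 := hb'.ne 0
    have hs' : Qd d s' ≠ 0 := hb'.ne 2
    have hp'r' : bform d r' p' = 0 := hb'.orth 1 0 (by decide)
    have hPp : (refG d p * refG d r) ⬝₄ p = -p := by
      rw [gl_mul_mulVec, refG_orth ((bform_comm d r p).trans hpr), refG_self hp]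
    have hPs : (refG d p * refG d r) ⬝₄ s = s :=
      refG2_fix (show bform d p s = 0 from hb.orth 0 2 (by decide)) (show bform d r s = 0 from hb.orth 1 2 (by decide))
    have hPp' : (refG d p' * refG d r') ⬝₄ p' = -p' := by rw [gl_mul_mulVec, refG_orth hp'r', refG_self hp']
    have hPs' : (refG d p' * refG d r') ⬝₄ s' = s' :=
      refG2_fix (show bform d p' s' = 0 from hb'.orth 0 2 (by decide)) (show bform d r' s' = 0 from hb'.orth 1 2 (by decide))
    have f1 : k ⬝₆ (tv p p') = tv p p' := hk.2.2 _ (by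
      rw [hh, gl_mul_mulVec, fac1_tv, fac0_tv, hPp, hPp', tv_neg, tv_neg', neg_neg])
    have f2 : k ⬝₆ (tv s s') = tv s s' := hk.2.2 _ (by rw [hh, gl_mul_mulVec, fac1_tv, fac0_tv, hPs, hPs'])
    rw [hA, pureG_tv] at f1 f2
    obtain ⟨α, hα, a1, -⟩ := tv_eq (ne_zero_of_Q hp) (ne_zero_of_Q hp') f1.symm
    obtain ⟨β, hβ, -, b2⟩ := tv_eq (ne_zero_of_Q hs0) (ne_zero_of_Q hs') f2.symm
    have hz : k ⬝₆ (tv p s') = (α * β⁻¹) • tv p s' := by
      rw [hA, pureG_tv, a1, b2, tv_smul, tv_smul', smul_smul]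
    have q1 := H.qiso hk.1 (tv p s')
    rw [hz, QuadraticMap.map_smul, smul_eq_mul, QW_tv h2] at q1
    have g1 : α * β⁻¹ * (α * β⁻¹) = 1 := mul_right_cancel₀ (mul_ne_zero hp hs') (by rw [one_mul]; exact q1)
    have q2 := congrArg (fun m : G16 => m ⬝₆ (tv p s')) hk.2.1
    rw [gl_mul_mulVec, hz, Matrix.mulVec_smul, hz, smul_smul, g1, one_smul, hh, gl_mul_mulVec, fac1_tv, fac0_tv, hPp,
      hPs', tv_neg] at q2
    have hne : tv p s' ≠ 0 := fun e0 => by
      have := QW_tv (d := d) h2 p s'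
      rw [e0, map_zero] at this
      exact mul_ne_zero hp hs' this.symm
    exact hne ((smul_eq_zero.1 (show (2 : F) • tv p s' = 0 by
      rw [two_smul]; exact eq_neg_iff_add_eq_zero.1 q2)).resolve_left h2)
  obtain ⟨l, p, r, hp, hr, hpr, hxe⟩ := id hx
  obtain ⟨s, t, hb⟩ := exists_ob_pair hd hp hr hpr
  by_cases hsq : IsSquare (Qd d p * Qd d r)
  · exact main x hx (hxe ▸ (H.rooted_iff l hp hr hpr).2 hsq)
  · intro hD
    refine main (-x) (hx.neg hd) ?_ ?_
    · rw [hxe, ← facG_neg, neg_pair_eq hb]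
      refine (H.rooted_iff l (hb.ne 2) (hb.ne 3) (hb.orth 2 3 (by decide))).2 ?_
      by_contra h
      exact hsq ((hb.kinds hd).2 h)
    · obtain ⟨a, b, a', b', ha, hb0, hab, ha', hb0', hab', e⟩ := hD
      obtain ⟨c, c', hbb⟩ := exists_ob_pair hd ha hb0 hab
      refine ⟨c, c', a', b', hbb.ne 2, hbb.ne 3, hbb.orth 2 3 (by decide), ha', hb0', hab', ?_⟩
      rw [mul_neg, neg_mul, e, ← neg_pair_eq hbb, facG_neg, neg_mul]

end Cfsg.Agent.Classical.OTPow.Four
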