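/-
Conjugate half turns are conjugate in the standard part.
-/
import Cfsg.Agent.Lib.Classical.OTPow.Four.Root

set_option autoImplicit false
set_option linter.unusedSectionVars false

namespace Cfsg.Agent.Classical.OTPow.Four

open Matrix QuadraticMap
open Cfsg.Agent.Classical
open Cfsg.Agent.Classical.ORefl (Iso toMat)
open Cfsg.Agent.Classical.OOmega (rf)

variable {F : Type*} [Field F] [Fintype F] {d : Fin 4 → F} {X : Subgroup (GL (Fin 2 → Fin 4) F)}

local notation "G4" => GL (Fin 4) F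
local notation "G16" => GL (Fin 2 → Fin 4) F
local notation:max g:max " ⬝₄ " x:max => ((g : GL (Fin 4) F) : Matrix (Fin 4) (Fin 4) F) *ᵥ x

/-- A reflection carries reflections to reflections. -/
theorem refG_conj (a b : Fin 4 → F) : refG d a * refG d b * (refG d a)⁻¹ = refG d ((refG d a) ⬝₄ b) := by
  rw [refG, refG, ← map_inv, ← map_mul, ← map_mul, OOmega.conj_rf, refG, slotHom_apply]

/-- A reflection carrying one vector to another of equal value, up to sign. -/
theorem exists_move (hd : Shape d) {x y : Fin 4 → F} (hx : Qd d x ≠ 0) (hxy : Qd d y = Qd d x) :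
    ∃ v, Qd d v ≠ 0 ∧ ((refG d v) ⬝₄ x = y ∨ (refG d v) ⬝₄ x = -y) ∧
      ∀ z, bform d z x = 0 → bform d z y = 0 → bform d z v = 0 := by
  have key : ∀ y, Qd d y = Qd d x → Qd d (x - y) ≠ 0 → (refG d (x - y)) ⬝₄ x = y := fun y hy h => by
    have hQ : Qd d (x - y) = 2 * (Qd d x - bform d x y) := by
      rw [← bform_self]
      simp only [bsub, bsub_left, bform_comm d y x]
      simp only [bform_self, hy]
      ring
    rw [refG_apply, bsub_left, bform_self, bform_comm d y x, ← hQ, inv_mul_cancel₀ h, one_smul, sub_sub_cancel]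
  by_cases h : Qd d (x - y) = 0
  · refine ⟨x - -y, fun h' => ?_, Or.inr (key (-y) (by rw [QuadraticMap.map_neg, hxy]) ?_),
      fun z h1 h2 => by rw [bsub, bneg, h1, h2, neg_zero, sub_zero]⟩
    all_goals
      try intro h'
      rw [← bform_self] at h h'
      simp only [bsub, bsub_left, bneg, bneg_left, bform_comm d y x] at h h'
      simp only [bform_self, hxy] at h h'
      exact hx ((mul_eq_zero.1 (show 4 * Qd d x = 0 by linear_combination h + h')).resolve_left (four_ne hd))
  · exact ⟨x - y, h, Or.inl (key y hxy h), fun z h1 h2 => by rw [bsub, h1, h2, sub_zero]⟩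

variable (H : Hyp d X)
include H

/-- Half turns of one slot and one kind are conjugate in the standard part. -/
theorem Hyp.pair_move (l : Fin 2) {p r p' r' : Fin 4 → F} (hp : Qd d p ≠ 0) (hr : Qd d r ≠ 0) (hpr : bform d p r = 0)
    (hp' : Qd d p' ≠ 0) (hr' : Qd d r' ≠ 0) (hpr' : bform d p' r' = 0)
    (hk : Rooted X (facG l (refG d p * refG d r)) ↔ Rooted X (facG l (refG d p' * refG d r'))) :
    ∃ h, h ∈ X ∧ h ∈ Std F 4 (Fin 2) ∧
      h * facG l (refG d p * refG d r) * h⁻¹ = facG l (refG d p' * refG d r') := by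
  have hd := H.shape
  have h2 := hd.two
  obtain ⟨a, b, hab⟩ := OOmega.exists_rep h2 hp' hr' (Qd d p)
  obtain ⟨p1, hp1⟩ : ∃ p1, p1 = a • p' + b • r' := ⟨_, rfl⟩
  have hQp1 : Qd d p1 = Qd d p := by
    rw [← bform_self, hp1]
    simp only [badd, badd_left, bsmul, bsmul_left]
    simp only [bform_self, hpr', bform_comm d r' p']
    linear_combination hab
  have hp10 : Qd d p1 ≠ 0 := hQp1 ▸ hp
  have hP1 : (refG d p' * refG d r') ⬝₄ p1 = -p1 := by
    rw [hp1, Matrix.mulVec_add, Matrix.mulVec_smul, Matrix.mulVec_smul, gl_mul_mulVec, gl_mul_mulVec, refG_self hr',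
      Matrix.mulVec_neg, refG_orth hpr', refG_orth ((bform_comm d r' p').trans hpr'), refG_self hp', smul_neg, smul_neg,
      neg_add]
  obtain ⟨f, hf, hpf, hPeq⟩ := pair_through hd hp' hr' hpr' hp10 hP1
  rw [hPeq] at hk ⊢
  rw [H.rooted_iff l hp hr hpr, H.rooted_iff l hp10 hf hpf, hQp1] at hk
  have hrf : IsSquare (Qd d r * (Qd d f)⁻¹) := by
    have hsq : IsSquare (Qd d r * Qd d f) := by
      have e : IsSquare ((Qd d p * Qd d r) * (Qd d p * Qd d f)) := by
        by_cases h : IsSquare (Qd d p * Qd d r)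
        · exact h.mul (hk.1 h)
        · exact nsq_mul h2 h (fun h' => h (hk.2 h'))
      obtain ⟨m, hm⟩ := e
      exact ⟨m / Qd d p, by field_simp; linear_combination hm⟩
    obtain ⟨m, hm⟩ := hsq
    exact ⟨m / Qd d f, by field_simp; linear_combination hm⟩
  obtain ⟨m, hm⟩ := hrf
  have hm0 : m ≠ 0 := fun h0 => by
    rw [h0, mul_zero, mul_eq_zero, inv_eq_zero] at hm
    exact hm.elim hr hf
  obtain ⟨f1, hf1⟩ : ∃ f1, f1 = m • f := ⟨_, rfl⟩
  have hQf1 : Qd d f1 = Qd d r := by
    rw [hf1, QuadraticMap.map_smul, smul_eq_mul, ← hm]; field_simp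
  obtain ⟨v1, hv1, e1, -⟩ := exists_move hd hp hQp1
  obtain ⟨r1, hr1⟩ : ∃ r1, r1 = (refG d v1) ⬝₄ r := ⟨_, rfl⟩
  have hQr1 : Qd d r1 = Qd d r := by rw [← bform_self, hr1, bform_refG hv1, bform_self]
  have hpr1 : bform d p1 r1 = 0 := by
    have := bform_refG hv1 p r
    rw [← hr1, hpr] at this
    rcases e1 with e | e <;> rw [e] at this
    · exact this
    · rwa [bneg_left, neg_eq_zero] at this
  obtain ⟨v2, hv2, e2, hv2'⟩ := exists_move hd (hQr1 ▸ hr : Qd d r1 ≠ 0) (hQf1.trans hQr1.symm)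
  have hv2p : bform d p1 v2 = 0 := hv2' p1 hpr1 (by rw [hf1, bsmul, hpf, mul_zero])
  refine ⟨facG l (refG d v2 * refG d v1), H.rot_mem l hv2 hv1, facG_mem _ _, ?_⟩
  rw [← map_inv, ← map_mul, ← map_mul]
  congr 1
  have hfix : (refG d v2) ⬝₄ p1 = p1 := refG_orth ((bform_comm d v2 p1).trans hv2p)
  have hneg : ∀ z : Fin 4 → F, refG d (-z) = refG d z := fun z => by
    rw [← neg_one_smul F z, refG_smul d z (neg_ne_zero.2 one_ne_zero)]
  rw [show refG d v2 * refG d v1 * (refG d p * refG d r) * (refG d v2 * refG d v1)⁻¹ =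
      (refG d v2 * (refG d v1 * refG d p * (refG d v1)⁻¹) * (refG d v2)⁻¹) *
        (refG d v2 * (refG d v1 * refG d r * (refG d v1)⁻¹) * (refG d v2)⁻¹) by group,
    refG_conj, refG_conj, refG_conj, refG_conj, ← hr1]
  have g1 : refG d ((refG d v2) ⬝₄ ((refG d v1) ⬝₄ p)) = refG d p1 := by
    rcases e1 with e | e <;> rw [e]
    · rw [hfix]
    · rw [Matrix.mulVec_neg, hfix, hneg]
  have g2 : refG d ((refG d v2) ⬝₄ r1) = refG d f := by
    rcases e2 with e | e <;> rw [e]
    · rw [hf1, refG_smul d f hm0]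
    · rw [hneg, hf1, refG_smul d f hm0]
  rw [g1, g2]

/-- An element carrying a half turn to a half turn is standard. -/
theorem Hyp.pair_conj {x g : GL (Fin 2 → Fin 4) F} (hx : IsPair d x) (hg : g ∈ X) (hy : IsPair d (g * x * g⁻¹)) :
    g ∈ Std F 4 (Fin 2) := by
  have hd := H.shape
  obtain ⟨l, p, r, hp, hr, hpr, rfl⟩ := id hx
  obtain ⟨l', p', r', hp', hr', hpr', hy'⟩ := id hy
  have hroot : Rooted X (g * facG l (refG d p * refG d r) * g⁻¹) ↔ Rooted X (facG l (refG d p * refG d r)) :=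
    rooted_conj_iff hg
  -- bring the image into the slot of the source
  obtain ⟨τ, hτ, hτS, hτy⟩ : ∃ τ, τ ∈ X ∧ τ ∈ Std F 4 (Fin 2) ∧
      τ * facG l' (refG d p' * refG d r') * τ⁻¹ = facG l (refG d p' * refG d r') := by
    by_cases hl : l' = l
    · exact ⟨1, one_mem X, one_mem _, by rw [hl]; group⟩
    · obtain ⟨v, hv⟩ := exists_aniso hd
      refine ⟨sw F * facG l (refG d v), H.std _ (mul_mem (permG_mem _) (facG_mem _ _)) (swap_refl_mem hd l hv),
        mul_mem (permG_mem _) (facG_mem _ _), ?_⟩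
      have hc : Commute (facG l (refG d v)) (facG l' (refG d p' * refG d r')) := facG_commute (Ne.symm hl) _ _
      rw [show sw F * facG l (refG d v) * facG l' (refG d p' * refG d r') * (sw F * facG l (refG d v))⁻¹ =
        sw F * (facG l (refG d v) * facG l' (refG d p' * refG d r') * (facG l (refG d v))⁻¹) * (sw F)⁻¹ by group,
        hc.eq, mul_inv_cancel_right, sw_inv, sw_fac]
      congr 2
      rcases (show l = 0 ∨ l = 1 by omega) with rfl | rfl <;> rcases (show l' = 0 ∨ l' = 1 by omega) with rfl | rfl <;>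
        first | exact absurd rfl hl | simp
  obtain ⟨h, hh, hhS, hhy⟩ := H.pair_move l hp' hr' hpr' hp hr hpr (by
    rw [← hτy, rooted_conj_iff hτ, ← hy', hroot])
  have hgc : h * τ * g ∈ Std F 4 (Fin 2) := by
    refine H.pair_cent hx (mul_mem (mul_mem hh hτ) hg) (mul_inv_eq_iff_eq_mul.1 ?_)
    rw [show h * τ * g * facG l (refG d p * refG d r) * (h * τ * g)⁻¹ =
      h * (τ * (g * facG l (refG d p * refG d r) * g⁻¹) * τ⁻¹) * h⁻¹ by group, hy', hτy, hhy]
  rw [show g = τ⁻¹ * (h⁻¹ * (h * τ * g)) by group]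
  exact mul_mem (inv_mem hτS) (mul_mem (inv_mem hhS) hgc)

end Cfsg.Agent.Classical.OTPow.Four
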