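/-
The centraliser of a product of a reflection of each slot is standard.
-/
import Cfsg.Agent.Lib.Classical.OTPow.Four.PairConj

set_option autoImplicit false
set_option linter.unusedSectionVars false

namespace Cfsg.Agent.Classical.OTPow.Four

open Matrix QuadraticMap
open Cfsg.Agent.Classical

variable {F : Type*} [Field F] [Fintype F] {d : Fin 4 → F} {X : Subgroup (GL (Fin 2 → Fin 4) F)}

local notation "G4" => GL (Fin 4) F
local notation "G16" => GL (Fin 2 → Fin 4) F
local notation "M4" => Matrix (Fin 4) (Fin 4) F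
local notation "M16" => Matrix (Fin 2 → Fin 4) (Fin 2 → Fin 4) F
local notation:max g:max " ⬝₆ " x:max => ((g : G16) : M16) *ᵥ x
local notation:max g:max " ⬝₄ " x:max => ((g : GL (Fin 4) F) : Matrix (Fin 4) (Fin 4) F) *ᵥ x

/-- Two involutions not conjugate in a finite group centralise a common involution. -/
theorem dihedral {G : Type*} [Group G] [Finite G] (Y : Subgroup G) {s t : G} (hs : s ∈ Y) (ht : t ∈ Y)
    (hs2 : s * s = 1) (ht2 : t * t = 1) (hnc : ∀ y ∈ Y, y * s * y⁻¹ ≠ t) :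
    ∃ j ∈ Y, j * j = 1 ∧ j ≠ 1 ∧ Commute j s ∧ Commute j t ∧
      (∃ y ∈ Y, y * s * y⁻¹ = s * j ∨ y * t * y⁻¹ = s * j) ∧
      ∃ y ∈ Y, y * s * y⁻¹ = t * j ∨ y * t * y⁻¹ = t * j := by
  obtain ⟨r, hr⟩ : ∃ r, r = s * t := ⟨_, rfl⟩
  have hsi : s⁻¹ = s := inv_eq_of_mul_eq_one_left hs2
  have hti : t⁻¹ = t := inv_eq_of_mul_eq_one_left ht2
  have hrY : r ∈ Y := hr ▸ mul_mem hs ht
  have hsr : s * r * s⁻¹ = r⁻¹ := by
    rw [hr, _root_.mul_inv_rev, hti, hsi, ← mul_assoc s s t, hs2, one_mul]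
  have hflip : ∀ i : ℕ, s * r ^ i = (r ^ i)⁻¹ * s := fun i => by
    have e : (s * r * s⁻¹) ^ i = s * r ^ i * s⁻¹ := conj_pow
    rw [hsr, inv_pow] at e
    exact (mul_inv_eq_iff_eq_mul.1 e.symm)
  have ht' : s * r = t := by rw [hr, ← mul_assoc, hs2, one_mul]
  have hcl : ∀ n : ℕ, ∃ y ∈ Y, y * s * y⁻¹ = s * r ^ n ∨ y * t * y⁻¹ = s * r ^ n := fun n => by
    obtain ⟨i, hi | hi⟩ := Nat.even_or_odd' n
    · refine ⟨(r ^ i)⁻¹, inv_mem (pow_mem hrY i), Or.inl ?_⟩
      rw [inv_inv, ← hflip, hi, two_mul, pow_add, mul_assoc]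
    · refine ⟨(r ^ i)⁻¹, inv_mem (pow_mem hrY i), Or.inr ?_⟩
      rw [inv_inv, ← ht', ← mul_assoc, ← hflip, hi, two_mul, pow_add, pow_add, pow_one]
      simp only [mul_assoc]
      rw [← pow_succ', ← pow_succ]
  have hpos : 0 < orderOf r := orderOf_pos r
  obtain ⟨h, hm | hm⟩ := Nat.even_or_odd' (orderOf r)
  · have hj : r ^ h * r ^ h = 1 := by rw [← pow_add, ← two_mul, ← hm, pow_orderOf_eq_one]
    have hjs : Commute (r ^ h) s := by
      have := hflip h
      rw [inv_eq_of_mul_eq_one_left hj] at this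
      exact this.symm
    refine ⟨r ^ h, pow_mem hrY h, hj, fun e => ?_, hjs, ?_, hcl h, ?_⟩
    · exact absurd (Nat.le_of_dvd (by omega) (orderOf_dvd_of_pow_eq_one e)) (by omega)
    · rw [← ht']; exact hjs.mul_right ((Commute.refl r).pow_left h)
    · obtain ⟨y, hy, e⟩ := hcl (1 + h)
      rw [pow_add, pow_one, ← mul_assoc, ht'] at e
      exact ⟨y, hy, e⟩
  · refine absurd ?_ (hnc (r ^ h) (pow_mem hrY h))
    have e : r = (r ^ h * r ^ h)⁻¹ := eq_inv_of_mul_eq_one_right (by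
      rw [← pow_add, ← two_mul, ← pow_succ, ← hm, pow_orderOf_eq_one])
    have e2 := hflip h
    calc r ^ h * s * (r ^ h)⁻¹ = r ^ h * (s * r ^ h) * (r ^ h * r ^ h)⁻¹ := by group
      _ = s * r := by rw [e2, ← e]; group
      _ = t := ht'

theorem trace_conj (g x : G16) : ((g * x * g⁻¹ : G16) : M16).trace = (x : M16).trace := by
  rw [Units.val_mul, Units.val_mul, Matrix.trace_mul_cycle, ← Units.val_mul, inv_mul_cancel, Units.val_one,
    one_mul]

theorem sixteen_ne (hd : Shape d) : (16 : F) ≠ 0 := by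
  rw [show (16 : F) = 4 * 4 by norm_num]; exact mul_ne_zero (four_ne hd) (four_ne hd)

/-- Two orthogonal vectors orthogonal to a given one. -/
theorem exists_orth_pair (hd : Shape d) {a : Fin 4 → F} (ha : Qd d a ≠ 0) :
    ∃ o1 o2, Qd d o1 ≠ 0 ∧ Qd d o2 ≠ 0 ∧ bform d a o1 = 0 ∧ bform d a o2 = 0 ∧ bform d o1 o2 = 0 := by
  obtain ⟨o1, ho1, h1⟩ := exists_orth_one hd ha
  obtain ⟨o2, h2, h3, ho2⟩ := hd.exists_orth_ne ha ho1 h1
  exact ⟨o1, o2, ho1, ho2, h1, h2, h3⟩

/-- A vector of given value in a plane. -/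
theorem exists_value_plane (hd : Shape d) {o1 o2 : Fin 4 → F} (h1 : Qd d o1 ≠ 0) (h2 : Qd d o2 ≠ 0)
    (h : bform d o1 o2 = 0) (c : F) :
    ∃ v, Qd d v = c ∧ ∀ z, bform d z o1 = 0 → bform d z o2 = 0 → bform d z v = 0 := by
  obtain ⟨x, y, hxy⟩ := OOmega.exists_rep hd.two h1 h2 c
  refine ⟨x • o1 + y • o2, ?_, fun z a b => by rw [badd, bsmul, bsmul, a, b]; ring⟩
  rw [← bform_self]
  simp only [badd, badd_left, bsmul, bsmul_left]
  simp only [bform_self, h, bform_comm d o2 o1]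
  linear_combination hxy

/-- A half turn times a product of slot reflections through its plane. -/
theorem trace_pair_cref (hd : Shape d) {u v w : Fin 4 → F} (hu : Qd d u ≠ 0) (hv : Qd d v ≠ 0) (hw : Qd d w ≠ 0)
    (huv : bform d u v = 0) :
    ((facG (0 : Fin 2) (refG d u * refG d v) * cref d u w : G16) : M16).trace = 4 := by
  have e : facG (0 : Fin 2) (refG d u * refG d v) * cref d u w = cref d v w := by
    rw [cref, ← mul_assoc, ← map_mul, (refG_mul_comm huv).eq, mul_assoc, refG_mul_self, mul_one]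
  rw [e]
  exact IsCT.trace hd ⟨v, w, hv, hw, rfl⟩

/-- Half turns commuting with a product of slot reflections and a half turn through it. -/
theorem half_shape (hd : Shape d) {u e w : Fin 4 → F} (hu : Qd d u ≠ 0) (he : Qd d e ≠ 0) (hw : Qd d w ≠ 0)
    (hue : bform d u e = 0) {y : G16} (hy : IsPair d y) (hyc : Commute y (cref d u w))
    (hys : Commute y (facG (0 : Fin 2) (refG d u * refG d e)))
    (htr : ((y * cref d u w : G16) : M16).trace = 4) :
    facG (0 : Fin 2) (refG d u * refG d e) * y = 1 ∨ IsPair d (facG (0 : Fin 2) (refG d u * refG d e) * y) ∨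
      ∃ f, Qd d f ≠ 0 ∧ bform d w f = 0 ∧ y = facG (1 : Fin 2) (refG d w * refG d f) := by
  obtain ⟨l, p, r, hp, hr, hpr, rfl⟩ := hy
  have h4 := four_ne hd
  rcases (show l = 0 ∨ l = 1 by omega) with rfl | rfl
  · obtain ⟨P, hP⟩ : ∃ P, P = refG d u * refG d e := ⟨_, rfl⟩
    obtain ⟨A, hA⟩ : ∃ A, A = refG d p * refG d r := ⟨_, rfl⟩
    have hPP : P * P = 1 := by
      rw [hP]; nth_rewrite 2 [(refG_mul_comm hue).eq]
      rw [mul_assoc, ← mul_assoc (refG d e), refG_mul_self, one_mul, refG_mul_self]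
    have hAA : A * A = 1 := by
      rw [hA]; nth_rewrite 2 [(refG_mul_comm hpr).eq]
      rw [mul_assoc, ← mul_assoc (refG d r), refG_mul_self, one_mul, refG_mul_self]
    have hAP : A * P = P * A := by
      haveI : NeZero 4 := ⟨by norm_num⟩
      refine facG_inj (0 : Fin 2) ?_
      rw [map_mul, map_mul, hA, hP]
      exact hys.eq
    have h2 : P * A * (P * A) = 1 := by
      rw [mul_assoc, ← mul_assoc A, hAP, mul_assoc P A A, hAA, mul_one, hPP]
    have hiso : ∀ x z, bform d ((P * A) ⬝₄ x) ((P * A) ⬝₄ z) = bform d x z := fun x z => by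
      rw [gl_mul_mulVec, gl_mul_mulVec, hP, hA, bform_refG2 hu he, bform_refG2 hp hr]
    rcases slot_invol (l := (0 : Fin 2)) hd hiso h2 (by
      rw [map_mul, hP, hA]; exact mul_mem (pair_mem hd 0 hu he) (pair_mem hd 0 hp hr)) with h | h | h
    · exact Or.inl (by rwa [map_mul, hP, hA] at h)
    · exfalso
      have hy : facG (0 : Fin 2) A = -facG (0 : Fin 2) P := by
        rw [← one_mul (facG (0 : Fin 2) A), ← map_one (facG (σ := Fin 2) (0 : Fin 2)), ← hPP, map_mul, mul_assoc,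
          ← map_mul (facG 0) P A, h, mul_neg_one]
      rw [← hA, hy, neg_mul, Units.val_neg, Matrix.trace_neg, hP, trace_pair_cref hd hu he hw hue] at htr
      exact h4 ((mul_eq_zero.1 (show 2 * (4 : F) = 0 by linear_combination -htr)).resolve_left hd.two)
    · exact Or.inr (Or.inl (by rwa [map_mul, hP, hA] at h))
  · refine Or.inr (Or.inr ?_)
    obtain ⟨P, hP⟩ : ∃ P, P = refG d p * refG d r := ⟨_, rfl⟩
    rw [← hP] at hyc htr ⊢
    have hPw : Commute P (refG d w) := by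
      haveI : NeZero 4 := ⟨by norm_num⟩
      have hc : Commute (facG (1 : Fin 2) P) (facG 0 (refG d u)) := facG_commute (by decide) _ _
      refine facG_inj (1 : Fin 2) ?_
      rw [map_mul, map_mul]
      have e := hyc.eq
      rw [cref, ← mul_assoc, hc.eq, mul_assoc, mul_assoc] at e
      exact mul_left_cancel e
    have hPwneg : (refG d w) ⬝₄ (P ⬝₄ w) = -(P ⬝₄ w) := by
      rw [← gl_mul_mulVec, ← hPw.eq, gl_mul_mulVec, refG_self hw, Matrix.mulVec_neg]
    obtain ⟨α, hα⟩ : ∃ α, α = bform d w (P ⬝₄ w) / Qd d w := ⟨_, rfl⟩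
    have hPα : P ⬝₄ w = α • w := by
      rw [refG_apply, eq_neg_iff_add_eq_zero] at hPwneg
      refine smul_right_injective (Fin 4 → F) hd.two ?_
      simp only
      rw [hα, smul_smul, two_smul F (P ⬝₄ w), show 2 * (bform d w (P ⬝₄ w) / Qd d w) =
        (Qd d w)⁻¹ * (2 * bform d w (P ⬝₄ w)) by ring, ← sub_eq_zero, ← hPwneg]
      abel
    have hα2 : α * α = 1 := by
      have e := bform_refG2 hp hr w w
      rw [← hP, hPα, bsmul, bsmul_left, bform_self] at e
      exact mul_right_cancel₀ hw (by linear_combination e)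
    have htrP : ((P * refG d w : G4) : M4).trace = 2 := by
      have e : ((facG (1 : Fin 2) P * cref d u w : G16) : M16).trace =
          (refG d u : M4).trace * ((P * refG d w : G4) : M4).trace := by
        rw [← trace_pair, cref, ← mul_assoc,
          (show Commute (facG (1 : Fin 2) P) (facG 0 (refG d u)) from facG_commute (by decide) _ _).eq, mul_assoc,
          ← map_mul]
      rw [e, trace_refG hd hu] at htr
      exact mul_left_cancel₀ hd.two (by linear_combination htr)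
    rcases mul_self_eq_one_iff.1 hα2 with h | h
    · exfalso
      rw [h, one_smul] at hPα
      obtain ⟨s, t, hb⟩ := exists_ob_pair hd hp hr hpr
      have e := neg_pair_eq hb
      rw [← hP] at e
      obtain ⟨f, hf, hwf, hPf⟩ := pair_through hd (hb.ne 2) (hb.ne 3) (hb.orth 2 3 (by decide)) hw (by
        show (refG d s * refG d t) ⬝₄ w = -w
        rw [← e, Units.val_neg, Matrix.neg_mulVec, hPα])
      have hP' : P = -(refG d w * refG d f) := by
        rw [← hPf]
        show P = -(refG d s * refG d t)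
        rw [← e, neg_neg]
      rw [hP', neg_mul, (refG_mul_comm hwf).eq, mul_assoc, refG_mul_self, mul_one, Units.val_neg, Matrix.trace_neg,
        trace_refG hd hf] at htrP
      exact h4 (by linear_combination -htrP)
    · rw [h, neg_one_smul] at hPα
      obtain ⟨f, hf, hwf, hPf⟩ := pair_through hd hp hr hpr hw (hP ▸ hPα)
      exact ⟨f, hf, hwf, by rw [hP, hPf]⟩

variable (H : Hyp d X)
include H

/-- A standard involution commuting with a product of slot reflections and conjugate to a half turn is a half turn. -/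
theorem Hyp.pair_of_conj {u w : Fin 4 → F} (hu : Qd d u ≠ 0) (hw : Qd d w ≠ 0) {x y : G16} (hx : IsPair d x)
    (hy : y ∈ X) (hS : y * x * y⁻¹ ∈ Std F 4 (Fin 2)) (hc : Commute (y * x * y⁻¹) (cref d u w)) :
    IsPair d (y * x * y⁻¹) := by
  have hd := H.shape
  have h4 := four_ne hd
  have htr : ((y * x * y⁻¹ : G16) : M16).trace = 0 := by rw [trace_conj, hx.trace]
  have hxX : x ∈ X := by
    obtain ⟨l, p, r, hp, hr, hpr, rfl⟩ := hx
    exact H.rot_mem l hp hr
  have hx2 : x * x = 1 := by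
    obtain ⟨l, p, r, hp, hr, hpr, rfl⟩ := hx
    rw [← map_mul]
    nth_rewrite 2 [(refG_mul_comm hpr).eq]
    rw [mul_assoc, ← mul_assoc (refG d r), refG_mul_self, one_mul, refG_mul_self, map_one]
  rcases invol_comm hd hS (H.le (mul_mem (mul_mem hy hxX) (inv_mem hy)))
      (by rw [show y * x * y⁻¹ * (y * x * y⁻¹) = y * (x * x) * y⁻¹ by group, hx2]; group) hu hw hc
    with h | h | h | h | h | h
  · exact absurd (htr.symm.trans (h ▸ trace_one16)) (sixteen_ne hd).symm
  · rw [h, Units.val_neg, Matrix.trace_neg, trace_one16, neg_eq_zero] at htr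
    exact absurd htr (sixteen_ne hd)
  · exact h
  · exact absurd (htr.symm.trans (h.trace hd)) h4.symm
  · have := h.trace hd
    rw [Units.val_neg, Matrix.trace_neg, htr, neg_zero] at this
    exact absurd this h4.symm
  · exact absurd h (H.dbl_not_conj hx hy)

/-- Centralisers of products of a reflection of each slot are standard. -/
theorem Hyp.cref_cent {u w : Fin 4 → F} (hu : Qd d u ≠ 0) (hw : Qd d w ≠ 0) {g : G16} (hg : g ∈ X)
    (hgc : Commute g (cref d u w)) : g ∈ Std F 4 (Fin 2) := by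
  by_contra hgS
  have hd := H.shape
  have h2 := hd.two
  obtain ⟨ν, hν⟩ := FiniteField.exists_nonsquare (F := F) (fun e => h2 (by
    have := ringChar.Nat.cast_ringChar (R := F)
    rw [e] at this
    simpa using this))
  have hν0 : ν ≠ 0 := fun e => hν (e ▸ IsSquare.zero)
  obtain ⟨o1, o2, ho1, ho2, u1, u2, o12⟩ := exists_orth_pair hd hu
  obtain ⟨v, hvQ, hv⟩ := exists_value_plane hd ho1 ho2 o12 (Qd d u)
  obtain ⟨e, heQ, he⟩ := exists_value_plane hd ho1 ho2 o12 (Qd d u * ν)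
  have hv0 : Qd d v ≠ 0 := hvQ ▸ hu
  have he0 : Qd d e ≠ 0 := heQ ▸ mul_ne_zero hu hν0
  have huv := hv u u1 u2
  have hue := he u u1 u2
  obtain ⟨π, hπ⟩ : ∃ π, π = facG (0 : Fin 2) (refG d u * refG d v) := ⟨_, rfl⟩
  have hπp : IsPair d π := ⟨0, u, v, hu, hv0, huv, hπ⟩
  have hπX : π ∈ X := hπ ▸ H.rot_mem 0 hu hv0
  have hπR : Rooted X π := hπ ▸ (H.rooted_iff 0 hu hv0 huv).2 ⟨Qd d u, by rw [hvQ]⟩
  obtain ⟨c, hc⟩ : ∃ c, c = cref d u w := ⟨_, rfl⟩
  have hcX : c ∈ X := hc ▸ H.cref_mem hu hw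
  rw [← hc] at hgc
  have hcomm : ∀ z, Qd d z ≠ 0 → bform d u z = 0 → Commute (facG (0 : Fin 2) (refG d u * refG d z)) c := fun z _ huz => by
    rw [hc]
    exact ((((Commute.refl _).mul_left (refG_mul_comm huz).symm).map (facG 0))).mul_right (facG_commute (by decide) _ _)
  have hπc : Commute π c := hπ ▸ hcomm v hv0 huv
  have hsq : ∀ z, bform d u z = 0 → facG (0 : Fin 2) (refG d u * refG d z) * facG 0 (refG d u * refG d z) = 1 :=
    fun z huz => by
      rw [← map_mul]
      nth_rewrite 2 [(refG_mul_comm huz).eq]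
      rw [mul_assoc, ← mul_assoc (refG d z), refG_mul_self, one_mul, refG_mul_self, map_one]
  obtain ⟨t, ht⟩ : ∃ t, t = g * π * g⁻¹ := ⟨_, rfl⟩
  have htX : t ∈ X := ht ▸ mul_mem (mul_mem hg hπX) (inv_mem hg)
  have htc : Commute t c := ht ▸ (hgc.mul_left hπc).mul_left hgc.inv_left
  have htc4 : ((t * c : G16) : M16).trace = 4 := by
    rw [ht, show g * π * g⁻¹ * c = g * (π * c) * g⁻¹ by
      rw [mul_assoc _ g⁻¹ c, hgc.inv_left.eq]; group, trace_conj, hπ, hc, trace_pair_cref hd hu hv0 hw huv]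
  -- one half turn through the line gives a pair of half turns fixed by the conjugation
  have claim : ∀ e, Qd d e ≠ 0 → bform d u e = 0 → ¬ IsSquare (Qd d u * Qd d e) → ∀ z ∈ X,
      Commute z c → Commute (facG (0 : Fin 2) (refG d u * refG d e)) z → Commute t z →
      ∃ f b, Qd d f ≠ 0 ∧ bform d w f = 0 ∧ Qd d b ≠ 0 ∧ bform d w b = 0 ∧
        g * (facG (0 : Fin 2) (refG d u * refG d v) * facG 1 (refG d w * refG d b)) * g⁻¹ =
          facG (0 : Fin 2) (refG d u * refG d e) * facG 1 (refG d w * refG d f) ∧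
        Commute (facG (0 : Fin 2) (refG d u * refG d e) * facG 1 (refG d w * refG d f)) z := by
    intro e he0 hue hns z hzX hzc hsz htz
    obtain ⟨s, hs⟩ : ∃ s, s = facG (0 : Fin 2) (refG d u * refG d e) := ⟨_, rfl⟩
    have hsp : IsPair d s := ⟨0, u, e, hu, he0, hue, hs⟩
    have hsX : s ∈ X := hs ▸ H.rot_mem 0 hu he0
    have hsR : ¬ Rooted X s := hs ▸ fun h => hns ((H.rooted_iff 0 hu he0 hue).1 h)
    obtain ⟨Y, hY⟩ : ∃ Y : Subgroup G16, ∀ y, y ∈ Y ↔ y ∈ X ∧ Commute y c ∧ Commute y z :=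
      ⟨X ⊓ Subgroup.centralizer {c, z}, fun y => by
        simp only [Subgroup.mem_inf, Subgroup.mem_centralizer_iff, Set.mem_insert_iff, Set.mem_singleton_iff,
          forall_eq_or_imp, forall_eq]
        exact ⟨fun h => ⟨h.1, h.2.1.symm, h.2.2.symm⟩, fun h => ⟨h.1, h.2.1.symm, h.2.2.symm⟩⟩⟩
    have hsY : s ∈ Y := (hY s).2 ⟨hsX, hs ▸ hcomm e he0 hue, hs ▸ hsz⟩
    have htY : t ∈ Y := (hY t).2 ⟨htX, htc, htz⟩
    have hs2 : s * s = 1 := hs ▸ hsq e hue
    have hπ2 : π * π = 1 := hπ ▸ hsq v huv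
    have ht2 : t * t = 1 := by
      rw [ht, show g * π * g⁻¹ * (g * π * g⁻¹) = g * (π * π) * g⁻¹ by group, hπ2]; group
    obtain ⟨j, hjY, hj2, hj1, hjs, hjt, ⟨y1, hy1, ey1⟩, y2, hy2, ey2⟩ :=
      dihedral Y hsY htY hs2 ht2 fun y hy e' => hsR <| by
        rw [← rooted_conj_iff ((hY y).1 hy).1, e', ht, rooted_conj_iff hg]; exact hπR
    obtain ⟨hjX, hjc, hjz⟩ := (hY j).1 hjY
    have hjS : j ∈ Std F 4 (Fin 2) := H.pair_cent hsp hjX hjs
    -- elements conjugate to one of the two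
    have hconj : ∀ x, (∃ y ∈ Y, y * s * y⁻¹ = x ∨ y * t * y⁻¹ = x) →
        ((x * c : G16) : M16).trace = 4 ∧ ∃ y ∈ X, ∃ x', IsPair d x' ∧ y * x' * y⁻¹ = x := by
      rintro x ⟨y, hy, e' | e'⟩
      all_goals obtain ⟨hyX, hyc, -⟩ := (hY y).1 hy
      · refine ⟨?_, y, hyX, s, hsp, e'⟩
        rw [← e', show y * s * y⁻¹ * c = y * (s * c) * y⁻¹ by rw [mul_assoc _ y⁻¹ c, hyc.inv_left.eq]; group,
          trace_conj, hs, hc, trace_pair_cref hd hu he0 hw hue]
      · refine ⟨?_, y * g, mul_mem hyX hg, π, hπp, by rw [← e', ht]; group⟩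
        rw [← e', show y * t * y⁻¹ * c = y * (t * c) * y⁻¹ by rw [mul_assoc _ y⁻¹ c, hyc.inv_left.eq]; group,
          trace_conj, htc4]
    obtain ⟨hsjc, y1', hy1', x1, hx1, ex1⟩ := hconj (s * j) ⟨y1, hy1, ey1⟩
    obtain ⟨htjc, y2', hy2', x2, hx2, ex2⟩ := hconj (t * j) ⟨y2, hy2, ey2⟩
    have hsjC : Commute (s * j) c := ((hY s).1 hsY).2.1.mul_left hjc
    have hsj : IsPair d (s * j) := by
      rw [← ex1]
      refine H.pair_of_conj hu hw hx1 hy1' ?_ (by rw [ex1, ← hc]; exact hsjC)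
      rw [ex1]; exact mul_mem (hs ▸ facG_mem _ _) hjS
    have hss : s * (s * j) = j := by rw [← mul_assoc, hs2, one_mul]
    rcases half_shape hd hu he0 hw hue hsj (hc ▸ hsjC) (hs ▸ (Commute.refl s).mul_left hjs) (hc ▸ hsjc)
      with h | h | ⟨f, hf, hwf, hf'⟩
    · exact absurd (by rwa [← hs, hss] at h) hj1
    · rw [← hs, hss] at h
      exfalso
      have htS : t ∈ Std F 4 (Fin 2) := H.pair_cent h htX hjt.symm
      have htp : IsPair d (g * π * g⁻¹) := H.pair_of_conj hu hw hπp hg (ht ▸ htS) (hc ▸ ht ▸ htc)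
      exact hgS (H.pair_conj hπp hg htp)
    have hjD : j = facG (0 : Fin 2) (refG d u * refG d e) * facG 1 (refG d w * refG d f) := by
      rw [← hss, hf', hs]
    have hD : IsDbl d j := ⟨u, e, w, f, hu, he0, hue, hw, hf, hwf, hjD⟩
    obtain ⟨i, hi⟩ : ∃ i, i = g⁻¹ * j * g := ⟨_, rfl⟩
    have hiX : i ∈ X := hi ▸ mul_mem (mul_mem (inv_mem hg) hjX) hg
    have hij : g * i * g⁻¹ = j := by rw [hi]; group
    have hiπ : Commute i π := mul_inv_eq_iff_eq_mul.1 (by
      rw [hi, show g⁻¹ * j * g * π * (g⁻¹ * j * g)⁻¹ = g⁻¹ * (j * (g * π * g⁻¹) * j⁻¹) * g by group, ← ht, hjt.eq]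
      rw [ht]; group)
    have hiS : i ∈ Std F 4 (Fin 2) := H.pair_cent hπp hiX hiπ
    have hic : Commute i c := hi ▸ (hgc.inv_left.mul_left hjc).mul_left hgc
    have hπi : π * i = g⁻¹ * (t * j) * g := by rw [hi, ht]; group
    have hπiC : Commute (π * i) c := hπc.mul_left hic
    have hπip : IsPair d (π * i) := by
      have e' : (g⁻¹ * y2') * x2 * (g⁻¹ * y2')⁻¹ = π * i := by rw [hπi, ← ex2]; group
      rw [← e']
      refine H.pair_of_conj hu hw hx2 (mul_mem (inv_mem hg) hy2') ?_ (by rw [e', ← hc]; exact hπiC)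
      rw [e']; exact mul_mem (hπ ▸ facG_mem _ _) hiS
    have htr : ((π * i * c : G16) : M16).trace = 4 := by
      rw [hπi, show g⁻¹ * (t * j) * g * c = g⁻¹ * (t * j * c) * g⁻¹⁻¹ by
        rw [mul_assoc _ g c, hgc.eq]; group, trace_conj, htjc]
    have hπ' : π * (π * i) = i := by rw [← mul_assoc, hπ2, one_mul]
    rcases half_shape hd hu hv0 hw huv hπip (hc ▸ hπiC) (hπ ▸ (Commute.refl π).mul_left hiπ) (hc ▸ htr)
      with h | h | ⟨b, hb, hwb, hb'⟩
    · rw [← hπ, hπ'] at h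
      refine absurd ?_ hj1
      rw [← hij, h, mul_one, mul_inv_cancel]
    · rw [← hπ, hπ'] at h
      exact absurd (hij.symm ▸ hD) (H.dbl_not_conj h hg)
    refine ⟨f, b, hf, hwf, hb, hwb, ?_, hjD ▸ hjz⟩
    rw [← hπ, ← hb', hπ', hij, hjD]
  obtain ⟨f, b, hf, hwf, hb, hwb, hD, -⟩ :=
    claim e he0 hue (by rw [heQ, ← mul_assoc]; exact fun ⟨m, hm⟩ => hν ⟨m / Qd d u, by field_simp; linear_combination hm⟩)
      1 (one_mem X) (Commute.one_left c) (Commute.one_right _) (Commute.one_right _)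
  obtain ⟨o, hou, hoe, ho⟩ := hd.exists_orth_ne hu he0 hue
  obtain ⟨o', ho', ou', oe', oo'⟩ := exists_fourth hd hu he0 ho hue hou hoe
  obtain ⟨e2, he2Q, he2⟩ := exists_value_plane hd ho ho' oo' (Qd d u * ν)
  have he20 : Qd d e2 ≠ 0 := he2Q ▸ mul_ne_zero hu hν0
  have hue2 := he2 u hou ou'
  have hee2 := he2 e hoe oe'
  obtain ⟨D, hDdef⟩ : ∃ D, D = facG (0 : Fin 2) (refG d u * refG d e) * facG 1 (refG d w * refG d f) := ⟨_, rfl⟩
  rw [← hDdef] at hD
  have hDX : D ∈ X := hDdef ▸ mul_mem (H.rot_mem 0 hu he0) (H.rot_mem 1 hw hf)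
  have hDc : Commute D c := by
    rw [hDdef]
    refine (hcomm e he0 hue).mul_left ?_
    rw [hc]
    exact (facG_commute (by decide) _ _).mul_right (((Commute.refl _).mul_left (refG_mul_comm hwf).symm).map (facG 1))
  have hsD : Commute (facG (0 : Fin 2) (refG d u * refG d e2)) D := by
    rw [hDdef]
    refine Commute.mul_right ((Commute.mul_left (Commute.mul_right (Commute.refl _) (refG_mul_comm hue))
      (Commute.mul_right (refG_mul_comm hue2).symm (refG_mul_comm hee2).symm)).map (facG 0)) (facG_commute (by decide) _ _)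
  have htD : Commute t D := by
    rw [ht, ← hD]
    have : Commute π (facG (0 : Fin 2) (refG d u * refG d v) * facG 1 (refG d w * refG d b)) := by
      rw [hπ]; exact (Commute.refl _).mul_right (facG_commute (by decide) _ _)
    have := this.map (MulAut.conj g).toMonoidHom
    simpa only [MulEquiv.coe_toMonoidHom, MulAut.conj_apply] using this
  obtain ⟨f2, b2, hf2, hwf2, hb2, hwb2, hD2, hD2D⟩ :=
    claim e2 he20 hue2 (by rw [he2Q, ← mul_assoc]; exact fun ⟨m, hm⟩ => hν ⟨m / Qd d u, by field_simp; linear_combination hm⟩)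
      D hDX hDc hsD htD
  -- the two products of half turns meet in one slot
  obtain ⟨D2, hD2def⟩ : ∃ D2, D2 = facG (0 : Fin 2) (refG d u * refG d e2) * facG 1 (refG d w * refG d f2) := ⟨_, rfl⟩
  rw [← hD2def] at hD2 hD2D
  obtain ⟨K, hK⟩ : ∃ K, K = refG d w * refG d b * (refG d w * refG d b2) := ⟨_, rfl⟩
  obtain ⟨i, hi⟩ : ∃ i, i = facG (0 : Fin 2) (refG d u * refG d v) * facG 1 (refG d w * refG d b) := ⟨_, rfl⟩
  obtain ⟨i2, hi2⟩ : ∃ i2, i2 = facG (0 : Fin 2) (refG d u * refG d v) * facG 1 (refG d w * refG d b2) := ⟨_, rfl⟩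
  rw [← hi] at hD
  rw [← hi2] at hD2
  have hii : i * i2 = facG (1 : Fin 2) K := by
    rw [hi, hi2, (show Commute (facG (1 : Fin 2) (refG d w * refG d b)) (facG 0 (refG d u * refG d v)) from
      facG_commute (by decide) _ _).mul_mul_mul_comm, hsq v huv, one_mul, hK, map_mul (facG 1) (refG d w * refG d b)]
  have hsqw : ∀ z, bform d w z = 0 → facG (1 : Fin 2) (refG d w * refG d z) * facG 1 (refG d w * refG d z) = 1 :=
    fun z hwz => by
      rw [← map_mul]
      nth_rewrite 2 [(refG_mul_comm hwz).eq]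
      rw [mul_assoc, ← mul_assoc (refG d z), refG_mul_self, one_mul, refG_mul_self, map_one]
  have hcii : Commute i i2 := by
    have e' : Commute (g * i * g⁻¹) (g * i2 * g⁻¹) := by rw [hD, hD2]; exact hD2D.symm
    have := e'.map (MulAut.conj g⁻¹).toMonoidHom
    simpa only [MulEquiv.coe_toMonoidHom, MulAut.conj_apply, show g⁻¹ * (g * i * g⁻¹) * g⁻¹⁻¹ = i by group,
      show g⁻¹ * (g * i2 * g⁻¹) * g⁻¹⁻¹ = i2 by group] using this
  have hi_sq : ∀ z, bform d w z = 0 →
      (facG (0 : Fin 2) (refG d u * refG d v) * facG 1 (refG d w * refG d z)) *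
        (facG (0 : Fin 2) (refG d u * refG d v) * facG 1 (refG d w * refG d z)) = 1 := fun z hwz => by
    rw [(show Commute (facG (1 : Fin 2) (refG d w * refG d z)) (facG 0 (refG d u * refG d v)) from
      facG_commute (by decide) _ _).mul_mul_mul_comm, hsq v huv, hsqw z hwz, one_mul]
  have hK2 : K * K = 1 := by
    haveI : NeZero 4 := ⟨by norm_num⟩
    refine facG_inj (1 : Fin 2) ?_
    rw [map_one, map_mul, ← hii, hcii.symm.mul_mul_mul_comm, hi, hi2, hi_sq b hwb, hi_sq b2 hwb2, one_mul]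
  have hKiso : ∀ x z, bform d (K ⬝₄ x) (K ⬝₄ z) = bform d x z := fun x z => by
    rw [hK, gl_mul_mulVec (refG d w * refG d b) (refG d w * refG d b2) x,
      gl_mul_mulVec (refG d w * refG d b) (refG d w * refG d b2) z, bform_refG2 hw hb, bform_refG2 hw hb2]
  have hDD : g * facG (1 : Fin 2) K * g⁻¹ = D * D2 := by rw [← hii, ← hD, ← hD2]; group
  have hDDne : ∀ r : G16, r = 1 ∨ r = -1 → D * D2 ≠ r := fun r hr e' => by
    rw [hDdef, hD2def, (show Commute (facG (1 : Fin 2) (refG d w * refG d f)) (facG 0 (refG d u * refG d e2)) from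
      facG_commute (by decide) _ _).mul_mul_mul_comm, ← map_mul, ← map_mul] at e'
    obtain ⟨L, hL⟩ : ∃ L, L = refG d u * refG d e * (refG d u * refG d e2) := ⟨_, rfl⟩
    obtain ⟨N, hN⟩ : ∃ N, N = refG d w * refG d f * (refG d w * refG d f2) := ⟨_, rfl⟩
    rw [← hL, ← hN] at e'
    have hLs : ∃ c : F, (L : M4) = c • 1 := by
      rcases hr with rfl | rfl
      · obtain ⟨c, -, h, -⟩ := slots_one e'; exact ⟨c, h⟩
      · obtain ⟨c, -, h, -⟩ := slots_one (M := L) (N := -N) (by rw [facG_neg, mul_neg, e', neg_neg])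
        exact ⟨c, h⟩
    obtain ⟨c, hc⟩ := hLs
    have hLu : L ⬝₄ u = u := by
      rw [hL, gl_mul_mulVec, gl_mul_mulVec (refG d u), gl_mul_mulVec (refG d u),
        refG_orth ((bform_comm d e2 u).trans hue2), refG_self hu, Matrix.mulVec_neg,
        refG_orth ((bform_comm d e u).trans hue), Matrix.mulVec_neg, refG_self hu, neg_neg]
    have hLe : L ⬝₄ e = -e := by
      rw [hL, gl_mul_mulVec, gl_mul_mulVec (refG d u), gl_mul_mulVec (refG d u),
        refG_orth ((bform_comm d e2 e).trans hee2), refG_orth hue, refG_self he0, Matrix.mulVec_neg, refG_orth hue]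
    rw [hc, Matrix.smul_mulVec, Matrix.one_mulVec] at hLu hLe
    have c1 : c = 1 := smul_left_injective F (ne_zero_of_Q hu) (hLu.trans (one_smul F u).symm)
    rw [c1, one_smul] at hLe
    exact ne_zero_of_Q he0 ((smul_eq_zero.1 (show (2 : F) • e = 0 by
      rw [two_smul]; exact eq_neg_iff_add_eq_zero.1 hLe)).resolve_left h2)
  have hKO : facG (1 : Fin 2) K ∈ Og d := by
    rw [hK, map_mul]; exact mul_mem (pair_mem hd 1 hw hb) (pair_mem hd 1 hw hb2)
  rcases slot_invol hd hKiso hK2 hKO with h | h | h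
  · exact hDDne 1 (Or.inl rfl) (by rw [← hDD, h, mul_one, mul_inv_cancel])
  · exact hDDne (-1) (Or.inr rfl) (by rw [← hDD, h, mul_neg, mul_one, neg_mul, mul_inv_cancel])
  · refine hgS (H.pair_conj h hg ?_)
    have hD2c : Commute D2 c := by
      rw [hD2def]
      refine (hcomm e2 he20 hue2).mul_left ?_
      rw [hc]
      exact (facG_commute (by decide) _ _).mul_right (((Commute.refl _).mul_left (refG_mul_comm hwf2).symm).map (facG 1))
    refine H.pair_of_conj hu hw h hg ?_ (hc ▸ hDD.symm ▸ hDc.mul_left hD2c)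
    rw [hDD, hDdef, hD2def]
    exact mul_mem (mul_mem (facG_mem _ _) (facG_mem _ _)) (mul_mem (facG_mem _ _) (facG_mem _ _))

end Cfsg.Agent.Classical.OTPow.Four
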