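/-
Conjugates of products of slot reflections, and the images of products of two half turns.
-/
import Cfsg.Agent.Lib.Classical.OTPow.Four.CentC

set_option autoImplicit false
set_option linter.unusedSectionVars false

namespace Cfsg.Agent.Classical.OTPow.Four

open Matrix QuadraticMap
open Cfsg.Agent.Classical
open Cfsg.Agent.Classical.ORefl (Iso toMat)
open Cfsg.Agent.Classical.OOmega (rf)

variable {F : Type*} [Field F] [Fintype F] {d : Fin 4 → F} {X : Subgroup (GL (Fin 2 → Fin 4) F)}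

local notation "G4" => GL (Fin 4) F
local notation "G16" => GL (Fin 2 → Fin 4) F
local notation "M4" => Matrix (Fin 4) (Fin 4) F
local notation "M16" => Matrix (Fin 2 → Fin 4) (Fin 2 → Fin 4) F
local notation:max g:max " ⬝₆ " x:max => ((g : G16) : M16) *ᵥ x
local notation:max g:max " ⬝₄ " x:max => ((g : GL (Fin 4) F) : Matrix (Fin 4) (Fin 4) F) *ᵥ x

theorem cref_ne (hd : Shape d) {a b : Fin 4 → F} (ha : Qd d a ≠ 0) :
    cref d a b ≠ 1 ∧ cref d a b ≠ -1 := by
  obtain ⟨o, ho, hao⟩ := exists_orth_one hd ha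
  have key : ∀ (c : F), (refG d a : M4) = c • 1 → False := fun c hc => by
    have e1 := refG_self (d := d) ha
    have e2 : (refG d a) ⬝₄ o = o := refG_orth hao
    rw [hc, Matrix.smul_mulVec, Matrix.one_mulVec] at e1 e2
    have c1 : c = 1 := smul_left_injective F (ne_zero_of_Q ho) (e2.trans (one_smul F o).symm)
    rw [c1, one_smul] at e1
    exact ne_zero_of_Q ha ((smul_eq_zero.1 (show (2 : F) • a = 0 by
      rw [two_smul]; exact eq_neg_iff_add_eq_zero.1 e1)).resolve_left hd.two)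
  refine ⟨fun e => ?_, fun e => ?_⟩
  · obtain ⟨c, -, h, -⟩ := slots_one e
    exact key c h
  · obtain ⟨c, -, h, -⟩ := slots_one (M := refG d a) (N := -refG d b) (by
      rw [facG_neg, mul_neg]; exact (congrArg Neg.neg e).trans (neg_neg 1))
    exact key c h

theorem cref_mul (x x' y y' : Fin 4 → F) :
    cref d x y * cref d x' y' = facG 0 (refG d x * refG d x') * facG 1 (refG d y * refG d y') := by
  rw [cref, cref, (show Commute (facG (1 : Fin 2) (refG d y)) (facG 0 (refG d x')) from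
    facG_commute (by decide) _ _).mul_mul_mul_comm, ← map_mul, ← map_mul]

/-- Eigenvectors of two half turns with equal product over both slots. -/
theorem dbl_eigen (hd : Shape d) {x x' y y' : Fin 4 → F} (hx : Qd d x ≠ 0) (hxx : bform d x x' = 0)
    (hy : Qd d y ≠ 0) (hyy : bform d y y' = 0) {P P' : G4} (hP : P * P = 1)
    (h : facG (0 : Fin 2) (refG d x * refG d x') * facG 1 (refG d y * refG d y') = facG 0 P * facG 1 P') :
    (P ⬝₄ x = -x ∧ P' ⬝₄ y = -y) ∨ (P ⬝₄ x = x ∧ P' ⬝₄ y = y) := by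
  obtain ⟨c, hc0, h1, h2⟩ := slots_eq h
  have ex : (refG d x * refG d x') ⬝₄ x = -x := by
    rw [gl_mul_mulVec, refG_orth ((bform_comm d x' x).trans hxx), refG_self hx]
  have ey : (refG d y * refG d y') ⬝₄ y = -y := by
    rw [gl_mul_mulVec, refG_orth ((bform_comm d y' y).trans hyy), refG_self hy]
  rw [h1, Matrix.smul_mulVec] at ex
  rw [h2, Matrix.smul_mulVec] at ey
  have ePx : P ⬝₄ x = -(c⁻¹ • x) := by
    rw [← smul_neg, ← ex, inv_smul_smul₀ hc0]
  have ePy : P' ⬝₄ y = -(c • y) := by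
    rw [← smul_neg, ← ey, smul_inv_smul₀ hc0]
  have hcc : c⁻¹ * c⁻¹ = 1 := by
    have e := congrArg (fun z => P ⬝₄ z) ePx
    rw [← gl_mul_mulVec, hP, Units.val_one, Matrix.one_mulVec, Matrix.mulVec_neg, Matrix.mulVec_smul, ePx, smul_neg,
      neg_neg, smul_smul] at e
    exact smul_left_injective F (ne_zero_of_Q hx) (e.symm.trans (one_smul F x).symm)
  rcases mul_self_eq_one_iff.1 hcc with e | e
  · rw [inv_eq_one] at e
    exact Or.inl ⟨by rw [ePx, e, inv_one, one_smul], by rw [ePy, e, one_smul]⟩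
  · have e' : c = -1 := by rw [← inv_inv c, e, inv_neg, inv_one]
    exact Or.inr ⟨by rw [ePx, e, neg_one_smul, neg_neg], by rw [ePy, e', neg_one_smul, neg_neg]⟩

theorem slot_conj (x : ↥(Iso (Qd d))) (b : Fin 4 → F) :
    slotHom d x * refG d b * (slotHom d x)⁻¹ = refG d ((slotHom d x) ⬝₄ b) := by
  rw [refG, ← map_inv, ← map_mul, ← map_mul, OOmega.conj_rf, refG, slotHom_apply]

variable (H : Hyp d X)
include H

/-- An element carrying a product of slot reflections to another is standard. -/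
theorem Hyp.cref_conj {u w a b : Fin 4 → F} (hu : Qd d u ≠ 0) (hw : Qd d w ≠ 0) (ha : Qd d a ≠ 0) (hb : Qd d b ≠ 0)
    {g : G16} (hg : g ∈ X) (h : g * cref d u w * g⁻¹ = cref d a b) : g ∈ Std F 4 (Fin 2) := by
  have hd := H.shape
  obtain ⟨v, hv, huv⟩ := exists_orth_one hd hu
  obtain ⟨π, hπ⟩ : ∃ π, π = facG (0 : Fin 2) (refG d u * refG d v) := ⟨_, rfl⟩
  have hπc : Commute π (cref d u w) := by
    rw [hπ]
    exact ((((Commute.refl _).mul_left (refG_mul_comm huv).symm).map (facG 0))).mul_right (facG_commute (by decide) _ _)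
  have hπp : IsPair d π := ⟨0, u, v, hu, hv, huv, hπ⟩
  have hc : Commute (g * π * g⁻¹) (cref d a b) := by
    rw [← h]
    have := hπc.map (MulAut.conj g).toMonoidHom
    simpa only [MulEquiv.coe_toMonoidHom, MulAut.conj_apply] using this
  have hS := H.cref_cent ha hb (mul_mem (mul_mem hg (hπ ▸ H.rot_mem 0 hu hv)) (inv_mem hg)) hc
  exact H.pair_conj hπp hg (H.pair_of_conj ha hb hπp hg hS hc)

/-- Conjugate products of slot reflections have one square class. -/
theorem Hyp.cref_class {u w a b : Fin 4 → F} (hu : Qd d u ≠ 0) (hw : Qd d w ≠ 0) (ha : Qd d a ≠ 0) (hb : Qd d b ≠ 0)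
    {g : G16} (hg : g ∈ X) (h : g * cref d u w * g⁻¹ = cref d a b) :
    IsSquare (Qd d u * Qd d w * (Qd d a * Qd d b)) := by
  have hd := H.shape
  obtain ⟨A, π, hA⟩ := H.cref_conj hu hw ha hb hg h
  have e : g * cref d u w * g⁻¹ = facG (π 0) (A (π 0) * refG d u * (A (π 0))⁻¹) *
      facG (π 1) (A (π 1) * refG d w * (A (π 1))⁻¹) := by
    rw [hA, ← std_facG A π 0, ← std_facG A π 1]
    group
  rw [h] at e
  -- moved reflections have moved vectors
  have vec : ∀ (B : G4) (x z : Fin 4 → F) (κ : F), Qd d x ≠ 0 → Qd d z ≠ 0 →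
      (refG d z : M4) = κ • ((B * refG d x * B⁻¹ : G4) : M4) → ∃ s : F, B ⬝₄ x = s • z := fun B x z κ hx hz hh => by
    have e2 := congrArg Matrix.trace hh
    rw [Matrix.trace_smul, Units.val_mul, Units.val_mul, Matrix.trace_mul_cycle, ← Units.val_mul, inv_mul_cancel,
      Units.val_one, Matrix.one_mul, trace_refG hd hx, trace_refG hd hz, smul_eq_mul] at e2
    have hκ : κ = 1 := mul_right_cancel₀ hd.two (by linear_combination -e2)
    rw [hκ, one_smul] at hh
    have e3 : (refG d z) ⬝₄ (B ⬝₄ x) = -(B ⬝₄ x) := by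
      rw [Units.ext hh, ← gl_mul_mulVec, inv_mul_cancel_right, gl_mul_mulVec, refG_self hx, Matrix.mulVec_neg]
    refine ⟨bform d z (B ⬝₄ x) / Qd d z, ?_⟩
    rw [refG_apply, eq_neg_iff_add_eq_zero] at e3
    refine smul_right_injective (Fin 4 → F) hd.two ?_
    simp only
    rw [smul_smul, two_smul F (B ⬝₄ x), show 2 * (bform d z (B ⬝₄ x) / Qd d z) =
      (Qd d z)⁻¹ * (2 * bform d z (B ⬝₄ x)) by ring, ← sub_eq_zero, ← e3]
    abel
  obtain ⟨s, hs⟩ : ∃ s : F, Qd d u * Qd d w = s * s * (Qd d a * Qd d b) := by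
    have hI : g ∈ IsoD (wt (σ := Fin 2) d) := H.iso hg
    have hQ := isoD_preserves hd.two hI (tv u w)
    rw [QW_tv hd.two] at hQ
    rcases ((show ∀ π : Equiv.Perm (Fin 2), π = 1 ∨ π = Equiv.swap 0 1 by decide) π) with rfl | rfl
    · simp only [Equiv.Perm.coe_one, id_eq] at e
      obtain ⟨κ, -, h1, h2⟩ := slots_eq e
      obtain ⟨s1, e1⟩ := vec _ _ _ _ hu ha h1
      obtain ⟨s2, e2⟩ := vec _ _ _ _ hw hb h2
      refine ⟨s1 * s2, ?_⟩
      rw [hA, map_one, mul_one, pureG_tv, e1, e2, QW_tv hd.two, QuadraticMap.map_smul, QuadraticMap.map_smul,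
        smul_eq_mul, smul_eq_mul] at hQ
      linear_combination -hQ
    · simp only [Equiv.swap_apply_left, Equiv.swap_apply_right] at e
      rw [(show Commute (facG (1 : Fin 2) (A 1 * refG d u * (A 1)⁻¹)) (facG 0 (A 0 * refG d w * (A 0)⁻¹)) from
        facG_commute (by decide) _ _).eq] at e
      obtain ⟨κ, -, h1, h2⟩ := slots_eq e
      obtain ⟨s1, e1⟩ := vec _ _ _ _ hw ha h1
      obtain ⟨s2, e2⟩ := vec _ _ _ _ hu hb h2
      refine ⟨s1 * s2, ?_⟩
      rw [hA, gl_mul_mulVec, swap_tv, pureG_tv, e1, e2, QW_tv hd.two, QuadraticMap.map_smul, QuadraticMap.map_smul,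
        smul_eq_mul, smul_eq_mul] at hQ
      linear_combination -hQ
  exact ⟨s * (Qd d a * Qd d b), by rw [hs]; ring⟩

/-- The standard part of the conjugates of products of slot reflections. -/
theorem Hyp.ct_of_conj {u w : Fin 4 → F} (hu : Qd d u ≠ 0) (hw : Qd d w ≠ 0) {g : G16} (hg : g ∈ X)
    (hS : g * cref d u w * g⁻¹ ∈ Std F 4 (Fin 2)) : IsCT d (g * cref d u w * g⁻¹) := by
  have hd := H.shape
  have htr : ((g * cref d u w * g⁻¹ : G16) : M16).trace = 4 := by
    rw [trace_conj]; exact IsCT.trace hd ⟨u, w, hu, hw, rfl⟩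
  rcases invol_trace hd hS (H.le (mul_mem (mul_mem hg (H.cref_mem hu hw)) (inv_mem hg)))
      (by rw [show g * cref d u w * g⁻¹ * (g * cref d u w * g⁻¹) = g * (cref d u w * cref d u w) * g⁻¹ by group,
        cref_sq]; group)
      (by rw [htr]; exact four_ne hd) with h | h | h | h
  · exact absurd (mul_left_cancel (a := g) ((mul_inv_eq_one.1 h).trans (mul_one g).symm)) (cref_ne hd hu).1
  · refine absurd ?_ (cref_ne (b := w) hd hu).2
    calc cref d u w = g⁻¹ * (g * cref d u w * g⁻¹) * g := by group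
      _ = -1 := by rw [h, mul_neg, mul_one, neg_mul, inv_mul_cancel]
  · exact h
  · exfalso
    have := h.trace hd
    rw [Units.val_neg, Matrix.trace_neg, htr] at this
    exact four_ne hd ((mul_eq_zero.1 (show 2 * (4 : F) = 0 by linear_combination -this)).resolve_left hd.two)

/-- For a non-standard element, a rotation with image in products of half turns has odd order. -/
theorem Hyp.rot_odd {g : G16} (hg : g ∈ X) (hgS : g ∉ Std F 4 (Fin 2)) (l : Fin 2) {b b' w : Fin 4 → F}
    (hb : Qd d b ≠ 0) (hb' : Qd d b' ≠ 0) (hw : Qd d w ≠ 0) (hbw : bform d b w = 0) (hbw' : bform d b' w = 0)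
    {p1 r1 p2 r2 s1 t1 s2 t2 : Fin 4 → F} (hp1 : Qd d p1 ≠ 0) (hr1 : Qd d r1 ≠ 0) (h1 : bform d p1 r1 = 0)
    (hp2 : Qd d p2 ≠ 0) (hr2 : Qd d r2 ≠ 0) (h2 : bform d p2 r2 = 0)
    (hs1 : Qd d s1 ≠ 0) (ht1 : Qd d t1 ≠ 0) (h1' : bform d s1 t1 = 0)
    (hs2 : Qd d s2 ≠ 0) (ht2 : Qd d t2 ≠ 0) (h2' : bform d s2 t2 = 0)
    (he : g * facG l (refG d b * refG d b') * g⁻¹ =
      facG 0 (refG d p1 * refG d r1 * (refG d p2 * refG d r2)) *
        facG 1 (refG d s1 * refG d t1 * (refG d s2 * refG d t2))) :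
    IsSquare (Qd d b * Qd d b') ∧ bform d b b' ≠ 0 := by
  have hd := H.shape
  haveI : NeZero 4 := ⟨by norm_num⟩
  obtain ⟨K, hK⟩ : ∃ K, K = refG d b * refG d b' := ⟨_, rfl⟩
  have hKw : ∀ n : ℕ, (K ^ n) ⬝₄ w = w := fun n => by
    induction n with
    | zero => simp
    | succ n ih => rw [pow_succ, gl_mul_mulVec, hK, refG2_fix hbw hbw', ← hK, ih]
  have hflip : ∀ x y : G4, x * x = 1 → y * y = 1 → ∀ n : ℕ, x * (x * y) ^ n * x = ((x * y) ^ n)⁻¹ :=
    fun x y hx hy n => by
      have hxi : x⁻¹ = x := inv_eq_of_mul_eq_one_left hx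
      have hyi : y⁻¹ = y := inv_eq_of_mul_eq_one_left hy
      have e : (x * (x * y) * x⁻¹) ^ n = x * (x * y) ^ n * x⁻¹ := conj_pow
      rw [hxi, ← mul_assoc x x y, hx, one_mul, show y * x = (x * y)⁻¹ by rw [_root_.mul_inv_rev, hxi, hyi], inv_pow] at e
      exact e.symm
  have rb : refG d b * refG d b = 1 := refG_mul_self d b
  by_cases hev : Even (orderOf K)
  · exfalso
    obtain ⟨k, hk⟩ := hev
    have hpos : 0 < orderOf K := orderOf_pos K
    have hKk : K ^ k * K ^ k = 1 := by rw [← pow_add, ← hk, pow_orderOf_eq_one]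
    have hKk1 : K ^ k ≠ 1 := fun e =>
      absurd (Nat.le_of_dvd (by omega) (orderOf_dvd_of_pow_eq_one e)) (by omega)
    have hKiso : ∀ n : ℕ, ∀ x z, bform d ((K ^ n) ⬝₄ x) ((K ^ n) ⬝₄ z) = bform d x z := fun n => by
      induction n with
      | zero => simp
      | succ n ih =>
        intro x z
        rw [pow_succ, gl_mul_mulVec, gl_mul_mulVec, ih, hK, bform_refG2 hb hb']
    have hmem : facG l (K ^ k) ∈ Og d := by
      rw [map_pow]; exact pow_mem (by rw [hK, map_mul]; exact refl_refl_mem hd l l hb hb') k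
    have hpair : IsPair d (facG l (K ^ k)) := by
      rcases slot_invol hd (hKiso k) hKk hmem with h | h | h
      · exact absurd (facG_inj l (h.trans (map_one _).symm)) hKk1
      · exfalso
        rw [← facG_neg_one l] at h
        have := hKw k
        rw [facG_inj l h, Units.val_neg, Units.val_one, Matrix.neg_mulVec, Matrix.one_mulVec] at this
        exact ne_zero_of_Q hw ((smul_eq_zero.1 (show (2 : F) • w = 0 by
          rw [two_smul]; exact neg_eq_iff_add_eq_zero.1 this)).resolve_left hd.two)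
      · exact h
    obtain ⟨P1, hP1⟩ : ∃ P, P = refG d p1 * refG d r1 := ⟨_, rfl⟩
    obtain ⟨P2, hP2⟩ : ∃ P, P = refG d p2 * refG d r2 := ⟨_, rfl⟩
    obtain ⟨P1', hP1'⟩ : ∃ P, P = refG d s1 * refG d t1 := ⟨_, rfl⟩
    obtain ⟨P2', hP2'⟩ : ∃ P, P = refG d s2 * refG d t2 := ⟨_, rfl⟩
    rw [← hK, ← hP1, ← hP2, ← hP1', ← hP2'] at he
    obtain ⟨x, hx⟩ : ∃ x, x = g * facG l (K ^ k) * g⁻¹ := ⟨_, rfl⟩
    have hxe : x = facG (0 : Fin 2) ((P1 * P2) ^ k) * facG 1 ((P1' * P2') ^ k) := by
      rw [hx, map_pow, ← conj_pow, he, (show Commute (facG (0 : Fin 2) (P1 * P2)) (facG 1 (P1' * P2')) from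
        facG_commute (by decide) _ _).mul_pow, ← map_pow, ← map_pow]
    have hx2 : x * x = 1 := by
      rw [hx, show g * facG l (K ^ k) * g⁻¹ * (g * facG l (K ^ k) * g⁻¹) = g * (facG l (K ^ k) * facG l (K ^ k)) * g⁻¹ by
        group, ← map_mul, hKk, map_one]
      group
    have hxO : x ∈ Og d := by
      have hKX : facG l (K ^ k) ∈ X := by rw [map_pow, hK]; exact pow_mem (H.rot_mem l hb hb') k
      rw [hx]; exact H.le (mul_mem (mul_mem hg hKX) (inv_mem hg))
    obtain ⟨c, hc0, hA2, hB2⟩ := sq_pure hxe hx2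
    have hinv : ∀ {p r q o : Fin 4 → F}, Qd d p ≠ 0 → Qd d r ≠ 0 → bform d p r = 0 → Qd d q ≠ 0 → Qd d o ≠ 0 →
        bform d q o = 0 → ∀ c : F, c ≠ 0 →
        (((refG d p * refG d r * (refG d q * refG d o)) ^ k * (refG d p * refG d r * (refG d q * refG d o)) ^ k : G4) : M4)
          = c • 1 →
        c = 1 ∧ ∀ y z, bform d (((refG d p * refG d r * (refG d q * refG d o)) ^ k) ⬝₄ y)
          (((refG d p * refG d r * (refG d q * refG d o)) ^ k) ⬝₄ z) = bform d y z :=
      fun {p r q o} hp hr hpr hq ho hqo c hc0 hc => by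
      have pp : refG d p * refG d r * (refG d p * refG d r) = 1 := by
        nth_rewrite 2 [(refG_mul_comm hpr).eq]
        rw [mul_assoc, ← mul_assoc (refG d r), refG_mul_self, one_mul, refG_mul_self]
      have qq : refG d q * refG d o * (refG d q * refG d o) = 1 := by
        nth_rewrite 2 [(refG_mul_comm hqo).eq]
        rw [mul_assoc, ← mul_assoc (refG d o), refG_mul_self, one_mul, refG_mul_self]
      have hi := hflip _ _ pp qq k
      obtain ⟨R, hR⟩ : ∃ R, R = (refG d p * refG d r * (refG d q * refG d o)) ^ k := ⟨_, rfl⟩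
      have hRn : ∀ (n : ℕ) y z, bform d (((refG d p * refG d r * (refG d q * refG d o)) ^ n) ⬝₄ y)
          (((refG d p * refG d r * (refG d q * refG d o)) ^ n) ⬝₄ z) = bform d y z := fun n => by
        induction n with
        | zero => simp
        | succ n ih =>
          intro y z
          rw [pow_succ, gl_mul_mulVec _ (refG d p * refG d r * (refG d q * refG d o)) y,
            gl_mul_mulVec _ (refG d p * refG d r * (refG d q * refG d o)) z, ih,
            gl_mul_mulVec (refG d p * refG d r) (refG d q * refG d o) y,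
            gl_mul_mulVec (refG d p * refG d r) (refG d q * refG d o) z, bform_refG2 hp hr,
            bform_refG2 hq ho]
      have hRiso : ∀ y z, bform d (R ⬝₄ y) (R ⬝₄ z) = bform d y z := by rw [hR]; exact hRn k
      rw [← hR] at hi hc ⊢
      refine ⟨?_, hRiso⟩
      have hRR : ∀ z, R ⬝₄ (R ⬝₄ z) = c • z := fun z => by
        rw [← gl_mul_mulVec, hc, Matrix.smul_mulVec, Matrix.one_mulVec]
      have hcc : c * c = 1 := by
        have := hRiso (R ⬝₄ p) (R ⬝₄ p)
        rw [hRR, hRiso, bsmul, bsmul_left, bform_self] at this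
        exact mul_right_cancel₀ hp (by linear_combination this)
      refine (mul_self_eq_one_iff.1 hcc).resolve_right fun hc1 => ?_
      -- otherwise the plane is moved onto its complement
      obtain ⟨P, hP⟩ : ∃ P, P = refG d p * refG d r := ⟨_, rfl⟩
      rw [← hP] at hi pp
      have hRinv : ∀ z, (R⁻¹ : G4) ⬝₄ z = -(R ⬝₄ z) := fun z => by
        have e := hRR ((R⁻¹ : G4) ⬝₄ z)
        rw [gl_mulVec_inv_cancel, hc1, neg_one_smul] at e
        rw [e, neg_neg]
      have hmove : ∀ z, P ⬝₄ z = -z → P ⬝₄ (R ⬝₄ z) = R ⬝₄ z := fun z hz => by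
        have e := congrArg (fun B : G4 => B ⬝₄ z) hi
        rw [gl_mul_mulVec, gl_mul_mulVec, hz, Matrix.mulVec_neg, Matrix.mulVec_neg, hRinv] at e
        exact neg_inj.1 e
      have hPp : P ⬝₄ p = -p := by
        rw [hP, gl_mul_mulVec, refG_orth ((bform_comm d r p).trans hpr), refG_self hp]
      have hPr : P ⬝₄ r = -r := by rw [hP, gl_mul_mulVec, refG_self hr, Matrix.mulVec_neg, refG_orth hpr]
      have horth : ∀ y z, P ⬝₄ y = -y → P ⬝₄ z = z → bform d y z = 0 := fun y z hy hz => by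
        have e := bform_refG2 hp hr y z
        rw [← hP, hy, hz, bneg_left] at e
        exact (mul_eq_zero.1 (show 2 * bform d y z = 0 by linear_combination -e)).resolve_left hd.two
      have hQR : ∀ z, Qd d (R ⬝₄ z) = Qd d z := fun z => by rw [← bform_self, hRiso, bform_self]
      have hb4 : OB d ![p, r, R ⬝₄ p, R ⬝₄ r] :=
        ob_of_four hp hr (by rw [hQR]; exact hp) (by rw [hQR]; exact hr) hpr (horth _ _ hPp (hmove _ hPp))
          (horth _ _ hPp (hmove _ hPr)) (horth _ _ hPr (hmove _ hPp)) (horth _ _ hPr (hmove _ hPr)) (by rw [hRiso, hpr])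
      have hdisc := hb4.disc hd
      simp only [Fin.prod_univ_four, Matrix.cons_val_zero, Matrix.cons_val_one, Matrix.cons_val, hQR] at hdisc
      exact hdisc ⟨Qd d p * Qd d r, by ring⟩
    obtain ⟨hc1, hAiso⟩ := hinv hp1 hr1 h1 hp2 hr2 h2 c hc0 (by rw [← hP1, ← hP2]; exact hA2)
    obtain ⟨-, hBiso⟩ := hinv hs1 ht1 h1' hs2 ht2 h2' c⁻¹ (inv_ne_zero hc0) (by rw [← hP1', ← hP2']; exact hB2)
    rw [← hP1, ← hP2] at hAiso
    rw [← hP1', ← hP2'] at hBiso
    have htr : ((x : G16) : M16).trace = 0 := by rw [hx, trace_conj, hpair.trace]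
    rcases pure_invol hd hAiso (Units.ext (by rw [hA2, hc1, one_smul, Units.val_one])) hBiso
        (Units.ext (by rw [hB2, hc1, inv_one, one_smul, Units.val_one])) hxe hxO with h | h | h | h | h | h
    · exact sixteen_ne hd (by rw [← trace_one16, ← h]; exact htr)
    · exact sixteen_ne hd (by
        rw [h, Units.val_neg, Matrix.trace_neg, trace_one16, neg_eq_zero] at htr; exact htr)
    · exact hgS (H.pair_conj hpair hg (hx ▸ h))
    · exact four_ne hd ((h.trace hd).symm.trans htr)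
    · have := h.trace hd
      rw [Units.val_neg, Matrix.trace_neg, htr, neg_zero] at this
      exact four_ne hd this.symm
    · exact H.dbl_not_conj hpair hg (hx ▸ h)
  · obtain ⟨m, hm⟩ := Nat.not_even_iff_odd.1 hev
    refine ⟨?_, fun hbb => ?_⟩
    · obtain ⟨ξ, hξ⟩ : ∃ ξ : ↥(Iso (Qd d)), slotHom d ξ = K ^ (m + 1) := ⟨(rf (Qd d) b * rf (Qd d) b') ^ (m + 1), by
        rw [map_pow, map_mul, hK]; rfl⟩
      have hK' : K = K ^ (m + 1) * K ^ (m + 1) := by
        rw [← pow_add, show m + 1 + (m + 1) = 2 * m + 1 + 1 by omega, pow_succ, ← hm, pow_orderOf_eq_one, one_mul]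
      have hbi : (refG d b)⁻¹ = refG d b := inv_eq_of_mul_eq_one_left rb
      have hflb := hflip (refG d b) (refG d b') rb (refG_mul_self d b') (m + 1)
      rw [← hK] at hflb
      have e' : refG d b' = (K ^ (m + 1))⁻¹ * refG d b * K ^ (m + 1) := by
        calc refG d b' = refG d b * K := by rw [hK, ← mul_assoc, rb, one_mul]
          _ = refG d b * K ^ (m + 1) * (refG d b * refG d b) * K ^ (m + 1) := by
              rw [rb, mul_one, mul_assoc, ← hK']
          _ = refG d b * K ^ (m + 1) * refG d b * refG d b * K ^ (m + 1) := by group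
          _ = _ := by rw [hflb]
      have e'' : refG d b' = refG d ((slotHom d ξ⁻¹) ⬝₄ b) := by
        rw [← slot_conj, map_inv, inv_inv, hξ, e']
      have hQ : Qd d ((slotHom d ξ⁻¹) ⬝₄ b) = Qd d b := by
        rw [slotHom_apply]
        exact (ξ⁻¹).2 b
      have hv := refG_eq_vec hd hb' e''
      obtain ⟨s, hs⟩ : ∃ s, s = bform d ((slotHom d ξ⁻¹) ⬝₄ b) b' / Qd d ((slotHom d ξ⁻¹) ⬝₄ b) := ⟨_, rfl⟩
      rw [← hs] at hv
      refine ⟨s * Qd d b, ?_⟩
      rw [hv, QuadraticMap.map_smul, smul_eq_mul, hQ]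
      ring
    · have hKK : K * K = 1 := by
        rw [hK]; nth_rewrite 2 [(refG_mul_comm hbb).eq]
        rw [mul_assoc, ← mul_assoc (refG d b'), refG_mul_self, one_mul, refG_mul_self]
      have hK1 : K = 1 := by
        have e := pow_orderOf_eq_one K
        rw [hm, pow_succ, pow_mul, pow_two, hKK, one_pow, one_mul] at e
        exact e
      have e : refG d b = refG d b' := by
        rw [← mul_one (refG d b), ← refG_mul_self d b', ← mul_assoc, ← hK, hK1, one_mul]
      have := refG_eq_vec hd hb e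
      rw [bform_comm d b' b, hbb, zero_div, zero_smul] at this
      exact ne_zero_of_Q hb this

end Cfsg.Agent.Classical.OTPow.Four
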