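/-
Vectors of a given square class in subspaces of a four space of minus type.
-/
import Cfsg.Agent.Lib.Classical.OTPow.Four.Row
import Mathlib.NumberTheory.LegendreSymbol.QuadraticChar.Basic

set_option autoImplicit false
set_option linter.unusedSectionVars false
set_option linter.unusedFintypeInType false
set_option linter.unusedDecidableInType false

namespace Cfsg.Agent.Classical.OTPow.Four

open Matrix QuadraticMap Finset
open Cfsg.Agent.Classical
attribute [local instance 10] Classical.propDecidable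

variable {F : Type*} [Field F] [Fintype F] {d : Fin 4 → F}

local notation "χ" => quadraticChar F
local notation "q" => (Fintype.card F : ℤ)

theorem ring_ne (h2 : (2 : F) ≠ 0) : ringChar F ≠ 2 := fun e => h2 <| by
  have := ringChar.Nat.cast_ringChar (R := F)
  rw [e] at this
  simpa using this

theorem chi_mul_sq (a : F) {b : F} (hb : b ≠ 0) : χ (a * b ^ 2) = χ a := by
  rw [map_mul, quadraticChar_sq_one' hb, mul_one]

theorem card_sq (h2 : (2 : F) ≠ 0) (a : F) {C : F} (hC : C ≠ 0) :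
    ((univ.filter fun z : F => C * z ^ 2 = a).card : ℤ) = χ (a * C) + 1 := by
  have e : a * C = a / C * C ^ 2 := by field_simp
  rw [e, chi_mul_sq _ hC, ← quadraticChar_card_sqrts (ring_ne h2) (a / C)]
  congr 2
  ext z
  simp only [mem_filter, mem_univ, true_and, Set.mem_toFinset, Set.mem_ofPred_eq, eq_div_iff hC]
  rw [mul_comm C]

theorem sum_chi_sq : ∑ y : F, χ (y ^ 2) = q - 1 := by
  have : ∀ y : F, χ (y ^ 2) = 1 - if y = 0 then 1 else 0 := fun y => by
    by_cases hy : y = 0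
    · simp [hy]
    · rw [quadraticChar_sq_one' hy, if_neg hy, sub_zero]
  rw [Finset.sum_congr rfl fun y _ => this y, Finset.sum_sub_distrib, Finset.sum_ite_eq' univ (0 : F), if_pos (mem_univ _)]
  simp

theorem card_two (h2 : (2 : F) ≠ 0) {A B : F} (hA : A ≠ 0) (hB : B ≠ 0) (c : F) :
    ((univ.filter fun p : F × F => A * p.1 ^ 2 + B * p.2 ^ 2 = c).card : ℤ) =
      q - χ (-(A * B)) + if c = 0 then q * χ (-(A * B)) else 0 := by
  obtain ⟨M, hM⟩ : ∃ M : F → Finset (F × F), ∀ c, M c = univ.filter fun p : F × F => A * p.1 ^ 2 + B * p.2 ^ 2 = c :=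
    ⟨_, fun _ => rfl⟩
  rw [← hM]
  have h0 : ((M 0).card : ℤ) = q + (q - 1) * χ (-(A * B)) := by
    have e : ((M 0).card : ℤ) = ∑ y : F, ((univ.filter fun x : F => A * x ^ 2 = -(B * y ^ 2)).card : ℤ) := by
      rw [hM, card_filter, Nat.cast_sum, Fintype.sum_prod_type_right]
      refine Finset.sum_congr rfl fun y _ => ?_
      rw [card_filter, Nat.cast_sum]
      refine Finset.sum_congr rfl fun x _ => ?_
      simp only [← eq_neg_iff_add_eq_zero]
    rw [e, Finset.sum_congr rfl fun y _ => (card_sq h2 _ hA).trans (by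
        rw [show -(B * y ^ 2) * A = -(A * B) * y ^ 2 by ring, map_mul]),
      Finset.sum_add_distrib, ← Finset.mul_sum, sum_chi_sq]
    simp
    ring
  have hle : ∀ c c' : F, c ≠ 0 → c' ≠ 0 → (M c).card ≤ (M c').card := fun c c' hc hc' => by
    obtain ⟨α, β, hab⟩ := OOmega.exists_rep h2 (one_ne_zero (α := F)) (div_ne_zero hB hA) (c' / c)
    have hr : α ^ 2 + B / A * β ^ 2 ≠ 0 := by
      rw [← one_mul (α ^ 2), hab]; exact div_ne_zero hc' hc
    refine Finset.card_le_card_of_injOn (fun p => (p.1 * α - B / A * (p.2 * β), p.1 * β + p.2 * α)) (fun p hp => ?_) ?_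
    · simp only [hM, coe_filter, mem_univ, true_and, Set.mem_ofPred_eq] at hp ⊢
      calc A * (p.1 * α - B / A * (p.2 * β)) ^ 2 + B * (p.1 * β + p.2 * α) ^ 2
          = (1 * α ^ 2 + B / A * β ^ 2) * (A * p.1 ^ 2 + B * p.2 ^ 2) := by field_simp; ring
        _ = c' := by rw [hab, hp, div_mul_cancel₀ c' hc]
    · rintro ⟨x, y⟩ _ ⟨x', y'⟩ _ h
      simp only [Prod.mk.injEq] at h
      have e1 : (x - x') * α - B / A * ((y - y') * β) = 0 := by linear_combination h.1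
      have e2 : (x - x') * β + (y - y') * α = 0 := by linear_combination h.2
      have f1 : (α ^ 2 + B / A * β ^ 2) * (x - x') = 0 := by linear_combination α * e1 + B / A * β * e2
      have f2 : (α ^ 2 + B / A * β ^ 2) * (y - y') = 0 := by linear_combination α * e2 - β * e1
      exact Prod.ext (sub_eq_zero.1 ((mul_eq_zero.1 f1).resolve_left hr))
        (sub_eq_zero.1 ((mul_eq_zero.1 f2).resolve_left hr))
  by_cases hc : c = 0
  · subst hc
    rw [if_pos rfl, h0]; ring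
  rw [if_neg hc, add_zero]
  have htot : ∑ a : F, ((M a).card : ℤ) = q * q := by
    rw [← Nat.cast_sum, ← Nat.cast_mul, ← Fintype.card_prod, ← card_univ,
      card_eq_sum_card_fiberwise (f := fun p : F × F => A * p.1 ^ 2 + B * p.2 ^ 2) (t := univ) (by simp)]
    simp only [hM]
  rw [← Finset.add_sum_erase univ _ (mem_univ 0), Finset.sum_congr rfl fun a ha => (show ((M a).card : ℤ) = (M c).card from
      congrArg _ (le_antisymm (hle a c (ne_of_mem_erase ha) hc) (hle c a hc (ne_of_mem_erase ha)))),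
    Finset.sum_const, card_erase_of_mem (mem_univ _), card_univ, nsmul_eq_mul, h0,
    Nat.cast_sub Fintype.card_pos] at htot
  have hq : (1 : ℤ) < q := by exact_mod_cast Fintype.one_lt_card
  refine mul_left_cancel₀ (sub_ne_zero.2 hq.ne') ?_
  push_cast at htot
  linear_combination htot

/-- Solutions with two squares split off. -/
theorem card_add_two (h2 : (2 : F) ≠ 0) {A B : F} (hA : A ≠ 0) (hB : B ≠ 0) {T : Type*} [Fintype T] (φ : T → F)
    (c : F) : ((univ.filter fun p : (F × F) × T => A * p.1.1 ^ 2 + B * p.1.2 ^ 2 + φ p.2 = c).card : ℤ) =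
      Fintype.card T * (q - χ (-(A * B))) + q * χ (-(A * B)) * (univ.filter fun t => φ t = c).card := by
  have e : ((univ.filter fun p : (F × F) × T => A * p.1.1 ^ 2 + B * p.1.2 ^ 2 + φ p.2 = c).card : ℤ) =
      ∑ t : T, ((univ.filter fun p : F × F => A * p.1 ^ 2 + B * p.2 ^ 2 = c - φ t).card : ℤ) := by
    rw [card_filter, Nat.cast_sum, Fintype.sum_prod_type_right]
    refine Finset.sum_congr rfl fun t _ => ?_
    rw [card_filter, Nat.cast_sum]
    refine Finset.sum_congr rfl fun x _ => ?_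
    simp only [eq_sub_iff_add_eq]
  rw [e, Finset.sum_congr rfl fun t _ => card_two h2 hA hB (c - φ t), Finset.sum_add_distrib, ← Finset.sum_filter,
    Finset.sum_const, Finset.sum_const, card_univ]
  simp only [nsmul_eq_mul, sub_eq_zero]
  rw [mul_comm (q * χ (-(A * B)))]
  congr 4
  ext t
  simp [eq_comm]

/-- The size of a square class from the sizes of the fibres. -/
theorem class_count (h2 : (2 : F) ≠ 0) {T : Type*} [Fintype T] (φ : T → F) (N M : ℤ)
    (h : ∀ c, c ≠ 0 → ((univ.filter fun t => φ t = c).card : ℤ) = N + M * χ c) {κ : F} (hκ : κ ≠ 0) :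
    2 * ((univ.filter fun t => ¬ IsSquare (φ t * κ)).card : ℤ) = (q - 1) * (N - M * χ κ) := by
  obtain ⟨D, hD⟩ : ∃ D, D = univ.filter fun c : F => ¬ IsSquare (c * κ) := ⟨_, rfl⟩
  have hD2 : 2 * (D.card : ℤ) = q - 1 := by
    have hpt : ∀ c : F, (2 : ℤ) * (if ¬ IsSquare (c * κ) then 1 else 0) = (if c = 0 then 0 else 1) - χ (c * κ) :=
      fun c => by
        by_cases hc : c = 0
        · simp [hc]
        by_cases hs : IsSquare (c * κ)
        · simp [hc, hs, (quadraticChar_one_iff_isSquare (mul_ne_zero hc hκ)).2 hs]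
        · simp [hc, hs, quadraticChar_neg_one_iff_not_isSquare.2 hs]
    rw [hD, card_filter, Nat.cast_sum, Finset.mul_sum]
    push_cast
    rw [Finset.sum_congr rfl fun c _ => hpt c, Finset.sum_sub_distrib,
      Fintype.sum_equiv (Equiv.mulRight₀ κ hκ) (fun c => χ (c * κ)) (fun c => χ c) (fun _ => rfl),
      quadraticChar_sum_zero (ring_ne h2), Finset.sum_ite, Finset.sum_const_zero, Finset.sum_const, zero_add,
      filter_ne' univ (0 : F), card_erase_of_mem (mem_univ _), card_univ]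
    simp [Nat.cast_sub (Fintype.card_pos (α := F))]
  have e : (univ.filter fun t => ¬ IsSquare (φ t * κ)).card = ∑ c ∈ D, (univ.filter fun t => φ t = c).card := by
    rw [card_eq_sum_card_fiberwise (f := φ) (t := D) (fun t ht => by
      rw [hD]
      simpa [coe_filter] using ht)]
    refine Finset.sum_congr rfl fun c hc => ?_
    rw [hD, mem_filter] at hc
    congr 1
    ext t
    simp only [mem_filter, mem_univ, true_and]
    exact ⟨fun h' => h'.2, fun h' => ⟨h' ▸ hc.2, h'⟩⟩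
  rw [e, Nat.cast_sum, Finset.sum_congr rfl (fun c hc => (show _ = N - M * χ κ from ?_)), Finset.sum_const, nsmul_eq_mul,
    ← mul_assoc, hD2]
  rw [hD, mem_filter] at hc
  have hc0 : c ≠ 0 := fun e0 => hc.2 (by rw [e0, zero_mul]; exact IsSquare.zero)
  have e2 := quadraticChar_neg_one_iff_not_isSquare.2 hc.2
  rw [map_mul] at e2
  rw [h c hc0]
  linear_combination M * χ κ * e2 + -M * χ c * quadraticChar_sq_one hκ

/-- The vectors of a square class. -/
noncomputable def cls (d : Fin 4 → F) (S : Finset (Fin 4 → F)) (κ : F) : Finset (Fin 4 → F) :=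
  S.filter fun v => ¬ IsSquare (Qd d v * κ)

theorem mem_cls {S : Finset (Fin 4 → F)} {κ : F} {v : Fin 4 → F} :
    v ∈ cls d S κ ↔ v ∈ S ∧ ¬ IsSquare (Qd d v * κ) := mem_filter

theorem cls_ne {S : Finset (Fin 4 → F)} {κ : F} {v : Fin 4 → F} (h : v ∈ cls d S κ) : Qd d v ≠ 0 :=
  fun e => (mem_cls.1 h).2 (by rw [e, zero_mul]; exact IsSquare.zero)

/-- The orthogonal space of a vector. -/
noncomputable def perp1 (d : Fin 4 → F) (w : Fin 4 → F) : Finset (Fin 4 → F) := univ.filter fun v => bform d w v = 0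

/-- The orthogonal space of two vectors. -/
noncomputable def perp2 (d : Fin 4 → F) (p r : Fin 4 → F) : Finset (Fin 4 → F) :=
  univ.filter fun v => bform d p v = 0 ∧ bform d r v = 0

theorem mem_perp1 {w v : Fin 4 → F} : v ∈ perp1 d w ↔ bform d w v = 0 := by simp [perp1]

theorem mem_perp2 {p r v : Fin 4 → F} : v ∈ perp2 d p r ↔ bform d p v = 0 ∧ bform d r v = 0 := by simp [perp2]

theorem cls_img {T : Type*} [Fintype T] (f : T → Fin 4 → F) (hf : Function.Injective f) (S : Finset (Fin 4 → F))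
    (hS : ∀ v, v ∈ S ↔ ∃ t, f t = v) (κ : F) :
    (cls d S κ).card = (univ.filter fun t => ¬ IsSquare (Qd d (f t) * κ)).card := by
  rw [← Finset.card_image_of_injective _ hf, cls]
  congr 1
  ext v
  simp only [mem_filter, mem_image, mem_univ, true_and, hS]
  exact ⟨fun ⟨⟨t, e⟩, h⟩ => ⟨t, e ▸ h, e⟩, fun ⟨t, h, e⟩ => ⟨⟨t, e⟩, e ▸ h⟩⟩

theorem OB.flip {a b c e : Fin 4 → F} (h : OB d ![a, b, c, e]) : OB d ![c, e, a, b] :=
  ob_of_four (h.ne 2) (h.ne 3) (h.ne 0) (h.ne 1) (h.orth 2 3 (by decide)) (h.orth 2 0 (by decide))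
    (h.orth 2 1 (by decide)) (h.orth 3 0 (by decide)) (h.orth 3 1 (by decide)) (h.orth 0 1 (by decide))

theorem OB.comb {b : Fin 4 → Fin 4 → F} (hb : OB d b) (x y z w : F) :
    (bform d (b 0) (x • b 0 + y • b 1 + z • b 2 + w • b 3) = x * Qd d (b 0) ∧
      bform d (b 1) (x • b 0 + y • b 1 + z • b 2 + w • b 3) = y * Qd d (b 1) ∧
      bform d (b 2) (x • b 0 + y • b 1 + z • b 2 + w • b 3) = z * Qd d (b 2) ∧
      bform d (b 3) (x • b 0 + y • b 1 + z • b 2 + w • b 3) = w * Qd d (b 3)) ∧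
    Qd d (x • b 0 + y • b 1 + z • b 2 + w • b 3) =
      Qd d (b 0) * x ^ 2 + Qd d (b 1) * y ^ 2 + (Qd d (b 2) * z ^ 2 + Qd d (b 3) * w ^ 2) := by
  refine ⟨⟨?_, ?_, ?_, ?_⟩, ?_⟩
  on_goal 5 => rw [← bform_self]
  all_goals
    simp only [badd, badd_left, bsmul, bsmul_left]
    simp only [bform_self, hb.orth 0 1 (by decide), hb.orth 0 2 (by decide), hb.orth 0 3 (by decide),
      hb.orth 1 0 (by decide), hb.orth 1 2 (by decide), hb.orth 1 3 (by decide), hb.orth 2 0 (by decide),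
      hb.orth 2 1 (by decide), hb.orth 2 3 (by decide), hb.orth 3 0 (by decide), hb.orth 3 1 (by decide),
      hb.orth 3 2 (by decide)]
    ring

theorem OB.expand4 {b : Fin 4 → Fin 4 → F} (hb : OB d b) (v : Fin 4 → F) :
    ∃ x y z w : F, x • b 0 + y • b 1 + z • b 2 + w • b 3 = v :=
  ⟨_, _, _, _, (Fin.sum_univ_four _).symm.trans (hb.expand v).symm⟩

theorem OB.coef {b : Fin 4 → Fin 4 → F} (hb : OB d b) {x y z w x' y' z' w' : F}
    (h : x • b 0 + y • b 1 + z • b 2 + w • b 3 = x' • b 0 + y' • b 1 + z' • b 2 + w' • b 3) :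
    x = x' ∧ y = y' ∧ z = z' ∧ w = w' := by
  obtain ⟨⟨a0, a1, a2, a3⟩, -⟩ := hb.comb x y z w
  obtain ⟨⟨c0, c1, c2, c3⟩, -⟩ := hb.comb x' y' z' w'
  rw [h] at a0 a1 a2 a3
  exact ⟨mul_right_cancel₀ (hb.ne 0) (a0.symm.trans c0), mul_right_cancel₀ (hb.ne 1) (a1.symm.trans c1),
    mul_right_cancel₀ (hb.ne 2) (a2.symm.trans c2), mul_right_cancel₀ (hb.ne 3) (a3.symm.trans c3)⟩

/-- A square class in a plane. -/
theorem OB.plane_count (hd : Shape d) {b : Fin 4 → Fin 4 → F} (hb : OB d b) {κ : F} (hκ : κ ≠ 0) :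
    2 * ((cls d (perp2 d (b 0) (b 1)) κ).card : ℤ) = (q - 1) * (q - χ (-(Qd d (b 2) * Qd d (b 3)))) := by
  obtain ⟨f, hf⟩ : ∃ f : F × F → Fin 4 → F, ∀ t, f t = (0 : F) • b 0 + (0 : F) • b 1 + t.1 • b 2 + t.2 • b 3 :=
    ⟨_, fun _ => rfl⟩
  have hQ : ∀ t, Qd d (f t) = Qd d (b 2) * t.1 ^ 2 + Qd d (b 3) * t.2 ^ 2 := fun t => by
    rw [hf, (hb.comb 0 0 t.1 t.2).2]; ring
  rw [cls_img f (fun s t e => by rw [hf, hf] at e; exact Prod.ext (hb.coef e).2.2.1 (hb.coef e).2.2.2) _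
    (fun v => ?_) κ]
  · simp only [hQ]
    rw [class_count hd.two (fun t : F × F => Qd d (b 2) * t.1 ^ 2 + Qd d (b 3) * t.2 ^ 2)
      (q - χ (-(Qd d (b 2) * Qd d (b 3)))) 0 (fun c hc => by
        rw [card_two hd.two (hb.ne 2) (hb.ne 3) c, if_neg hc, add_zero, zero_mul, add_zero]) hκ, zero_mul, sub_zero]
  · rw [mem_perp2]
    constructor
    · rintro ⟨h0, h1⟩
      obtain ⟨x, y, z, w, rfl⟩ := hb.expand4 v
      rw [(hb.comb x y z w).1.1] at h0
      rw [(hb.comb x y z w).1.2.1] at h1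
      refine ⟨(z, w), ?_⟩
      rw [hf, (mul_eq_zero.1 h0).resolve_right (hb.ne 0), (mul_eq_zero.1 h1).resolve_right (hb.ne 1)]
    · rintro ⟨t, rfl⟩
      rw [hf, (hb.comb _ _ _ _).1.1, (hb.comb _ _ _ _).1.2.1, zero_mul, zero_mul]
      exact ⟨rfl, rfl⟩

/-- A square class in the orthogonal space of a vector. -/
theorem OB.three_count (hd : Shape d) {b : Fin 4 → Fin 4 → F} (hb : OB d b) {κ : F} (hκ : κ ≠ 0) :
    2 * ((cls d (perp1 d (b 0)) κ).card : ℤ) =
      (q - 1) * (q ^ 2 - q * χ (-(Qd d (b 1) * Qd d (b 2))) * χ (Qd d (b 3)) * χ κ) := by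
  obtain ⟨f, hf⟩ : ∃ f : (F × F) × F → Fin 4 → F,
      ∀ t, f t = (0 : F) • b 0 + t.1.1 • b 1 + t.1.2 • b 2 + t.2 • b 3 := ⟨_, fun _ => rfl⟩
  have hQ : ∀ t, Qd d (f t) = Qd d (b 1) * t.1.1 ^ 2 + Qd d (b 2) * t.1.2 ^ 2 + Qd d (b 3) * t.2 ^ 2 := fun t => by
    rw [hf, (hb.comb _ _ _ _).2]; ring
  rw [cls_img f (fun s t e => by
    rw [hf, hf] at e
    obtain ⟨-, e1, e2, e3⟩ := hb.coef e
    exact Prod.ext (Prod.ext e1 e2) e3) _ (fun v => ?_) κ]
  · simp only [hQ]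
    exact class_count hd.two
      (fun t : (F × F) × F => Qd d (b 1) * t.1.1 ^ 2 + Qd d (b 2) * t.1.2 ^ 2 + Qd d (b 3) * t.2 ^ 2)
      (q ^ 2) (q * χ (-(Qd d (b 1) * Qd d (b 2))) * χ (Qd d (b 3))) (fun c _ => by
        rw [card_add_two hd.two (hb.ne 1) (hb.ne 2) (fun z => Qd d (b 3) * z ^ 2) c, card_sq hd.two c (hb.ne 3), map_mul]
        ring) hκ
  · rw [mem_perp1]
    constructor
    · intro h0
      obtain ⟨x, y, z, w, rfl⟩ := hb.expand4 v
      rw [(hb.comb x y z w).1.1] at h0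
      refine ⟨((y, z), w), ?_⟩
      rw [hf, (mul_eq_zero.1 h0).resolve_right (hb.ne 0)]
    · rintro ⟨t, rfl⟩
      rw [hf, (hb.comb _ _ _ _).1.1, zero_mul]

theorem OB.kinds_chi (hd : Shape d) {b : Fin 4 → Fin 4 → F} (hb : OB d b) :
    χ (-(Qd d (b 2) * Qd d (b 3))) = -χ (-(Qd d (b 0) * Qd d (b 1))) := by
  have h := hb.disc hd
  rw [Fin.prod_univ_four] at h
  have e : χ (-(Qd d (b 0) * Qd d (b 1))) * χ (-(Qd d (b 2) * Qd d (b 3))) = -1 := by
    rw [← map_mul, quadraticChar_neg_one_iff_not_isSquare,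
      show -(Qd d (b 0) * Qd d (b 1)) * -(Qd d (b 2) * Qd d (b 3)) =
        Qd d (b 0) * Qd d (b 1) * Qd d (b 2) * Qd d (b 3) by ring]
    exact h
  have s := quadraticChar_sq_one (F := F) (neg_ne_zero.2 (mul_ne_zero (hb.ne 0) (hb.ne 1)))
  linear_combination χ (-(Qd d (b 0) * Qd d (b 1))) * e - χ (-(Qd d (b 2) * Qd d (b 3))) * s

/-- A square class in the whole space. -/
theorem four_count (hd : Shape d) {κ : F} (hκ : κ ≠ 0) :
    2 * ((cls d univ κ).card : ℤ) = (q - 1) * (q ^ 3 + q) := by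
  obtain ⟨p, hp⟩ := exists_aniso hd
  obtain ⟨r, hr, hpr⟩ := exists_orth_one hd hp
  obtain ⟨s, t, hb⟩ := exists_ob_pair hd hp hr hpr
  obtain ⟨b, hb'⟩ : ∃ b, b = ![p, r, s, t] := ⟨_, rfl⟩
  rw [← hb'] at hb
  obtain ⟨f, hf⟩ : ∃ f : (F × F) × (F × F) → Fin 4 → F,
      ∀ t, f t = t.1.1 • b 0 + t.1.2 • b 1 + t.2.1 • b 2 + t.2.2 • b 3 := ⟨_, fun _ => rfl⟩
  have hQ : ∀ t, Qd d (f t) = Qd d (b 0) * t.1.1 ^ 2 + Qd d (b 1) * t.1.2 ^ 2 +
      (Qd d (b 2) * t.2.1 ^ 2 + Qd d (b 3) * t.2.2 ^ 2) := fun t => by rw [hf, (hb.comb _ _ _ _).2]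
  rw [cls_img f (fun s t e => by
    rw [hf, hf] at e
    obtain ⟨e0, e1, e2, e3⟩ := hb.coef e
    exact Prod.ext (Prod.ext e0 e1) (Prod.ext e2 e3)) _
    (fun v => ⟨fun _ => by obtain ⟨x, y, z, w, rfl⟩ := hb.expand4 v; exact ⟨((x, y), (z, w)), hf _⟩,
      fun _ => mem_univ _⟩) κ]
  simp only [hQ]
  rw [class_count hd.two (fun t : (F × F) × (F × F) => Qd d (b 0) * t.1.1 ^ 2 + Qd d (b 1) * t.1.2 ^ 2 +
      (Qd d (b 2) * t.2.1 ^ 2 + Qd d (b 3) * t.2.2 ^ 2)) (q ^ 3 + q) 0 (fun c hc => by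
    rw [card_add_two hd.two (hb.ne 0) (hb.ne 1) (fun z : F × F => Qd d (b 2) * z.1 ^ 2 + Qd d (b 3) * z.2 ^ 2) c,
      card_two hd.two (hb.ne 2) (hb.ne 3) c, if_neg hc, hb.kinds_chi hd, Fintype.card_prod]
    push_cast
    linear_combination q * quadraticChar_sq_one (F := F) (neg_ne_zero.2 (mul_ne_zero (hb.ne 0) (hb.ne 1)))) hκ,
    zero_mul, sub_zero]

theorem three_le (hd : Shape d) {w : Fin 4 → F} (hw : Qd d w ≠ 0) {κ : F} (hκ : κ ≠ 0) :
    2 * ((cls d (perp1 d w) κ).card : ℤ) ≤ (q - 1) * (q ^ 2 + q) := by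
  obtain ⟨r, hr, hwr⟩ := exists_orth_one hd hw
  obtain ⟨s, t, hb⟩ := exists_ob_pair hd hw hr hwr
  have e := hb.three_count hd hκ
  rw [show ![w, r, s, t] (0 : Fin 4) = w from rfl] at e
  rw [e]
  have hq : (1 : ℤ) ≤ q := by exact_mod_cast Fintype.card_pos (α := F)
  refine mul_le_mul_of_nonneg_left ?_ (by omega)
  rcases quadraticChar_dichotomy (F := F) (neg_ne_zero.2 (mul_ne_zero (hb.ne 1) (hb.ne 2))) with h1 | h1 <;>
    rcases quadraticChar_dichotomy (F := F) (hb.ne 3) with h3 | h3 <;>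
      rcases quadraticChar_dichotomy (F := F) hκ with h4 | h4 <;> rw [h1, h3, h4] <;> linarith

/-- The two square classes make up the anisotropic vectors. -/
theorem cls_union (h2 : (2 : F) ≠ 0) (S : Finset (Fin 4 → F)) :
    ∃ ν : F, ν ≠ 0 ∧ χ ν = -1 ∧
      (S.filter fun v => Qd d v ≠ 0).card = (cls d S 1).card + (cls d S ν).card := by
  obtain ⟨ν, hν⟩ := quadraticChar_exists_neg_one (F := F) (ring_ne h2)
  have hν0 : ν ≠ 0 := fun e => by simp [e] at hν
  have hns := quadraticChar_neg_one_iff_not_isSquare.1 hν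
  refine ⟨ν, hν0, hν, ?_⟩
  rw [← Finset.card_union_of_disjoint]
  · congr 1
    ext v
    simp only [mem_union, mem_cls, mem_filter, mul_one]
    constructor
    · rintro ⟨hS, hv⟩
      by_cases h : IsSquare (Qd d v)
      · exact Or.inr ⟨hS, fun h' => hns (by
          obtain ⟨a, ha⟩ := h
          obtain ⟨c, hc⟩ := h'
          have ha0 : a ≠ 0 := fun e => hv (by rw [ha, e, mul_zero])
          exact ⟨c / a, by rw [div_mul_div_comm, ← hc, ← ha, mul_div_cancel_left₀ _ hv]⟩)⟩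
      · exact Or.inl ⟨hS, h⟩
    · rintro (⟨hS, h⟩ | ⟨hS, h⟩) <;> exact ⟨hS, fun e => h (by rw [e]; simp)⟩
  · rw [Finset.disjoint_left]
    intro v h1 h2'
    rw [mem_cls, mul_one] at h1
    exact (mem_cls.1 h2').2 (nsq_mul h2 h1.2 hns)

theorem three_all (hd : Shape d) {w : Fin 4 → F} (hw : Qd d w ≠ 0) :
    (((perp1 d w).filter fun v => Qd d v ≠ 0).card : ℤ) = (q - 1) * q ^ 2 := by
  obtain ⟨r, hr, hwr⟩ := exists_orth_one hd hw
  obtain ⟨s, t, hb⟩ := exists_ob_pair hd hw hr hwr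
  obtain ⟨ν, hν, hc, e⟩ := cls_union (d := d) hd.two (perp1 d w)
  have e1 := hb.three_count hd (one_ne_zero (α := F))
  have e2 := hb.three_count hd hν
  rw [show ![w, r, s, t] (0 : Fin 4) = w from rfl] at e1 e2
  rw [MulChar.map_one] at e1
  rw [hc] at e2
  rw [e]
  push_cast
  refine mul_left_cancel₀ (two_ne_zero (α := ℤ)) ?_
  linear_combination e1 + e2

theorem plane_ge (hd : Shape d) {p r : Fin 4 → F} (hp : Qd d p ≠ 0) (hr : Qd d r ≠ 0) (hpr : bform d p r = 0) {κ : F}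
    (hκ : κ ≠ 0) : (q - 1) * (q - 1) ≤ 2 * ((cls d (perp2 d p r) κ).card : ℤ) := by
  obtain ⟨s, t, hb⟩ := exists_ob_pair hd hp hr hpr
  have e := hb.plane_count hd hκ
  rw [show ![p, r, s, t] (0 : Fin 4) = p from rfl, show ![p, r, s, t] (1 : Fin 4) = r from rfl] at e
  rw [e]
  have hq : (1 : ℤ) ≤ q := by exact_mod_cast Fintype.card_pos (α := F)
  refine mul_le_mul_of_nonneg_left ?_ (by omega)
  rcases quadraticChar_dichotomy (F := F) (neg_ne_zero.2 (mul_ne_zero (hb.ne 2) (hb.ne 3))) with h | h <;>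
    rw [h] <;> linarith

/-- Pairs with product in a square class. -/
theorem pair_count (h2 : (2 : F) ≠ 0) (U W : Finset (Fin 4 → F)) {NU NW : ℤ}
    (hU : ∀ κ : F, κ ≠ 0 → 2 * ((cls d U κ).card : ℤ) = NU) (hW : ∀ κ : F, κ ≠ 0 → 2 * ((cls d W κ).card : ℤ) = NW)
    {κ : F} (hκ : κ ≠ 0) :
    2 * (((U ×ˢ W).filter fun z => ¬ IsSquare (Qd d z.1 * Qd d z.2 * κ)).card : ℤ) = NU * NW := by
  have e : ((U ×ˢ W).filter fun z => ¬ IsSquare (Qd d z.1 * Qd d z.2 * κ)).card =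
      ∑ x ∈ U, (cls d W (Qd d x * κ)).card := by
    rw [card_filter, Finset.sum_product]
    refine Finset.sum_congr rfl fun x _ => ?_
    rw [cls, card_filter]
    refine Finset.sum_congr rfl fun y _ => ?_
    rw [mul_left_comm (Qd d y), mul_assoc]
  rw [e, Nat.cast_sum, Finset.mul_sum, ← Finset.sum_filter_add_sum_filter_not U (fun x => Qd d x ≠ 0),
    Finset.sum_congr rfl (fun x hx => hW _ (mul_ne_zero (mem_filter.1 hx).2 hκ)), Finset.sum_const, nsmul_eq_mul,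
    Finset.sum_eq_zero (s := U.filter fun x => ¬ Qd d x ≠ 0) (fun x hx => by
      have h0 : Qd d x = 0 := not_not.1 (mem_filter.1 hx).2
      have h' : cls d W (Qd d x * κ) = ∅ := Finset.eq_empty_of_forall_notMem fun y hy =>
        (mem_cls.1 hy).2 (by rw [h0]; simp)
      rw [h']; simp), add_zero]
  obtain ⟨ν, hν, -, ec⟩ := cls_union (d := d) h2 U
  rw [ec]
  push_cast
  refine mul_left_cancel₀ (two_ne_zero (α := ℤ)) ?_
  linear_combination (hU 1 one_ne_zero) * NW + (hU ν hν) * NW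

/-- Pairs in two planes or in their complements with product in a square class. -/
theorem OB.fibre_count (hd : Shape d) {b b' : Fin 4 → Fin 4 → F} (hb : OB d b) (hb' : OB d b')
    {bf bf' : Fin 4 → Fin 4 → F} (hbf : OB d bf) (hbf' : OB d bf') 
    (e1 : bf 0 = b 2 ∧ bf 1 = b 3 ∧ bf 2 = b 0 ∧ bf 3 = b 1)
    (e2 : bf' 0 = b' 2 ∧ bf' 1 = b' 3 ∧ bf' 2 = b' 0 ∧ bf' 3 = b' 1) {κ : F} (hκ : κ ≠ 0) :
    2 * ((((perp2 d (b 0) (b 1)) ×ˢ (perp2 d (b' 0) (b' 1))).filter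
        fun z => ¬ IsSquare (Qd d z.1 * Qd d z.2 * κ)).card : ℤ) +
      2 * ((((perp2 d (b 2) (b 3)) ×ˢ (perp2 d (b' 2) (b' 3))).filter
        fun z => ¬ IsSquare (Qd d z.1 * Qd d z.2 * κ)).card : ℤ) ≤ 2 * (q - 1) ^ 2 * (q ^ 2 + 1) := by
  have a1 := pair_count hd.two _ _ (fun k hk => hb.plane_count hd hk) (fun k hk => hb'.plane_count hd hk) hκ
  have a2 := pair_count hd.two _ _ (fun k hk => hbf.plane_count hd hk) (fun k hk => hbf'.plane_count hd hk) hκ
  rw [e1.1, e1.2.1, e1.2.2.1, e1.2.2.2, e2.1, e2.2.1, e2.2.2.1, e2.2.2.2] at a2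
  rw [a1, a2, hb.kinds_chi hd, hb'.kinds_chi hd]
  have hq : (1 : ℤ) ≤ q := by exact_mod_cast Fintype.card_pos (α := F)
  rcases quadraticChar_dichotomy (F := F) (neg_ne_zero.2 (mul_ne_zero (hb.ne 0) (hb.ne 1))) with h | h <;>
    rcases quadraticChar_dichotomy (F := F) (neg_ne_zero.2 (mul_ne_zero (hb'.ne 0) (hb'.ne 1))) with h' | h' <;>
      rw [h, h'] <;> nlinarith

end Cfsg.Agent.Classical.OTPow.Four
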