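/-
Proper overgroups of the stabiliser of a tensor square of four spaces are standard.
-/
import Cfsg.Agent.Lib.Classical.OTPow.Four.Count

set_option autoImplicit false
set_option linter.unusedSectionVars false
set_option linter.unusedFintypeInType false

namespace Cfsg.Agent.Classical.OTPow.Four

open Matrix QuadraticMap Finset
open Cfsg.Agent.Classical

attribute [local instance 10] Classical.propDecidable

variable {F : Type*} [Field F] [Fintype F] {d : Fin 4 → F} {X : Subgroup (GL (Fin 2 → Fin 4) F)}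

local notation "G4" => GL (Fin 4) F
local notation "G16" => GL (Fin 2 → Fin 4) F
local notation:max g:max " ⬝₄ " x:max => ((g : GL (Fin 4) F) : Matrix (Fin 4) (Fin 4) F) *ᵥ x
local notation "q" => (Fintype.card F : ℤ)

theorem half_sq {p r : Fin 4 → F} (hpr : bform d p r = 0) :
    refG d p * refG d r * (refG d p * refG d r) = 1 := by
  nth_rewrite 2 [(refG_mul_comm hpr).eq]
  rw [mul_assoc, ← mul_assoc (refG d r), refG_mul_self, one_mul, refG_mul_self]

/-- The product of two orthogonal products of slot reflections. -/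
theorem cref_comm2 {u a w b : Fin 4 → F} (hua : bform d u a = 0) (hwb : bform d w b = 0) :
    Commute (cref d u w) (cref d a b) := by
  show cref d u w * cref d a b = cref d a b * cref d u w
  rw [cref_mul, cref_mul, (refG_mul_comm hua).eq, (refG_mul_comm hwb).eq]

variable (H : Hyp d X)
include H

/-- A product of slot reflections of the other class gives a pair of half turns. -/
theorem Hyp.exists_dbl {g : G16} (hg : g ∈ X) (hgS : g ∉ Std F 4 (Fin 2)) {u w x y : Fin 4 → F} (hu : Qd d u ≠ 0)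
    (hw : Qd d w ≠ 0) (hxy : ¬ IsSquare (Qd d x * Qd d y * (Qd d u * Qd d w))) :
    ∃ a b, Qd d a ≠ 0 ∧ Qd d b ≠ 0 ∧ bform d u a = 0 ∧ bform d w b = 0 ∧
      ∃ x' y', Qd d x' ≠ 0 ∧ Qd d y' ≠ 0 ∧ bform d x x' = 0 ∧ bform d y y' = 0 ∧
        g * (cref d u w * cref d a b) * g⁻¹ = cref d x y * cref d x' y' := by
  have hd := H.shape
  have hx : Qd d x ≠ 0 := fun e => hxy (by rw [e, zero_mul, zero_mul]; exact IsSquare.zero)
  have hy : Qd d y ≠ 0 := fun e => hxy (by rw [e, mul_zero, zero_mul]; exact IsSquare.zero)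
  obtain ⟨c, hc⟩ : ∃ c, c = cref d u w := ⟨_, rfl⟩
  obtain ⟨s, hs⟩ : ∃ s, s = cref d x y := ⟨_, rfl⟩
  obtain ⟨t, ht⟩ : ∃ t, t = g * c * g⁻¹ := ⟨_, rfl⟩
  rw [← hc]
  have hcX : c ∈ X := hc ▸ H.cref_mem hu hw
  have hsX : s ∈ X := hs ▸ H.cref_mem hx hy
  have htX : t ∈ X := ht ▸ mul_mem (mul_mem hg hcX) (inv_mem hg)
  have hc2 : c * c = 1 := hc ▸ cref_sq u w
  have hs2 : s * s = 1 := hs ▸ cref_sq x y
  have ht2 : t * t = 1 := by
    rw [ht, show g * c * g⁻¹ * (g * c * g⁻¹) = g * (c * c) * g⁻¹ by group, hc2]; group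
  obtain ⟨j, hjX, -, hj1, hjs, hjt, ⟨y1, hy1, e1⟩, y2, hy2, e2⟩ :=
    dihedral X hsX htX hs2 ht2 fun z hz e => hxy (H.cref_class (g := g⁻¹ * z) hx hy hu hw
      (mul_mem (inv_mem hg) hz) (by
        rw [← hs, ← hc, show g⁻¹ * z * s * (g⁻¹ * z)⁻¹ = g⁻¹ * (z * s * z⁻¹) * g by group, e, ht]; group))
  have hcS : c ∈ Std F 4 (Fin 2) := hc ▸ mul_mem (facG_mem _ _) (facG_mem _ _)
  have hsS : s ∈ Std F 4 (Fin 2) := hs ▸ mul_mem (facG_mem _ _) (facG_mem _ _)
  have hjS : j ∈ Std F 4 (Fin 2) := H.cref_cent hx hy hjX (hs ▸ hjs)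
  -- conjugates inside the standard group
  have ct : ∀ z : G16, z ∈ Std F 4 (Fin 2) → (∃ y ∈ X, y * s * y⁻¹ = z ∨ y * c * y⁻¹ = z) → IsCT d z := by
    rintro z hz ⟨y', hy', rfl | rfl⟩
    · rw [hs] at hz ⊢
      exact H.ct_of_conj hx hy hy' hz
    · rw [hc] at hz ⊢
      exact H.ct_of_conj hu hw hy' hz
  -- half turns through two products
  have split : ∀ {p p' r r' : Fin 4 → F} {z : G16}, Qd d p ≠ 0 → Qd d p' ≠ 0 → Qd d r ≠ 0 → Qd d r' ≠ 0 →
      z = cref d p r * cref d p' r' → Commute (cref d p r) (cref d p' r') → z ≠ 1 → ¬ IsPair d z →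
      bform d p p' = 0 ∧ bform d r r' = 0 := fun {p p' r r' z} hp hp' hr hr' hz hcom hz1 hnp => by
    obtain ⟨h1, h2⟩ := cref_commute_cases hd hp hr hp' hr' hcom
    rw [cref_mul] at hz
    rcases h1 with h1 | h1 <;> rcases h2 with h2 | h2
    · refine absurd ?_ hz1
      rw [hz, h1, h2, refG_mul_self, refG_mul_self, map_one, map_one, mul_one]
    · refine absurd ⟨1, r, r', hr, hr', h2, ?_⟩ hnp
      rw [hz, h1, refG_mul_self, map_one, one_mul]
    · refine absurd ⟨0, p, p', hp, hp', h1, ?_⟩ hnp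
      rw [hz, h2, refG_mul_self, map_one, mul_one]
    · exact ⟨h1, h2⟩
  have hjc : ∀ i : G16, i = g⁻¹ * j * g → Commute i c := fun i hi => by
    have := hjt.map (MulAut.conj g⁻¹).toMonoidHom
    simp only [MulEquiv.coe_toMonoidHom, MulAut.conj_apply, inv_inv, ht] at this
    rwa [← hi, show g⁻¹ * (g * c * g⁻¹) * g = c by group] at this
  obtain ⟨x', y', hx', hy', ex⟩ := ct (s * j) (mul_mem hsS hjS) (by
    rcases e1 with e | e
    · exact ⟨y1, hy1, Or.inl e⟩
    · exact ⟨y1 * g, mul_mem hy1 hg, Or.inr (by rw [← e, ht]; group)⟩)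
  have ej : j = cref d x y * cref d x' y' := by
    rw [← ex, ← hs, ← mul_assoc, hs2, one_mul]
  have hjnp : ¬ IsPair d j := fun hp => hgS <| by
    have htS := H.pair_cent hp htX hjt.symm
    rw [ht] at htS
    obtain ⟨a, b, ha, hb, eab⟩ := ct _ htS ⟨g, hg, Or.inr rfl⟩
    rw [hc] at eab
    exact H.cref_conj hu hw ha hb hg eab
  obtain ⟨hxx, hyy⟩ := split hx hx' hy hy' ej (by rw [← ex, ← hs]; exact (Commute.refl s).mul_right hjs.symm) hj1 hjnp
  have hjD : IsDbl d j := ⟨x, x', y, y', hx, hx', hxx, hy, hy', hyy, by rw [ej, cref_mul]⟩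
  obtain ⟨i, hi⟩ : ∃ i, i = g⁻¹ * j * g := ⟨_, rfl⟩
  have hiX : i ∈ X := hi ▸ mul_mem (mul_mem (inv_mem hg) hjX) hg
  have hgi : g * i * g⁻¹ = j := by rw [hi]; group
  have hiS : i ∈ Std F 4 (Fin 2) := H.cref_cent hu hw hiX (hc ▸ hjc i hi)
  obtain ⟨a, b, ha, hb, eab⟩ := ct (c * i) (mul_mem hcS hiS) (by
    have e : c * i = g⁻¹ * (t * j) * g := by rw [hi, ht]; group
    rcases e2 with e' | e'
    · exact ⟨g⁻¹ * y2, mul_mem (inv_mem hg) hy2, Or.inl (by rw [e, ← e']; group)⟩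
    · exact ⟨g⁻¹ * y2 * g, mul_mem (mul_mem (inv_mem hg) hy2) hg, Or.inr (by rw [e, ← e', ht]; group)⟩)
  have ei : i = cref d u w * cref d a b := by rw [← eab, ← hc, ← mul_assoc, hc2, one_mul]
  obtain ⟨hua, hwb⟩ := split hu ha hw hb ei
    (by rw [← eab, ← hc]; exact (Commute.refl c).mul_right (hjc i hi).symm)
    (fun e => hj1 (by rw [← hgi, e]; group)) (fun hp => H.dbl_not_conj hp hg (hgi.symm ▸ hjD))
  exact ⟨a, b, ha, hb, hua, hwb, x', y', hx', hy', hxx, hyy, by rw [hc, ← ei, hgi, ej]⟩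

/-- Two pairs of half turns sharing a slot. -/
theorem Hyp.dbl_two {g : G16} (hg : g ∈ X) (hgS : g ∉ Std F 4 (Fin 2)) (l : Fin 2) {b b' z : Fin 4 → F}
    (hb : Qd d b ≠ 0) (hb' : Qd d b' ≠ 0) (hz : Qd d z ≠ 0) (hzb : bform d z b = 0) (hzb' : bform d z b' = 0)
    {I I' : G16} (hI : IsDbl d (g * I * g⁻¹)) (hI' : IsDbl d (g * I' * g⁻¹))
    (he : I * I' = facG l (refG d b * refG d b')) : IsSquare (Qd d b * Qd d b') ∧ bform d b b' ≠ 0 := by
  obtain ⟨p1, r1, s1, t1, hp1, hr1, h1, hs1, ht1, h1', e1⟩ := hI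
  obtain ⟨p2, r2, s2, t2, hp2, hr2, h2, hs2, ht2, h2', e2⟩ := hI'
  refine H.rot_odd hg hgS l hb hb' hz ((bform_comm d b z).trans hzb) ((bform_comm d b' z).trans hzb')
    hp1 hr1 h1 hp2 hr2 h2 hs1 ht1 h1' hs2 ht2 h2' ?_
  rw [← he, show g * (I * I') * g⁻¹ = g * I * g⁻¹ * (g * I' * g⁻¹) by group, e1, e2,
    (show Commute (facG (1 : Fin 2) (refG d s1 * refG d t1)) (facG 0 (refG d p2 * refG d r2)) from
      facG_commute (by decide) _ _).mul_mul_mul_comm, ← map_mul, ← map_mul]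

/-- Proper overgroups of the standard part are standard. -/
theorem Hyp.le_std : X ≤ Std F 4 (Fin 2) := by
  intro g hg
  by_contra hgS
  have hd := H.shape
  have h2 := hd.two
  obtain ⟨u, hu⟩ := exists_aniso hd
  obtain ⟨I, hI⟩ : ∃ I : (Fin 4 → F) → (Fin 4 → F) → G16, ∀ a b, I a b = cref d u u * cref d a b :=
    ⟨_, fun _ _ => rfl⟩
  have hκ : Qd d u * Qd d u ≠ 0 := mul_ne_zero hu hu
  obtain ⟨A, hA⟩ : ∃ A, A = (perp1 d u).filter fun v => Qd d v ≠ 0 := ⟨_, rfl⟩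
  obtain ⟨row, hrow⟩ : ∃ row : (Fin 4 → F) → Finset (Fin 4 → F),
      ∀ a, row a = A.filter fun b => IsDbl d (g * I a b * g⁻¹) := ⟨_, fun _ => rfl⟩
  obtain ⟨T, hT⟩ : ∃ T, T = (A ×ˢ A).filter fun z => IsDbl d (g * I z.1 z.2 * g⁻¹) := ⟨_, rfl⟩
  obtain ⟨S, hS⟩ : ∃ S, S = ((univ : Finset (Fin 4 → F)) ×ˢ (univ : Finset (Fin 4 → F))).filter
      fun z => ¬ IsSquare (Qd d z.1 * Qd d z.2 * (Qd d u * Qd d u)) := ⟨_, rfl⟩
  have memA : ∀ {v}, v ∈ A ↔ bform d u v = 0 ∧ Qd d v ≠ 0 := fun {v} => by rw [hA, mem_filter, mem_perp1]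
  have memrow : ∀ {a b}, b ∈ row a ↔ b ∈ A ∧ IsDbl d (g * I a b * g⁻¹) := fun {a b} => by rw [hrow, mem_filter]
  have hq : (2 : ℤ) ≤ q := by exact_mod_cast Fintype.one_lt_card
  have hS2 : 2 * (S.card : ℤ) = (q - 1) * (q ^ 3 + q) * ((q - 1) * (q ^ 3 + q)) := by
    rw [hS]
    exact pair_count h2 _ _ (fun k hk => four_count hd hk) (fun k hk => four_count hd hk) hκ
  -- the relation
  obtain ⟨R, hR⟩ : ∃ R : (Fin 4 → F) × (Fin 4 → F) → (Fin 4 → F) × (Fin 4 → F) → Prop, ∀ s t, R s t ↔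
      ∃ x' y', Qd d x' ≠ 0 ∧ Qd d y' ≠ 0 ∧ bform d s.1 x' = 0 ∧ bform d s.2 y' = 0 ∧
        g * I t.1 t.2 * g⁻¹ = cref d s.1 s.2 * cref d x' y' := ⟨_, fun _ _ => Iff.rfl⟩
  have above : ∀ s ∈ S, (q - 1) ^ 2 ≤ ((T.filter fun t => R s t).card : ℤ) := fun s hs => by
    rw [hS, mem_filter] at hs
    obtain ⟨a, b, ha, hb, hua, hub, x', y', hx', hy', hxx, hyy, e⟩ := H.exists_dbl hg hgS hu hu hs.2
    rw [← hI] at e
    have hs1 : Qd d s.1 ≠ 0 := fun e => hs.2 (by rw [e, zero_mul, zero_mul]; exact IsSquare.zero)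
    have hs2 : Qd d s.2 ≠ 0 := fun e => hs.2 (by rw [e, mul_zero, zero_mul]; exact IsSquare.zero)
    have hsub : ((univ.erase (0 : F)) ×ˢ (univ.erase (0 : F))).image (fun z => (z.1 • a, z.2 • b)) ⊆
        T.filter fun t => R s t := by
      intro t ht
      obtain ⟨⟨m, n⟩, hmn, rfl⟩ := mem_image.1 ht
      simp only [mem_product, mem_erase, mem_univ, and_true] at hmn
      have eI : I (m • a) (n • b) = I a b := by
        rw [hI, hI, cref, cref, refG_smul d a hmn.1, refG_smul d b hmn.2]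
      refine mem_filter.2 ⟨?_, (hR _ _).2 ⟨x', y', hx', hy', hxx, hyy, by rw [eI]; exact e⟩⟩
      rw [hT, mem_filter]
      refine ⟨mem_product.2 ⟨memA.2 ⟨by rw [bsmul, hua, mul_zero], ?_⟩, memA.2 ⟨by rw [bsmul, hub, mul_zero], ?_⟩⟩,
        s.1, x', s.2, y', hs1, hx', hxx, hs2, hy', hyy, by rw [eI, e, cref_mul]⟩
      · rw [QuadraticMap.map_smul]; simp [hmn.1, ha]
      · rw [QuadraticMap.map_smul]; simp [hmn.2, hb]
    refine le_trans (le_of_eq ?_) (Int.ofNat_le.2 (card_le_card hsub))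
    rw [card_image_of_injective _ (fun x y h => Prod.ext (smul_left_injective F (ne_zero_of_Q ha) (congrArg Prod.fst h))
      (smul_left_injective F (ne_zero_of_Q hb) (congrArg Prod.snd h))), card_product, card_erase_of_mem (mem_univ _),
      card_univ]
    push_cast [Nat.cast_sub (Fintype.card_pos (α := F))]
    ring
  have below : ∀ t ∈ T, ((S.filter fun s => R s t).card : ℤ) ≤ (q - 1) ^ 2 * (q ^ 2 + 1) := fun t ht => by
    rw [hT, mem_filter] at ht
    obtain ⟨p, r, p', r', hp, hr, hpr, hp', hr', hpr', e⟩ := ht.2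
    obtain ⟨o, o1, hb⟩ := exists_ob_pair hd hp hr hpr
    obtain ⟨o', o1', hb'⟩ := exists_ob_pair hd hp' hr' hpr'
    have key := OB.fibre_count hd hb hb' hb.flip hb'.flip ⟨rfl, rfl, rfl, rfl⟩ ⟨rfl, rfl, rfl, rfl⟩ hκ
    simp only [Matrix.cons_val_zero, Matrix.cons_val_one, Matrix.cons_val] at key
    have hsub : (S.filter fun s => R s t) ⊆
        ((perp2 d p r ×ˢ perp2 d p' r').filter fun z => ¬ IsSquare (Qd d z.1 * Qd d z.2 * (Qd d u * Qd d u))) ∪
        ((perp2 d o o1 ×ˢ perp2 d o' o1').filter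
          fun z => ¬ IsSquare (Qd d z.1 * Qd d z.2 * (Qd d u * Qd d u))) := by
      rintro ⟨x, y⟩ hxy
      obtain ⟨hxS, hRxy⟩ := mem_filter.1 hxy
      rw [hS, mem_filter] at hxS
      obtain ⟨x', y', hx', hy', hxx, hyy, e'⟩ := (hR _ _).1 hRxy
      have hx : Qd d x ≠ 0 := fun e => hxS.2 (by simp [e])
      have hy : Qd d y ≠ 0 := fun e => hxS.2 (by simp [e])
      rw [e, cref_mul] at e'
      obtain ⟨P, hP⟩ : ∃ P, P = refG d p * refG d r := ⟨_, rfl⟩
      obtain ⟨P', hP'⟩ : ∃ P, P = refG d p' * refG d r' := ⟨_, rfl⟩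
      rw [← hP, ← hP'] at e'
      -- eigenvectors lie in the planes
      have plus : ∀ {p r : Fin 4 → F}, Qd d p ≠ 0 → Qd d r ≠ 0 → bform d p r = 0 → ∀ v,
          (refG d p * refG d r) ⬝₄ v = v → v ∈ perp2 d p r := fun {p r} hp hr hpr v hv => by
        have h1 := bform_refG2 hp hr p v
        have h3 := bform_refG2 hp hr r v
        rw [hv, gl_mul_mulVec, refG_orth ((bform_comm d r p).trans hpr), refG_self hp, bneg_left] at h1
        rw [hv, gl_mul_mulVec, refG_self hr, Matrix.mulVec_neg, refG_orth hpr, bneg_left] at h3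
        exact mem_perp2.2 ⟨(mul_eq_zero.1 (show 2 * bform d p v = 0 by linear_combination -h1)).resolve_left h2,
          (mul_eq_zero.1 (show 2 * bform d r v = 0 by linear_combination -h3)).resolve_left h2⟩
      have minus : ∀ {p r s z : Fin 4 → F}, OB d ![p, r, s, z] → ∀ v,
          (refG d p * refG d r) ⬝₄ v = -v → v ∈ perp2 d s z := fun {p r s z} hh v hv => by
        have f1 : (refG d p * refG d r) ⬝₄ s = s := refG2_fix (hh.orth 0 2 (by decide)) (hh.orth 1 2 (by decide))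
        have f2 : (refG d p * refG d r) ⬝₄ z = z := refG2_fix (hh.orth 0 3 (by decide)) (hh.orth 1 3 (by decide))
        have h1 := bform_refG2 (hh.ne 0) (hh.ne 1) s v
        have h3 := bform_refG2 (hh.ne 0) (hh.ne 1) z v
        simp only [Matrix.cons_val_zero, Matrix.cons_val_one] at h1 h3
        rw [f1, hv, bneg] at h1
        rw [f2, hv, bneg] at h3
        exact mem_perp2.2 ⟨(mul_eq_zero.1 (show 2 * bform d s v = 0 by linear_combination -h1)).resolve_left h2,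
          (mul_eq_zero.1 (show 2 * bform d z v = 0 by linear_combination -h3)).resolve_left h2⟩
      refine mem_union.2 ((dbl_eigen hd hx hxx hy hyy (hP ▸ half_sq hpr) e'.symm).symm.imp (fun h => ?_) fun h => ?_)
      · rw [hP, hP'] at h
        exact mem_filter.2 ⟨mem_product.2 ⟨plus hp hr hpr x h.1, plus hp' hr' hpr' y h.2⟩, hxS.2⟩
      · rw [hP, hP'] at h
        exact mem_filter.2 ⟨mem_product.2 ⟨minus hb x h.1, minus hb' y h.2⟩, hxS.2⟩
    have := Int.ofNat_le.2 ((card_le_card hsub).trans (card_union_le _ _))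
    push_cast at this
    linarith
  have hdc : (S.card : ℤ) * (q - 1) ^ 2 ≤ (T.card : ℤ) * ((q - 1) ^ 2 * (q ^ 2 + 1)) := by
    have e := sum_card_bipartiteAbove_eq_sum_card_bipartiteBelow (s := S) (t := T) R
    have e' := congrArg (fun n : ℕ => (n : ℤ)) e
    simp only [Nat.cast_sum] at e'
    have l1 := Finset.card_nsmul_le_sum S (fun s => ((T.bipartiteAbove R s).card : ℤ)) _ above
    have l2 := Finset.sum_le_card_nsmul T (fun t => ((S.bipartiteBelow R t).card : ℤ)) _ below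
    rw [nsmul_eq_mul] at l1 l2
    linarith
  -- rows
  have hcA : (A.card : ℤ) = (q - 1) * q ^ 2 := hA ▸ three_all hd hu
  have hprod : ∀ {a b a' b'}, bform d u a = 0 → bform d u b = 0 → I a b * I a' b' =
      facG 0 (refG d a * refG d a') * facG 1 (refG d b * refG d b') := fun {a b a' b'} ha hb => by
    rw [hI, hI, ← cref_mul a a' b b', show cref d u u * cref d a b * (cref d u u * cref d a' b') =
      cref d u u * (cref d a b * cref d u u) * cref d a' b' by group, ← (cref_comm2 ha hb).eq, ← mul_assoc (cref d u u) (cref d u u), cref_sq, one_mul]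
  have rowfact : ∀ a ∈ A, ∀ b ∈ row a, ∀ b' ∈ row a, IsSquare (Qd d b * Qd d b') ∧ bform d b b' ≠ 0 :=
    fun a ha b hb b' hb' => by
      obtain ⟨hbA, hbD⟩ := memrow.1 hb
      obtain ⟨hbA', hbD'⟩ := memrow.1 hb'
      exact H.dbl_two hg hgS 1 (memA.1 hbA).2 (memA.1 hbA').2 hu (memA.1 hbA).1 (memA.1 hbA').1 hbD hbD'
        (by rw [hprod (memA.1 ha).1 (memA.1 hbA).1, refG_mul_self, map_one, one_mul])
  have hrow_le : ∀ a ∈ A, 2 * ((row a).card : ℤ) ≤ (q - 1) * (q ^ 2 + 1) := fun a ha => by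
    rcases (row a).eq_empty_or_nonempty with h | ⟨b, hb⟩
    · rw [h]; simp; nlinarith
    obtain ⟨ν, hν, hνc, -⟩ := cls_union (d := d) h2 ∅
    have hns := quadraticChar_neg_one_iff_not_isSquare.1 hνc
    obtain ⟨hub, hb0⟩ := memA.1 (memrow.1 hb).1
    have hk : ν * Qd d b ≠ 0 := mul_ne_zero hν hb0
    have hsub : row a ⊆ cls d (perp1 d u) (ν * Qd d b) \ cls d (perp2 d u b) (ν * Qd d b) := fun b' hb' => by
      obtain ⟨h1, h3⟩ := rowfact a ha b hb b' hb'
      obtain ⟨hub', hb0'⟩ := memA.1 (memrow.1 hb').1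
      refine mem_sdiff.2 ⟨mem_cls.2 ⟨mem_perp1.2 hub', fun h => hns ?_⟩, fun h => h3 (mem_perp2.1 (mem_cls.1 h).1).2⟩
      obtain ⟨m, hm⟩ := h
      obtain ⟨n, hn⟩ := h1
      have hn0 : n ≠ 0 := fun e => mul_ne_zero hb0 hb0' (by rw [hn, e, mul_zero])
      exact ⟨m / n, by rw [div_mul_div_comm, ← hm, ← hn]; field_simp⟩
    have hsub2 : cls d (perp2 d u b) (ν * Qd d b) ⊆ cls d (perp1 d u) (ν * Qd d b) := fun v hv => by
      rw [mem_cls, mem_perp2] at hv
      rw [mem_cls, mem_perp1]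
      exact ⟨hv.1.1, hv.2⟩
    have l := Int.ofNat_le.2 (card_le_card hsub)
    rw [card_sdiff_of_subset hsub2, Nat.cast_sub (card_le_card hsub2)] at l
    have l1 := three_le hd hu hk
    have l2 := plane_ge hd hu hb0 hub hk
    linarith
  -- two rows of different classes
  obtain ⟨o1, o2, ho1, ho2, u1, u2, o12⟩ := exists_orth_pair hd hu
  obtain ⟨ν, hν, hνc, -⟩ := cls_union (d := d) h2 ∅
  obtain ⟨a1, hQ1, hv1⟩ := exists_value_plane hd ho1 ho2 o12 1
  obtain ⟨a2, hQ2, hv2⟩ := exists_value_plane hd ho1 ho2 o12 ν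
  have ha1 : a1 ∈ A := memA.2 ⟨hv1 u u1 u2, by rw [hQ1]; exact one_ne_zero⟩
  have ha2 : a2 ∈ A := memA.2 ⟨hv2 u u1 u2, by rw [hQ2]; exact hν⟩
  have h12 : a1 ≠ a2 := fun e => quadraticChar_neg_one_iff_not_isSquare.1 hνc (by
    rw [← hQ2, ← e, hQ1]; exact IsSquare.one)
  have hdis : Disjoint (row a1) (row a2) := Finset.disjoint_left.2 fun b hb1 hb2 => by
    obtain ⟨hbA, hbD⟩ := memrow.1 hb1
    obtain ⟨-, hbD'⟩ := memrow.1 hb2
    obtain ⟨hsq, -⟩ := H.dbl_two hg hgS 0 (memA.1 ha1).2 (memA.1 ha2).2 hu (memA.1 ha1).1 (memA.1 ha2).1 hbD hbD'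
      (by rw [hprod (memA.1 ha1).1 (memA.1 hbA).1, refG_mul_self, map_one, mul_one])
    rw [hQ1, hQ2, one_mul] at hsq
    exact quadraticChar_neg_one_iff_not_isSquare.1 hνc hsq
  have h12le : ((row a1).card : ℤ) + (row a2).card ≤ A.card := by
    rw [← Nat.cast_add, ← card_union_of_disjoint hdis]
    exact_mod_cast card_le_card (union_subset (fun b hb => (memrow.1 hb).1) (fun b hb => (memrow.1 hb).1))
  have hTs : (T.card : ℤ) = ∑ a ∈ A, ((row a).card : ℤ) := by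
    rw [hT, card_filter, sum_product, Nat.cast_sum]
    refine Finset.sum_congr rfl fun a _ => ?_
    rw [hrow, card_filter]
  have ha2' : a2 ∈ A.erase a1 := mem_erase.2 ⟨h12.symm, ha2⟩
  rw [← Finset.add_sum_erase A _ ha1, ← Finset.add_sum_erase _ _ ha2'] at hTs
  have hrest : 2 * ∑ a ∈ (A.erase a1).erase a2, ((row a).card : ℤ) ≤
      ((A.card : ℤ) - 2) * ((q - 1) * (q ^ 2 + 1)) := by
    rw [Finset.mul_sum]
    refine (Finset.sum_le_card_nsmul _ _ _ fun a ha => hrow_le a (mem_of_mem_erase (mem_of_mem_erase ha))).trans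
      (le_of_eq ?_)
    have c1 := Finset.card_erase_add_one ha1
    have c2 := Finset.card_erase_add_one ha2'
    rw [nsmul_eq_mul, ← c1, ← c2]
    push_cast
    ring
  have hlt : 2 * (T.card : ℤ) < (q - 1) * q ^ 2 * ((q - 1) * (q ^ 2 + 1)) := by
    rw [hTs, ← hcA]
    nlinarith
  have hsq : (0 : ℤ) < (q - 1) ^ 2 := by nlinarith
  have hle : (S.card : ℤ) ≤ T.card * (q ^ 2 + 1) := le_of_mul_le_mul_right (by linarith) hsq
  have hm := mul_lt_mul_of_pos_right hlt (show (0 : ℤ) < q ^ 2 + 1 by nlinarith)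
  nlinarith

end Cfsg.Agent.Classical.OTPow.Four
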