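/-
The stabiliser of a tensor square of four spaces of minus type is maximal in Ω.
-/
import Cfsg.Agent.Lib.Classical.OTPow.Four.Main
import Cfsg.Agent.Lib.Classical.OTPow.Even

set_option autoImplicit false
set_option linter.unusedSectionVars false

namespace Cfsg.Agent.Classical.OTPow.Four

open Matrix QuadraticMap
open Cfsg.Agent.Classical

variable {F : Type*} [Field F] [Fintype F] {ι : Type} [Fintype ι] [DecidableEq ι]

/-- The stabiliser of a tensor square of four spaces of minus type is maximal in Ω. -/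
theorem isMaximalIn_four (h2 : (2 : F) ≠ 0) (Qf : QuadraticForm F (ι → F)) (e : ι ≃ (Fin 2 → Fin 4)) (P : GL ι F)
    {f : (Fin 4 → F) → (Fin 4 → F) → F} (hf : Cfsg.Geo.IsSymmetricForm f)
    (hminus : ¬ Cfsg.Geo.IsPlusTypeOn (fun v => f v v) ⊤)
    (hT : Cfsg.Geo.IsTensorPowerFormStructure id (QuadraticMap.polar Qf) f e P) :
    Cfsg.Geo.IsMaximalIn (Cfsg.Geo.omegaGL ⇑Qf)
      (Cfsg.Geo.tensorWreathSubgroup 4 2 e P ⊓ Cfsg.Geo.omegaGL ⇑Qf) := by
  classical
  obtain ⟨d, A, hd, hA⟩ := exists_shape h2 le_rfl (by decide) hf fun _ => hminus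
  obtain ⟨c₀, hc₀, hT⟩ := hT
  refine isMaximalIn_of_dich (d := d) (c := c₀ / 2) le_rfl Qf e P A hd (div_ne_zero hc₀ h2) (fun x => ?_)
    fun X hX hS => ?_
  · obtain ⟨z, hz⟩ : ∃ z, z = ((pureG (fun _ : Fin 2 => A) :
        GL (Fin 2 → Fin 4) F) : Matrix (Fin 2 → Fin 4) (Fin 2 → Fin 4) F) *ᵥ x := ⟨_, rfl⟩
    have h := hT z z
    rw [QuadraticMap.polar_self, nsmul_eq_mul] at h
    have hsum : (∑ a, ∑ b, z a * (∏ i, Cfsg.Geo.gramMatrix f (a i) (b i)) * id (z b)) =
        z ⬝ᵥ (pureS (fun _ : Fin 2 => Cfsg.Geo.gramMatrix f) *ᵥ z) := by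
      simp only [dotProduct, Matrix.mulVec, pureS_apply, id, Finset.mul_sum]
      exact Finset.sum_congr rfl fun a _ => Finset.sum_congr rfl fun b _ => by ring
    rw [hsum, hz, mulVec_gram, pureG_val, pureS_transpose, pureS_mul, pureS_mul, hA, pureS_diagonal,
      Nat.cast_ofNat] at h
    rw [← hz, eq_comm, div_mul_eq_mul_div, div_eq_iff h2]
    rw [hz, pureG_val, ← mul_comm (2 : F), h, QW_dot]
    rfl
  · by_cases hprop : Og d ≤ X
    · exact Or.inr hprop
    · exact Or.inl (Hyp.le_std ⟨hd, hX, hS, hprop⟩)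

end Cfsg.Agent.Classical.OTPow.Four
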